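import Cfsg.Agent.Lib.UThreeLocal.Loc.Elem
import Cfsg.Agent.Lib.PSpAmalgam.Defs

/-!
# The action on `Q₂/Z` as a map to `SL₂(3)`
-/

set_option autoImplicit false
set_option linter.unusedSectionVars false
set_option linter.style.haveILetI false

namespace Cfsg.Agent.UThreeLocal.Cand

open Subgroup
open Cfsg.Agent.PSpAmalgam (SL3)
open scoped commutatorElement

universe u

variable {G : Type u} [Group G] [Finite G]

/-- The exponent of an element of `⟨z⟩`. -/
noncomputable def lg (z w : G) : ZMod 3 :=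
  haveI := Classical.propDecidable
  if w = z then 1 else if w = z⁻¹ then -1 else 0

theorem zp_cases {Z : Subgroup G} {z w : G} (hc : Nat.card Z = 3) (hz : z ∈ Z) (hz1 : z ≠ 1) (hw : w ∈ Z) :
    w = 1 ∨ w = z ∨ w = z⁻¹ := by
  haveI : Fact (Nat.Prime 3) := ⟨Nat.prime_three⟩
  have h3 : z ^ 3 = 1 := by
    have := pow_card_eq_one' (x := (⟨z, hz⟩ : ↥Z))
    rw [hc] at this
    simpa using congrArg Subtype.val this
  obtain ⟨k, rfl⟩ := (Submonoid.mem_powers_iff _ _).1
    (mem_powers_iff_mem_zpowers.2 ((zpowers_eq_of_prime hc hz hz1).ge hw))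
  rw [pow_eq_pow_mod k h3]
  rcases (by omega : k % 3 = 0 ∨ k % 3 = 1 ∨ k % 3 = 2) with e | e | e <;> rw [e]
  · exact Or.inl (pow_zero z)
  · exact Or.inr (Or.inl (pow_one z))
  · exact Or.inr (Or.inr (eq_inv_of_mul_eq_one_left (by rw [← pow_succ, h3])))

section

variable {Z : Subgroup G} {z : G} (hc : Nat.card Z = 3) (hz : z ∈ Z) (hz1 : z ≠ 1)
include hc hz hz1

theorem lg_values : lg z (1 : G) = 0 ∧ lg z z = 1 ∧ lg z z⁻¹ = -1 := by
  have h3 : z ^ 3 = 1 := by
    have := pow_card_eq_one' (x := (⟨z, hz⟩ : ↥Z))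
    rw [hc] at this
    simpa using congrArg Subtype.val this
  have hne : z⁻¹ ≠ z := fun e => hz1 (by
    have h2 : z * z = 1 := by nth_rw 1 [← e]; exact inv_mul_cancel z
    rwa [pow_succ, pow_two, h2, one_mul] at h3)
  refine ⟨?_, ?_, ?_⟩ <;> simp [lg, hz1, hz1.symm, hne, inv_eq_one]

theorem lg_eq_zero {w : G} (hw : w ∈ Z) : lg z w = 0 ↔ w = 1 := by
  obtain ⟨v0, v1, v2⟩ := lg_values hc hz hz1
  rcases zp_cases hc hz hz1 hw with rfl | rfl | rfl
  · simp [v0]
  · rw [v1]; exact iff_of_false (by decide) hz1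
  · rw [v2]; exact iff_of_false (by decide) (inv_ne_one.2 hz1)

theorem lg_mul {v w : G} (hv : v ∈ Z) (hw : w ∈ Z) : lg z (v * w) = lg z v + lg z w := by
  obtain ⟨v0, v1, v2⟩ := lg_values hc hz hz1
  have h3 : z * z = z⁻¹ := by
    refine eq_inv_of_mul_eq_one_left ?_
    have := pow_card_eq_one' (x := (⟨z, hz⟩ : ↥Z))
    rw [hc] at this
    rw [← pow_two, ← pow_succ]
    simpa using congrArg Subtype.val this
  have h3' : z⁻¹ * z⁻¹ = z := by rw [← mul_inv_rev, h3, inv_inv]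
  rcases zp_cases hc hz hz1 hv with rfl | rfl | rfl <;>
    rcases zp_cases hc hz hz1 hw with rfl | rfl | rfl <;>
    simp only [one_mul, mul_one, h3, h3', mul_inv_cancel, inv_mul_cancel, v0, v1, v2] <;> decide

end

theorem det_facts : ∀ a b c d : ZMod 3, a * d - c * b = 1 → (!![a, b; c, d] : Matrix (Fin 2) (Fin 2) (ZMod 3)).det = 1 := by
  intro a b c d h
  rw [Matrix.det_fin_two_of, mul_comm b c, h]

/-- An action on `Q₂/Z` by a map to `SL₂(3)` whose kernel acts trivially. -/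
theorem exists_sl_action {Z Q Q1 Q2 L1 L2 : Subgroup G} {t1 t2 z : G} (F : Frame Z Q Q1 Q2 L1 L2 t1 t2)
    (hz : z ∈ Z) (hz1 : z ≠ 1) {K : Subgroup G} (hKC : K ≤ centralizer (Z : Set G))
    (hKN : K ≤ normalizer (Q2 : Set G)) :
    ∃ π : ↥K →* SL3, ∀ k : ↥K, π k = 1 ↔ Triv Z Q2 (k : G) := by
  classical
  have h := F.set
  have hc3 := h.Z_card
  have le2 := F.pair.le2
  obtain ⟨u, hu, huZ⟩ : ∃ u ∈ Q2, u ∉ Z := by
    by_contra hc
    push Not at hc
    have := Subgroup.card_le_of_le (show Q2 ≤ Z from hc)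
    rw [F.pair.card2, hc3] at this
    omega
  obtain ⟨v, hv, huv⟩ : ∃ v ∈ Q2, ⁅u, v⁆ = z := by
    obtain ⟨b, hb, hab⟩ := F.pair.symm.exists_noncomm h hu huZ
    have hbZ := h.comm_mem (le2 hu) (le2 hb)
    rcases zp_cases hc3 hz hz1 hbZ with e | e | e
    · exact absurd (commutatorElement_eq_one_iff_mul_comm.1 e) hab
    · exact ⟨b, hb, e⟩
    · refine ⟨b⁻¹, inv_mem hb, ?_⟩
      have h2 := h.comm_mul_right (inv_mem (le2 hb)) (le2 hb) (le2 hu)
      rw [inv_mul_cancel, commutatorElement_one_right, e] at h2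
      exact (mul_inv_eq_one.1 h2.symm)
  let om : G → G → ZMod 3 := fun x y => lg z ⁅x, y⁆
  have omL : ∀ a b c, a ∈ Q2 → b ∈ Q2 → c ∈ Q2 → om (a * b) c = om a c + om b c := fun a b c ha hb hc => by
    simp only [om, h.comm_mul_left (le2 ha) (le2 hb) (le2 hc)]
    exact lg_mul hc3 hz hz1 (h.comm_mem (le2 ha) (le2 hc)) (h.comm_mem (le2 hb) (le2 hc))
  have omR : ∀ a b c, a ∈ Q2 → b ∈ Q2 → c ∈ Q2 → om c (a * b) = om c a + om c b := fun a b c ha hb hc => by
    simp only [om, h.comm_mul_right (le2 ha) (le2 hb) (le2 hc)]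
    exact lg_mul hc3 hz hz1 (h.comm_mem (le2 hc) (le2 ha)) (h.comm_mem (le2 hc) (le2 hb))
  have omself : ∀ a, om a a = 0 := fun a => by
    simp only [om, commutatorElement_self]
    exact (lg_values hc3 hz hz1).1
  have omone : ∀ a, om 1 a = 0 ∧ om a 1 = 0 := fun a => by
    simp only [om, commutatorElement_one_left, commutatorElement_one_right]
    exact ⟨(lg_values hc3 hz hz1).1, (lg_values hc3 hz hz1).1⟩
  have omuv : om u v = 1 := by simp only [om, huv]; exact (lg_values hc3 hz hz1).2.1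
  have omvu : om v u = -1 := by
    show lg z ⁅v, u⁆ = -1
    rw [← commutatorElement_inv u v, huv]
    exact (lg_values hc3 hz hz1).2.2
  -- coordinates
  let c1 : G → ZMod 3 := fun x => om x v
  let c2 : G → ZMod 3 := fun x => om u x
  have omZ : ∀ a w, a ∈ Q2 → w ∈ Z → om w a = 0 ∧ om a w = 0 := fun a w ha hw => by
    refine ⟨(lg_eq_zero hc3 hz hz1 (h.comm_mem (h.Z_le hw) (le2 ha))).2
      (commutatorElement_eq_one_iff_mul_comm.2 (h.comm_Z (le2 ha) hw)),
      (lg_eq_zero hc3 hz hz1 (h.comm_mem (le2 ha) (h.Z_le hw))).2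
      (commutatorElement_eq_one_iff_mul_comm.2 (h.comm_Z (le2 ha) hw).symm)⟩
  have pw : ∀ (a x : G) (n : ℕ), a ∈ Q2 → x ∈ Q2 → om (a ^ n) x = n * om a x ∧ om x (a ^ n) = n * om x a := by
    intro a x n ha hx
    induction n with
    | zero => simp [omone]
    | succ n ih =>
      rw [pow_succ, omL _ _ _ (pow_mem ha n) ha hx, omR _ _ _ (pow_mem ha n) ha hx, ih.1, ih.2]
      push_cast
      constructor <;> ring
  have hdec : ∀ x ∈ Q2, ∃ w ∈ Z, x = u ^ (c1 x).val * v ^ (c2 x).val * w := by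
    intro x hx
    set s := u ^ (c1 x).val * v ^ (c2 x).val with hs
    have hsQ : s ∈ Q2 := mul_mem (pow_mem hu _) (pow_mem hv _)
    have hw : s⁻¹ * x ∈ Q2 := mul_mem (inv_mem hsQ) hx
    refine ⟨s⁻¹ * x, ?_, by rw [mul_inv_cancel_left]⟩
    have e1 : om (s⁻¹ * x) v = 0 := by
      have h1 := omL s (s⁻¹ * x) v hsQ hw hv
      rw [mul_inv_cancel_left, hs, omL _ _ _ (pow_mem hu _) (pow_mem hv _) hv, (pw u v _ hu hv).1,
        (pw v v _ hv hv).1, omuv, omself, mul_zero, mul_one, add_zero, ZMod.natCast_val, ZMod.cast_id] at h1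
      exact left_eq_add.1 h1
    have e2 : om u (s⁻¹ * x) = 0 := by
      have h1 := omR s (s⁻¹ * x) u hsQ hw hu
      rw [mul_inv_cancel_left, hs, omR _ _ _ (pow_mem hu _) (pow_mem hv _) hu, (pw u u _ hu hu).2,
        (pw v u _ hv hu).2, omuv, omself, mul_zero, mul_one, zero_add, ZMod.natCast_val, ZMod.cast_id] at h1
      exact left_eq_add.1 h1
    have hvu : u * v ≠ v * u := fun e => hz1 (huv ▸ commutatorElement_eq_one_iff_mul_comm.2 e)
    have hcu := commutatorElement_eq_one_iff_mul_comm.1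
      ((lg_eq_zero hc3 hz hz1 (h.comm_mem (le2 hu) (le2 hw))).1 e2)
    have hcv := commutatorElement_eq_one_iff_mul_comm.1
      ((lg_eq_zero hc3 hz hz1 (h.comm_mem (le2 hw) (le2 hv))).1 e1)
    have hcent := F.pair.symm.cent_of_gens h hu hv hvu (h.Q_le (le2 hw)) hcu.symm hcv
    refine h.mem_Z_of_comm (le2 hw) fun y hy => ?_
    obtain ⟨a, ha, b, hb, rfl⟩ := F.pair.dec y hy
    have e3 : a * (s⁻¹ * x) = (s⁻¹ * x) * a := F.pair.comm a ha _ hw
    rw [mul_assoc, mem_centralizer_iff.1 hcent b hb, ← mul_assoc, e3, mul_assoc]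
  -- the matrices
  have hN : ∀ (k : ↥K), ∀ x ∈ Q2, (k : G) * x * (k : G)⁻¹ ∈ Q2 := fun k x hx =>
    (mem_normalizer_iff.1 (hKN k.2) x).1 hx
  let cj : ↥K → G → G := fun k x => (k : G) * x * (k : G)⁻¹
  have hlin : ∀ (k : ↥K) (x : G), x ∈ Q2 →
      c1 (cj k x) = c1 x * c1 (cj k u) + c2 x * c1 (cj k v) ∧
      c2 (cj k x) = c1 x * c2 (cj k u) + c2 x * c2 (cj k v) := by
    intro k x hx
    obtain ⟨w, hw, e⟩ := hdec x hx
    generalize c1 x = i at e ⊢
    generalize c2 x = j at e ⊢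
    have e' : cj k x = cj k u ^ i.val * cj k v ^ j.val * w := by
      simp only [cj, conj_pow]
      rw [e]
      calc (k : G) * (u ^ i.val * v ^ j.val * w) * (k : G)⁻¹
          = ((k : G) * u ^ i.val * (k : G)⁻¹) * ((k : G) * v ^ j.val * (k : G)⁻¹) * ((k : G) * w * (k : G)⁻¹) := by
            group
        _ = _ := by rw [h.conj_Z (hKC k.2) hw]
    have mu := hN k u hu
    have mv := hN k v hv
    have mp := mul_mem (pow_mem mu i.val) (pow_mem mv j.val)
    simp only [c1, c2]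
    constructor
    · rw [e', omL _ _ _ mp (F.pair.Z2 hw) hv, (omZ v w hv hw).1, add_zero,
        omL _ _ _ (pow_mem mu _) (pow_mem mv _) hv, (pw _ v _ mu hv).1, (pw _ v _ mv hv).1]
      simp only [ZMod.natCast_val, ZMod.cast_id', id_eq]
      rfl
    · rw [e', omR _ _ _ mp (F.pair.Z2 hw) hu, (omZ u w hu hw).2, add_zero,
        omR _ _ _ (pow_mem mu _) (pow_mem mv _) hu, (pw _ u _ mu hu).2, (pw _ u _ mv hu).2]
      simp only [ZMod.natCast_val, ZMod.cast_id', id_eq]
      rfl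
  have hdet : ∀ k : ↥K, c1 (cj k u) * c2 (cj k v) - c2 (cj k u) * c1 (cj k v) = 1 := by
    intro k
    have mu := hN k u hu
    have mv := hN k v hv
    have e1 : om (cj k u) (cj k v) = 1 := by
      simp only [om, cj]
      rw [show ⁅(k : G) * u * (k : G)⁻¹, (k : G) * v * (k : G)⁻¹⁆ = (k : G) * ⁅u, v⁆ * (k : G)⁻¹ by
        simp only [commutatorElement_def]; group, huv, h.conj_Z (hKC k.2) hz]
      exact (lg_values hc3 hz hz1).2.1
    obtain ⟨w, hw, e⟩ := hdec (cj k u) mu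
    rw [e] at e1
    generalize c1 (cj k u) = i at e1 ⊢
    generalize c2 (cj k u) = j at e1 ⊢
    rw [omL _ _ _ (mul_mem (pow_mem hu _) (pow_mem hv _)) (F.pair.Z2 hw) mv, (omZ _ w mv hw).1, add_zero,
      omL _ _ _ (pow_mem hu _) (pow_mem hv _) mv, (pw u _ _ hu mv).1, (pw v _ _ hv mv).1] at e1
    have e2 : om v (cj k v) = - c1 (cj k v) := by
      show lg z ⁅v, cj k v⁆ = - lg z ⁅cj k v, v⁆
      rw [← commutatorElement_inv (cj k v) v]
      rcases zp_cases hc3 hz hz1 (h.comm_mem (le2 mv) (le2 hv)) with e0 | e0 | e0 <;> rw [e0] <;>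
        simp [(lg_values hc3 hz hz1).1, (lg_values hc3 hz hz1).2.1, (lg_values hc3 hz hz1).2.2]
    rw [e2] at e1
    simp only [ZMod.natCast_val, ZMod.cast_id', id_eq] at e1
    rw [← e1]
    simp only [c2]
    ring
  let M : ↥K → SL3 := fun k =>
    ⟨!![c1 (cj k u), c1 (cj k v); c2 (cj k u), c2 (cj k v)], det_facts _ _ _ _ (hdet k)⟩
  have c1u : c1 u = 1 := omuv
  have c2u : c2 u = 0 := omself u
  have c1v : c1 v = 0 := omself v
  have c2v : c2 v = 1 := omuv
  have hMmul : ∀ k l : ↥K, M (k * l) = M k * M l := by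
    intro k l
    apply Subtype.ext
    show !![_, _; _, _] = !![_, _; _, _] * !![_, _; _, _]
    rw [Matrix.mul_fin_two]
    have ku : cj (k * l) u = cj k (cj l u) := by simp only [cj, Subgroup.coe_mul]; group
    have kv : cj (k * l) v = cj k (cj l v) := by simp only [cj, Subgroup.coe_mul]; group
    rw [ku, kv, (hlin k _ (hN l u hu)).1, (hlin k _ (hN l u hu)).2, (hlin k _ (hN l v hv)).1,
      (hlin k _ (hN l v hv)).2]
    ext i j
    fin_cases i <;> fin_cases j <;> simp <;> ring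
  refine ⟨MonoidHom.mk' M hMmul, fun k => ?_⟩
  show M k = 1 ↔ _
  constructor
  · intro e x hx
    have e' := congrArg Subtype.val e
    have a11 := congrFun (congrFun e' 0) 0
    have a12 := congrFun (congrFun e' 0) 1
    have a21 := congrFun (congrFun e' 1) 0
    have a22 := congrFun (congrFun e' 1) 1
    simp only [M, Matrix.cons_val_zero, Matrix.cons_val_one, Matrix.of_apply, Matrix.SpecialLinearGroup.coe_one,
      Matrix.one_apply_eq, Matrix.one_apply_ne, ne_eq, zero_ne_one, one_ne_zero, not_false_eq_true] at a11 a12 a21 a22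
    obtain ⟨w, hw, ex⟩ := hdec x hx
    obtain ⟨w', hw', ek⟩ := hdec _ (hN k x hx)
    have l1 := (hlin k x hx).1
    have l2 := (hlin k x hx).2
    rw [a11, a12, mul_one, mul_zero, add_zero] at l1
    rw [a21, a22, mul_zero, mul_one, zero_add] at l2
    simp only [cj] at l1 l2
    rw [l1, l2] at ek
    obtain ⟨s, hs⟩ : ∃ s, s = u ^ (c1 x).val * v ^ (c2 x).val := ⟨_, rfl⟩
    rw [← hs] at ek ex
    rw [ek, ex]
    rw [show (s * w)⁻¹ * (s * w') = w⁻¹ * w' by group]
    exact mul_mem (inv_mem hw) hw'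
  · intro ht
    have key : ∀ x ∈ Q2, c1 (cj k x) = c1 x ∧ c2 (cj k x) = c2 x := by
      intro x hx
      have hw := ht x hx
      set w := x⁻¹ * ((k : G) * x * (k : G)⁻¹) with hwd
      have e : cj k x = x * w := by rw [hwd, mul_inv_cancel_left]
      simp only [c1, c2]
      rw [e, omL _ _ _ hx (F.pair.Z2 hw) hv, (omZ v w hv hw).1, omR _ _ _ hx (F.pair.Z2 hw) hu,
        (omZ u w hu hw).2, add_zero, add_zero]
      exact ⟨rfl, rfl⟩
    apply Subtype.ext
    show !![_, _; _, _] = (1 : Matrix (Fin 2) (Fin 2) (ZMod 3))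
    rw [(key u hu).1, (key u hu).2, (key v hv).1, (key v hv).2, c1u, c2u, c1v, c2v]
    exact Matrix.one_fin_two.symm

end Cfsg.Agent.UThreeLocal.Cand
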