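import Cfsg.Agent.Lib.UThreeLocal.Cand.Symp
import Cfsg.Agent.Lib.SpThreeCent.Defs
import Cfsg.Agent.Lib.PSpAmalgam.Small

/-!
# The centralizer data of an image of a part of `C(Z)`

If a subgroup `K ≤ C(Z)` normalising `Q₂` is mapped onto the centralizer of the image of `z`, injectively on
`Q₂` and with the elements trivial on `Q₂/Z` going into the image of `Q₂`, that image has shape
`3^(1+2) : SL₂(3)`.
-/

set_option autoImplicit false
set_option linter.unusedSectionVars false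
set_option linter.style.haveILetI false

namespace Cfsg.Agent.UThreeLocal.Cand

open Subgroup
open Cfsg.Agent.PSpAmalgam (SL3)
open scoped commutatorElement

universe u v

variable {G : Type u} [Group G] [Finite G]

theorem centData_of {Z Q Q1 Q2 L1 L2 : Subgroup G} {t1 t2 z : G} (F : Frame Z Q Q1 Q2 L1 L2 t1 t2) (hz : z ∈ Z)
    (hz1 : z ≠ 1) {K : Subgroup G} (hKC : K ≤ centralizer (Z : Set G)) (hKN : K ≤ normalizer (Q2 : Set G))
    (hQK : Q2 ≤ K) {Y : Type v} [Group Y] [Finite Y] (f : ↥K →* Y)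
    (hinj : ∀ (x : G) (hx : x ∈ Q2), f ⟨x, hQK hx⟩ = 1 → x = 1)
    (hcent : ∀ g : Y, g * f ⟨z, hQK (F.pair.Z2 hz)⟩ = f ⟨z, hQK (F.pair.Z2 hz)⟩ * g → ∃ k, f k = g)
    (hker : ∀ k : ↥K, f k = 1 → Triv Z Q2 (k : G))
    (htriv : ∀ k : ↥K, Triv Z Q2 (k : G) → f k ∈ (Q2.subgroupOf K).map f)
    (hM : ∃ M ≤ K, Nat.card ↥M = 8 ∧ ∀ m ∈ M, Triv Z Q2 m → m = 1)
    (hU : ∃ w ∈ K, w ^ 3 = 1 ∧ ¬ Triv Z Q2 w) :
    SpThreeCent.CentData (f ⟨z, hQK (F.pair.Z2 hz)⟩) ((Q2.subgroupOf K).map f) := by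
  classical
  haveI : Fact (Nat.Prime 3) := ⟨Nat.prime_three⟩
  have h := F.set
  set zK : ↥K := ⟨z, hQK (F.pair.Z2 hz)⟩ with hzK
  set R := (Q2.subgroupOf K).map f with hR
  set C := centralizer ({f zK} : Set Y) with hC
  have hfC : ∀ k : ↥K, f k ∈ C := fun k => mem_centralizer_singleton_iff.2 (by
    rw [← map_mul, ← map_mul]
    exact congrArg f (Subtype.ext (mem_centralizer_iff.1 (hKC k.2) z hz).symm))
  have hinj' : ∀ {x y : G} (hx : x ∈ Q2) (hy : y ∈ Q2), f ⟨x, hQK hx⟩ = f ⟨y, hQK hy⟩ → x = y := by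
    intro x y hx hy e
    refine mul_inv_eq_one.1 (hinj (x * y⁻¹) (mul_mem hx (inv_mem hy)) ?_)
    rw [show (⟨x * y⁻¹, _⟩ : ↥K) = ⟨x, hQK hx⟩ * ⟨y, hQK hy⟩⁻¹ from rfl, map_mul, map_inv, e, mul_inv_cancel]
  have hmemR : ∀ g, g ∈ R ↔ ∃ (x : G) (hx : x ∈ Q2), f ⟨x, hQK hx⟩ = g := fun g =>
    ⟨fun ⟨k, hk, e⟩ => ⟨k, hk, e⟩, fun ⟨x, hx, e⟩ => ⟨⟨x, hQK hx⟩, hx, e⟩⟩
  have hRle : R ≤ C := by rintro _ ⟨k, -, rfl⟩; exact hfC k
  obtain ⟨π, hπ⟩ := exists_sl_action F hz hz1 hKC hKN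
  have hwd : ∀ {k l : ↥K}, f k = f l → π k = π l := by
    intro k l e
    rw [← mul_inv_eq_one, ← map_inv, ← map_mul, hπ]
    exact hker _ (by rw [map_mul, map_inv, e, mul_inv_cancel])
  choose sel hsel using fun g : ↥C => hcent g (mem_centralizer_singleton_iff.1 g.2)
  let π' : ↥C →* SL3 := MonoidHom.mk' (fun g => π (sel g)) fun g g' => by
    rw [← map_mul]
    exact hwd (by rw [hsel, map_mul, hsel, hsel]; rfl)
  have hπ'f : ∀ k : ↥K, π' ⟨f k, hfC k⟩ = π k := fun k => hwd (hsel _)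
  have hπ'k : ∀ g : ↥C, π' g = 1 ↔ (g : Y) ∈ R := by
    intro g
    show π (sel g) = 1 ↔ _
    rw [hπ]
    constructor
    · intro ht
      have := htriv _ ht
      rwa [hsel] at this
    · intro hg
      obtain ⟨x, hx, e⟩ := (hmemR _).1 hg
      have h1 : π ⟨x, hQK hx⟩ = 1 := (hπ _).2 (F.triv_Q (F.pair.le2 hx) F.pair.le2)
      exact (hπ _).1 ((hwd (by rw [hsel, e])).trans h1)
  have hsurj : Function.Surjective π' := by
    obtain ⟨M, hMK, hM8, hMt⟩ := hM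
    obtain ⟨w, hw, hw3, hwt⟩ := hU
    let j : ↥M →* SL3 := π.comp (Subgroup.inclusion hMK)
    have hji : Function.Injective j := (injective_iff_map_eq_one j).2 fun m hm =>
      Subtype.ext (hMt m m.2 ((hπ _).1 hm))
    have hle : j.range ≤ π'.range := by
      rintro _ ⟨m, rfl⟩
      exact ⟨⟨f _, hfC _⟩, hπ'f (Subgroup.inclusion hMK m)⟩
    have h8 : 8 ∣ Nat.card π'.range := by
      have := card_dvd_of_le hle
      rwa [← Nat.card_congr (MonoidHom.ofInjective hji).toEquiv, hM8] at this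
    have h3 : 3 ∣ Nat.card π'.range := by
      have h1 : π ⟨w, hw⟩ ≠ 1 := fun e => hwt ((hπ _).1 e)
      have h2 : π ⟨w, hw⟩ ^ 3 = 1 := by
        rw [← map_pow, show (⟨w, hw⟩ : ↥K) ^ 3 = 1 from Subtype.ext hw3, map_one]
      have h4 := π'.range.orderOf_dvd_natCard (x := π ⟨w, hw⟩) ⟨⟨f _, hfC _⟩, hπ'f _⟩
      rwa [orderOf_eq_prime h2 h1] at h4
    have h24 : 24 ∣ Nat.card π'.range := Nat.Coprime.mul_dvd_of_dvd_of_dvd (by norm_num : Nat.Coprime 8 3) h8 h3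
    refine MonoidHom.range_eq_top.1 (Subgroup.eq_top_of_le_card _ ?_)
    rw [PSpAmalgam.card_SL3]
    exact Nat.le_of_dvd Nat.card_pos h24
  have hRcard : Nat.card ↥R = 27 := by
    rw [← F.pair.card2]
    refine (Nat.card_congr (Equiv.ofBijective
      (fun x : ↥Q2 => (⟨f ⟨x, hQK x.2⟩, (hmemR _).2 ⟨x, x.2, rfl⟩⟩ : ↥R))
      ⟨fun x y e => Subtype.ext (hinj' x.2 y.2 (congrArg Subtype.val e)), fun g => ?_⟩)).symm
    obtain ⟨x, hx, e⟩ := (hmemR _).1 g.2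
    exact ⟨⟨x, hx⟩, Subtype.ext e⟩
  have hzp : ∀ {w : G} (hw : w ∈ Z), f ⟨w, hQK (F.pair.Z2 hw)⟩ ∈ zpowers (f zK) := by
    intro w hw
    obtain ⟨n, hn⟩ := mem_zpowers_iff.1 ((zpowers_eq_of_prime h.Z_card hz hz1).ge hw)
    exact mem_zpowers_iff.2 ⟨n, by rw [← map_zpow]; exact congrArg f (Subtype.ext hn)⟩
  have hord : orderOf (f zK) = 3 := orderOf_eq_prime
    (by rw [← map_pow, show zK ^ 3 = 1 from Subtype.ext (h.Z_cube hz), map_one])
    fun e => hz1 (hinj z (F.pair.Z2 hz) e)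
  refine
    { order := hord
      card := ?_
      card_R := hRcard
      le := hRle
      norm := ?_
      mem := (hmemR _).2 ⟨z, F.pair.Z2 hz, rfl⟩
      exp := ?_
      center := ?_
      comm := ?_
      nat := ?_
      quot := ⟨π', hsurj, hπ'k⟩ }
  · have e : π'.ker = R.subgroupOf C := by
      ext g; rw [MonoidHom.mem_ker, hπ'k, mem_subgroupOf]
    have := π'.ker.card_mul_index
    rw [Subgroup.index_ker, MonoidHom.range_eq_top.2 hsurj, card_top, PSpAmalgam.card_SL3, e,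
      Nat.card_congr (subgroupOfEquivOfLe hRle).toEquiv, hRcard] at this
    exact this.symm
  · intro g hg
    obtain ⟨k, rfl⟩ := hcent g (mem_centralizer_singleton_iff.1 hg)
    refine Subgroup.mem_normalizer_fintype fun r hr => ?_
    obtain ⟨x, hx, rfl⟩ := (hmemR _).1 hr
    refine (hmemR _).2 ⟨(k : G) * x * (k : G)⁻¹, (mem_normalizer_iff.1 (hKN k.2) x).1 hx, ?_⟩
    rw [← map_inv, ← map_mul, ← map_mul]
    rfl
  · intro g hg
    obtain ⟨x, hx, rfl⟩ := (hmemR _).1 hg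
    rw [← map_pow, show (⟨x, hQK hx⟩ : ↥K) ^ 3 = 1 from Subtype.ext (F.cube x (F.pair.le2 hx)), map_one]
  · intro g hg hc
    obtain ⟨x, hx, rfl⟩ := (hmemR _).1 hg
    have hxc : ∀ y ∈ Q2, x * y = y * x := fun y hy =>
      hinj' (mul_mem hx hy) (mul_mem hy hx) (by
        have := hc _ ((hmemR _).2 ⟨y, hy, rfl⟩)
        rw [← map_mul, ← map_mul] at this
        exact this)
    refine hzp (w := x) (h.mem_Z_of_comm (F.pair.le2 hx) fun y hy => ?_)
    obtain ⟨a, ha, b, hb, rfl⟩ := F.pair.dec y hy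
    rw [mul_assoc, ← hxc b hb, ← mul_assoc, F.pair.comm a ha x hx, mul_assoc]
  · intro g hg g' hg'
    obtain ⟨x, hx, rfl⟩ := (hmemR _).1 hg
    obtain ⟨y, hy, rfl⟩ := (hmemR _).1 hg'
    rw [← map_inv, ← map_inv, ← map_mul, ← map_mul, ← map_mul]
    exact hzp (w := x * y * x⁻¹ * y⁻¹) (h.comm_mem (F.pair.le2 hx) (F.pair.le2 hy))
  · intro g hg hc
    obtain ⟨k, rfl⟩ := hcent g (mem_centralizer_singleton_iff.1 hg)
    refine htriv k fun x hx => ?_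
    obtain ⟨n, hn⟩ := mem_zpowers_iff.1 (hc _ ((hmemR _).2 ⟨x, hx, rfl⟩))
    have hzn : z ^ n ∈ Q2 := F.pair.Z2 (zpow_mem hz n)
    have hk : (k : G) * x * (k : G)⁻¹ ∈ Q2 := (mem_normalizer_iff.1 (hKN k.2) x).1 hx
    have e : (k : G) * x * (k : G)⁻¹ * x⁻¹ = z ^ n := hinj' (mul_mem hk (inv_mem hx)) hzn (by
      rw [show (⟨z ^ n, hQK hzn⟩ : ↥K) = zK ^ n from Subtype.ext (by push_cast; rfl), map_zpow, hn,
        ← map_inv, ← map_inv, ← map_mul, ← map_mul, ← map_mul]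
      rfl)
    rw [show x⁻¹ * ((k : G) * x * (k : G)⁻¹) = x⁻¹ * ((k : G) * x * (k : G)⁻¹ * x⁻¹ * x) by group, e,
      h.comm_Z (F.pair.le2 hx) (zpow_mem hz n), inv_mul_cancel_left]
    exact zpow_mem hz n

end Cfsg.Agent.UThreeLocal.Cand
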