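import Cfsg.Agent.Lib.SpThreeCent.Setup

/-!
# Coordinates on the normalizer of `J` from the data of the centralizer

`SpThreeCent.exists_loc` with `CentData` and `JData` as the hypotheses.
-/

set_option autoImplicit false
set_option linter.style.haveILetI false
set_option linter.unusedSectionVars false
set_option maxRecDepth 100000
set_option synthInstance.maxSize 10000

namespace Cfsg.Agent.UThreeLocal.Cand

open Subgroup
open Cfsg.Agent.SpThreeCent
open Cfsg.Agent.NineSym

/-- The coordinates, from the data. -/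
theorem exists_loc_of_data {G : Type*} [Group G] [Finite G] {a : G} {R J : Subgroup G} (D : CentData a R)
    (hJ : JData a R J) (hsig : ∀ K : Subgroup G, (Nat.card K).Coprime 3 → J ≤ normalizer (K : Set G) → K = ⊥) :
    ∃ ci cd φ, Loc a R J ci cd φ := by
  haveI : Fact (Nat.Prime 3) := ⟨Nat.prime_three⟩
  have hJcard := hJ.card
  obtain ⟨θ, sp, B, hθa, hθR, hspR⟩ := exists_base D hJ hsig
  obtain ⟨ci, cd, φN, k, F, hjM, hsp⟩ := frame_coord B
  set φ : Mn → G := fun p => (φN p : G) with hφ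
  have hJval : ∀ g, g ∈ J ↔ ∃ v, φ (jM v) = g := by
    intro g
    constructor
    · intro hg
      obtain ⟨v, hv⟩ := (F.memJ ⟨g, le_normalizer hg⟩).1 hg
      exact ⟨v, congrArg Subtype.val hv⟩
    · rintro ⟨v, rfl⟩
      exact (F.memJ (φN (jM v))).2 ⟨v, rfl⟩
  have haφ : φ (jM (1, 1, 1)) = a := by
    show ((φN (jM (1, 1, 1)) : ↥(normalizer (J : Set G))) : G) = a
    rw [hjM, show shiftV k (1, 1, 1) = (1, 1, 1) from shiftV_facts.2.2.2.1 k, hθa]
  have hself : ∀ g, (∀ j ∈ J, g * j = j * g) → g ∈ J := by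
    intro g hg
    have hgN : g ∈ normalizer (J : Set G) := centralizer_le_normalizer _
      (mem_centralizer_iff.2 fun j hj => (hg j hj).symm)
    exact B.cJ (g := ⟨g, hgN⟩) fun j hj => Subtype.ext (hg _ hj)
  -- a Sylow subgroup
  obtain ⟨h81, hPle⟩ := card_sup D hJ
  have hNle : normalizer ((R ⊔ J : Subgroup G) : Set G) ≤ normalizer (J : Set G) := by
    intro g hg
    refine mem_normalizer_iff_map_conj_eq.2 (abelian_unique D hJ ?_ ?_ ?_)
    · rintro _ ⟨p, hp, rfl⟩
      exact (mem_normalizer_iff.1 hg p).1 (mem_sup_right hp)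
    · rintro _ ⟨p, hp, rfl⟩ _ ⟨q, hq, rfl⟩
      rw [← map_mul, ← map_mul, hJ.comm p hp q hq]
    · rw [card_map_of_injective (MulAut.conj g).injective, hJ.card]
  have hPN : R ⊔ J ≤ normalizer (J : Set G) := le_trans le_normalizer hNle
  have hNsyl : ¬ 3 ^ 5 ∣ Nat.card (normalizer (J : Set G)) := by
    intro h
    obtain ⟨Q, hQ⟩ := B.sylow_top.exists_sylow
    have h1 := Q.pow_dvd_card_of_pow_dvd_card (n := 5) (by rw [card_top]; exact h)
    have h2 : Nat.card (Q : Subgroup (⊤ : Subgroup ↥(normalizer (J : Set G)))) = Nat.card B.sylP := by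
      rw [← card_map_of_injective (Subgroup.subtype_injective _), hQ, map_subgroupOf_eq_of_le le_top]
    rw [h2] at h1
    have h3 : Nat.card B.sylP ≤ 81 := by
      have hle : Nat.card B.sylP ≤ Nat.card (V3 × Fin 3) := by
        refine Nat.card_le_card_of_surjective
          (fun q : V3 × Fin 3 => (⟨θ q.1 * sp (Fin.castLE (by norm_num) q.2), B.mem_sylP.2
            ⟨q.1, _, by rcases q with ⟨v, i⟩; fin_cases i <;> simp, rfl⟩⟩ : B.sylP)) ?_
        rintro ⟨_, v, p, hp, rfl⟩
        rcases hp with rfl | rfl | rfl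
        · exact ⟨(v, 0), rfl⟩
        · exact ⟨(v, 1), rfl⟩
        · exact ⟨(v, 2), rfl⟩
      refine hle.trans ?_
      simp
    have h4 := Nat.le_of_dvd Nat.card_pos h1
    norm_num at h4
    omega
  let S : Sylow 3 G :=
    { toSubgroup := R ⊔ J
      isPGroup' := IsPGroup.of_card (n := 4) (by rw [h81]; norm_num)
      is_maximal' := fun {T} hT hle => by
        by_contra hne
        have hlt : (R ⊔ J : Subgroup G) < T := lt_of_le_of_ne hle (Ne.symm hne)
        haveI : Group.IsNilpotent T := hT.isNilpotent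
        have hlt' : (R ⊔ J).subgroupOf T < normalizer (((R ⊔ J).subgroupOf T : Subgroup T) : Set T) := by
          refine normalizerCondition_of_isNilpotent _ ?_
          rw [lt_top_iff_ne_top, Ne, subgroupOf_eq_top]
          exact hlt.not_ge
        obtain ⟨z, hz, hzP⟩ := SetLike.exists_of_lt hlt'
        have hzN : (z : G) ∈ normalizer ((R ⊔ J : Subgroup G) : Set G) := by
          refine mem_normalizer_iff.2 fun p => ⟨fun hp => ?_, fun hp => ?_⟩
          · exact (mem_normalizer_iff.1 hz ⟨p, hle hp⟩).1 hp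
          · have hpT : p ∈ T := by
              have := mul_mem (mul_mem (inv_mem z.2) (hle hp)) z.2
              simpa [mul_assoc] using this
            exact (mem_normalizer_iff.1 hz ⟨p, hpT⟩).2 hp
        set U := (R ⊔ J) ⊔ zpowers (z : G) with hU
        have hUT : U ≤ T := sup_le hle (zpowers_le.2 z.2)
        have hUN : U ≤ normalizer (J : Set G) := sup_le hPN (zpowers_le.2 (hNle hzN))
        obtain ⟨n, hn⟩ := (hT.to_le hUT).exists_card_eq
        have hgt : 81 < Nat.card U := by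
          rw [← h81]
          refine lt_of_le_of_ne (Nat.le_of_dvd Nat.card_pos (card_dvd_of_le le_sup_left)) fun h => hzP ?_
          show (z : G) ∈ R ⊔ J
          rw [eq_of_le_of_card_ge (le_sup_left : R ⊔ J ≤ U) h.ge]
          exact mem_sup_right (mem_zpowers _)
        apply hNsyl
        have h5 : 5 ≤ n := by
          rw [hn] at hgt
          exact (Nat.pow_lt_pow_iff_right (by norm_num : 1 < 3)).1 (by norm_num; exact hgt)
        exact (pow_dvd_pow 3 h5).trans (hn ▸ card_dvd_of_le hUN) }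
  have hweak : ∀ K : Subgroup G, IsPGroup 3 K → J ≤ K → ∀ g : G, (∀ j ∈ J, g * j * g⁻¹ ∈ K) →
      g ∈ normalizer (J : Set G) := by
    intro K hK hJK g hg
    obtain ⟨T, hT⟩ := hK.exists_le_sylow
    obtain ⟨c, hc⟩ := MulAction.exists_smul_eq G T S
    have hmove : ∀ k ∈ K, c * k * c⁻¹ ∈ R ⊔ J := fun k hk => by
      change c * k * c⁻¹ ∈ (S : Subgroup G)
      rw [← hc, Sylow.coe_subgroup_smul]
      exact smul_mem_pointwise_smul k (MulAut.conj c) _ (hT hk)
    have hkey : ∀ d : G, (∀ j ∈ J, d * j * d⁻¹ ∈ R ⊔ J) → d ∈ normalizer (J : Set G) := by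
      intro d hd
      refine mem_normalizer_iff_map_conj_eq.2 (abelian_unique D hJ ?_ ?_ ?_)
      · rintro _ ⟨p, hp, rfl⟩; exact hd p hp
      · rintro _ ⟨p, hp, rfl⟩ _ ⟨q, hq, rfl⟩
        rw [← map_mul, ← map_mul, hJ.comm p hp q hq]
      · rw [card_map_of_injective (MulAut.conj d).injective, hJ.card]
    have h1 : c ∈ normalizer (J : Set G) := hkey c fun j hj => hmove j (hJK hj)
    have h2 : c * g ∈ normalizer (J : Set G) := hkey _ fun j hj => by
      rw [show c * g * j * (c * g)⁻¹ = c * (g * j * g⁻¹) * c⁻¹ by group]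
      exact hmove _ (hg j hj)
    have := mul_mem (inv_mem h1) h2
    rwa [inv_mul_cancel_left] at this
  have hnorm : ∀ g ∈ normalizer (J : Set G), ∃ p, InL ci cd p ∧ φ p = g := by
    intro g hg
    obtain ⟨p, hp, hpe⟩ := F.norm ⟨g, hg⟩ (mem_normalizer_iff.2 fun j => mem_normalizer_iff.1 hg (j : G))
    exact ⟨p, hp, congrArg Subtype.val hpe⟩
  refine ⟨ci, cd, φ,
    { toCentData := D
      hom := fun p q hp hq => congrArg Subtype.val (F.hom p q hp hq)
      inj := fun p q hp hq h => F.inj p q hp hq (Subtype.ext h)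
      memJ := hJval
      mem_norm := fun p _ => (φN p).2
      norm_eq := hnorm
      a_eq := haφ
      cent_norm := fun g hg hga => ?_
      self := hself
      sig := hsig
      fus := ?_
      weak := hweak
      plane_R := fun v hv => ?_
      shift_R := ?_ }⟩
  · obtain ⟨p, hp, hpe⟩ := F.cent ⟨g, hg⟩ (Subtype.ext (by
      show g * φ (jM (1, 1, 1)) = φ (jM (1, 1, 1)) * g
      rw [haφ]; exact hga))
    exact ⟨p, hp, congrArg Subtype.val hpe⟩
  · intro u v g h
    set Cv := centralizer ({φ (jM v)} : Set G) with hCv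
    have hJcomm' : ∀ w w', φ (jM w) * φ (jM w') = φ (jM w') * φ (jM w) := fun w w' =>
      hJ.comm _ ((hJval _).2 ⟨w, rfl⟩) _ ((hJval _).2 ⟨w', rfl⟩)
    have hJC' : J ≤ Cv := fun j hj => by
      obtain ⟨w, rfl⟩ := (hJval j).1 hj
      exact mem_centralizer_singleton_iff.2 (hJcomm' _ _)
    have hJ'C : J.map (MulAut.conj g).toMonoidHom ≤ Cv := by
      rintro _ ⟨j, hj, rfl⟩
      obtain ⟨w, rfl⟩ := (hJval j).1 hj
      refine mem_centralizer_singleton_iff.2 ?_
      rw [← h]
      show g * φ (jM w) * g⁻¹ * (g * φ (jM u) * g⁻¹) = g * φ (jM u) * g⁻¹ * (g * φ (jM w) * g⁻¹)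
      rw [show g * φ (jM w) * g⁻¹ * (g * φ (jM u) * g⁻¹) = g * (φ (jM w) * φ (jM u)) * g⁻¹ by group, hJcomm']
      group
    have hJp : IsPGroup 3 J := IsPGroup.of_card (n := 3) (by rw [hJcard]; norm_num)
    obtain ⟨T1, hT1⟩ := (hJp.of_equiv (subgroupOfEquivOfLe hJC').symm).exists_le_sylow
    obtain ⟨T2, hT2⟩ := ((hJp.map (MulAut.conj g).toMonoidHom).of_equiv
      (subgroupOfEquivOfLe hJ'C).symm).exists_le_sylow
    obtain ⟨c, hc⟩ := MulAction.exists_smul_eq Cv T2 T1
    have hn : (c : G) * g ∈ normalizer (J : Set G) := by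
      refine hweak ((T1 : Subgroup Cv).map Cv.subtype) (T1.2.map _)
        (fun j hj => ⟨⟨j, hJC' hj⟩, hT1 hj, rfl⟩) _ fun j hj => ?_
      have hm : g * j * g⁻¹ ∈ J.map (MulAut.conj g).toMonoidHom := ⟨j, hj, rfl⟩
      refine ⟨c * ⟨g * j * g⁻¹, hJ'C hm⟩ * c⁻¹, ?_, by simp [mul_assoc]⟩
      rw [← hc, Sylow.coe_subgroup_smul]
      exact smul_mem_pointwise_smul _ (MulAut.conj c) _ (hT2 hm)
    obtain ⟨p, hp, hpe⟩ := hnorm _ hn
    refine ⟨p, hp, ?_⟩
    have hu : InL ci cd (jM u) := ⟨fun h => Bool.noConfusion h, fun h => absurd rfl h⟩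
    have hw : InL ci cd (jM (wact p.w u)) := ⟨fun h => Bool.noConfusion h, fun h => absurd rfl h⟩
    have e1 : p * jM u = jM (wact p.w u) * p := by
      obtain ⟨pv, pw⟩ := p
      show Mn.mk (pv + wact pw u) (pw * 1) = Mn.mk (wact pw u + wact 1 pv) (1 * pw)
      rw [wact_one, add_comm, (by decide +kernel : ∀ w : Wt, w * 1 = w ∧ 1 * w = w) pw |>.1,
        ((by decide +kernel : ∀ w : Wt, w * 1 = w ∧ 1 * w = w) pw).2]
    have e2 : φ p * φ (jM u) * (φ p)⁻¹ = φ (jM (wact p.w u)) := by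
      rw [mul_inv_eq_iff_eq_mul]
      show ((φN p : G) * (φN (jM u) : G)) = (φN (jM (wact p.w u)) : G) * (φN p : G)
      rw [← Subgroup.coe_mul, ← Subgroup.coe_mul, ← F.hom p _ hp hu, ← F.hom _ p hw hp, e1]
    have hcv : (c : G) * φ (jM v) = φ (jM v) * (c : G) := mem_centralizer_singleton_iff.1 c.2
    rw [hpe, show (c : G) * g * φ (jM u) * ((c : G) * g)⁻¹ = c * (g * φ (jM u) * g⁻¹) * (c : G)⁻¹ by group, h,
      hcv, mul_inv_cancel_right] at e2
    have := F.inj _ _ hw ⟨fun h => Bool.noConfusion h, fun h => absurd rfl h⟩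
      (Subtype.ext e2.symm : φN (jM (wact p.w u)) = φN (jM v))
    exact congrArg Mn.v this
  · show ((φN (jM v) : ↥(normalizer (J : Set G))) : G) ∈ R
    rw [hjM]
    refine hθR _ ?_
    rw [shift_plane k v hv]
    exact hv
  · show ((φN (wM ⟨false, 0, 1⟩) : ↥(normalizer (J : Set G))) : G) ∈ R
    rw [hsp]
    exact hspR

end Cfsg.Agent.UThreeLocal.Cand
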