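import Cfsg.Agent.Lib.UThreeLocal.Cand.Dat
import Cfsg.Agent.Lib.UThreeLocal.Cand.CentData
import Cfsg.Agent.Lib.UThreeLocal.Cand.LocData
import Cfsg.Agent.Lib.SpThreeCent.Main

/-!
# The group `C(d)/⟨d⟩`

The centralizer of the image of `z` is the image of `C_H(d)`, of shape `3^(1+2) : SL₂(3)`, and `E/⟨d⟩` gives
coordinates; the diagonal signs occur, and the elements of `E` spanning with `d` a plane without points
have their centralizers in `N(E)` if `z` is inverted in `C(d)`.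
-/

set_option autoImplicit false
set_option linter.unusedSectionVars false
set_option linter.style.haveILetI false
set_option maxRecDepth 100000
set_option synthInstance.maxSize 10000

namespace Cfsg.Agent.UThreeLocal.Cand

open Subgroup
open Cfsg.Agent.SpThreeCent
open Cfsg.Agent.NineSym (Mn Wt V3 InL Wok jM wM wact SixData)
open Cfsg.Agent.PSpAmalgam (SL3)

universe u

variable {G : Type u} [Group G]

instance zpowers_sub_normal (d : G) : ((zpowers d).subgroupOf (centralizer ({d} : Set G))).Normal :=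
  ⟨fun x hx g => by
    rw [mem_subgroupOf] at hx ⊢
    obtain ⟨n, hn⟩ := mem_zpowers_iff.1 hx
    push_cast
    rw [← hn, ((show Commute (g : G) d from mem_centralizer_singleton_iff.1 g.2).zpow_right n).eq,
      mul_inv_cancel_right]
    exact zpow_mem (mem_zpowers d) n⟩

/-- The quotient `C(d)/⟨d⟩`. -/
abbrev XX (d : G) : Type u :=
  ↥(centralizer ({d} : Set G)) ⧸ (zpowers d).subgroupOf (centralizer ({d} : Set G))

/-- The projection. -/
abbrev pr (d : G) : ↥(centralizer ({d} : Set G)) →* XX d := QuotientGroup.mk' _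

theorem pr_surj (d : G) : Function.Surjective (pr d) := QuotientGroup.mk'_surjective _

theorem pr_eq_one {d : G} {a : ↥(centralizer ({d} : Set G))} : pr d a = 1 ↔ (a : G) ∈ zpowers d :=
  (QuotientGroup.eq_one_iff a).trans mem_subgroupOf

theorem pr_eq {d : G} {a b : ↥(centralizer ({d} : Set G))} (e : pr d a = pr d b) : (a : G)⁻¹ * b ∈ zpowers d :=
  mem_subgroupOf.1 (QuotientGroup.eq.1 e)

/-- Commuting modulo `⟨d⟩` is commuting, for an element of order prime to `3`. -/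
theorem comm_of_pr {d : G} (hd3 : d ^ 3 = 1) {a b : ↥(centralizer ({d} : Set G))} {n : ℕ} (hn : Nat.Coprime n 3)
    (ha : (a : G) ^ n = 1) (e : pr d b * pr d a = pr d a * pr d b) : (b : G) * a = a * b := by
  rw [← map_mul, ← map_mul] at e
  have h := pr_eq e.symm
  push_cast at h
  obtain ⟨k, hk⟩ := mem_zpowers_iff.1 h
  have e1 : (b : G) * a * (b : G)⁻¹ = (a : G) * d ^ k := by
    rw [hk]
    calc (b : G) * a * (b : G)⁻¹ = (a : G) * ((b : G) * ((b : G)⁻¹ * ((a : G)⁻¹ * ((b : G) * a))) * (b : G)⁻¹) := by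
          group
      _ = (a : G) * ((b : G) * ((a * b : G)⁻¹ * ((b : G) * a)) * (b : G)⁻¹) := by group
      _ = (a : G) * ((a * b : G)⁻¹ * ((b : G) * a)) := by
          rw [← hk, ((show Commute (b : G) d from mem_centralizer_singleton_iff.1 b.2).zpow_right k).eq,
            mul_inv_cancel_right]
  have e2 : ((b : G) * a * (b : G)⁻¹) ^ n = 1 := by rw [conj_pow, ha, mul_one, mul_inv_cancel]
  rw [e1, ((show Commute (a : G) d from mem_centralizer_singleton_iff.1 a.2).zpow_right k).mul_pow, ha, one_mul]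
    at e2
  have e3 : (d ^ k) ^ 3 = 1 := by
    rw [← zpow_natCast, ← zpow_mul, mul_comm, zpow_mul, zpow_natCast, hd3, one_zpow]
  have e4 := pow_gcd_eq_one.2 ⟨e2, e3⟩
  rw [hn.gcd_eq_one, pow_one] at e4
  rw [e4, mul_one] at e1
  exact mul_inv_eq_iff_eq_mul.1 e1

theorem sl_five : ∀ s : SL3, s ^ 5 = 1 → s = 1 := by decide +kernel

theorem orbit_three : ∀ v : V3, v ≠ 0 →
    ∃ w : Wt, wact w (1, 1, 1) = v ∨ wact w (0, 0, 1) = v ∨ wact w (1, 1, 0) = v := by decide +kernel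

theorem orbit_plane : ∀ v : V3, v ≠ 0 → v.2.2 = 0 →
    ∃ w : Wt, wact w (0, 0, 1) = v ∨ wact w (1, 2, 0) = v := by decide +kernel

theorem wact_neg' : ∀ (w : Wt) (v : V3), wact w (-v) = -wact w v := by decide +kernel

theorem card_plane : Nat.card {v : V3 // v.2.2 = 0} = 9 := by
  rw [Nat.card_eq_fintype_card]; decide

/-- An element of order five of the symmetric group of degree six. -/
def five6 : Equiv.Perm (Fin 6) := Equiv.swap 0 1 * Equiv.swap 1 2 * Equiv.swap 2 3 * Equiv.swap 3 4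

theorem five6_facts : five6 ^ 5 = 1 ∧ five6 ≠ 1 := by decide +kernel

theorem cd_false_fix : ∀ ci : Bool, ∀ w : Wt, Wok ci false w →
    wact w (1, 1, 1) = (1, 1, 1) ∨ wact w (1, 1, 1) = -((1, 1, 1) : V3) := by decide +kernel

variable [Finite G]

/-- No element of order five centralises a point. -/
theorem five_pt {Z Q Q1 Q2 L1 L2 : Subgroup G} {t1 t2 p x : G} (F : Frame Z Q Q1 Q2 L1 L2 t1 t2)
    (hp : IsPt Z p) (hxp : x * p = p * x) (h5 : x ^ 5 = 1) : x = 1 := by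
  obtain ⟨g, z, hz, hz1, rfl⟩ := hp
  set c := g⁻¹ * x * g with hc
  have hc5 : c ^ 5 = 1 := by
    have h := conj_pow (i := 5) (a := g⁻¹) (b := x)
    rw [inv_inv, h5, mul_one, inv_mul_cancel] at h
    exact h
  have hcC : c ∈ centralizer (Z : Set G) := by
    refine mem_centralizer_iff.2 fun w hw => ?_
    obtain ⟨n, rfl⟩ := mem_zpowers_iff.1 ((zpowers_eq_of_prime F.set.Z_card hz hz1).ge hw)
    refine ((show Commute z c from ?_).zpow_left n).eq
    calc z * c = g⁻¹ * ((g * z * g⁻¹) * x) * g := by rw [hc]; group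
      _ = c * z := by rw [← hxp, hc]; group
  have hperm : (∀ v, v ∈ Q1 ↔ c * v * c⁻¹ ∈ Q1) ∧ ∀ v, v ∈ Q2 ↔ c * v * c⁻¹ ∈ Q2 := by
    rcases F.perm c hcC with h | h
    · exact h
    have hsq : ∀ v, c ^ 2 * v * (c ^ 2)⁻¹ = c * (c * v * c⁻¹) * c⁻¹ := fun v => by rw [pow_two]; group
    have h1 : ∀ v, v ∈ Q1 ↔ c ^ 2 * v * (c ^ 2)⁻¹ ∈ Q1 := fun v => by rw [hsq]; exact (h.1 v).trans (h.2 _)
    have h2 : ∀ v, v ∈ Q2 ↔ c ^ 2 * v * (c ^ 2)⁻¹ ∈ Q2 := fun v => by rw [hsq]; exact (h.2 v).trans (h.1 _)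
    have e : c = c ^ 2 * c ^ 2 * c ^ 2 := by
      rw [← pow_add, ← pow_add, show 2 + 2 + 2 = 5 + 1 from rfl, pow_succ, hc5, one_mul]
    have hcomp : ∀ v, c * v * c⁻¹ =
        c ^ 2 * (c ^ 2 * (c ^ 2 * v * (c ^ 2)⁻¹) * (c ^ 2)⁻¹) * (c ^ 2)⁻¹ := fun v => by
      conv_lhs => rw [e]
      group
    exact ⟨fun v => by rw [hcomp]; exact (h1 v).trans ((h1 _).trans (h1 _)),
      fun v => by rw [hcomp]; exact (h2 v).trans ((h2 _).trans (h2 _))⟩
  have hnorm : ∀ R : Subgroup G, (∀ v, v ∈ R ↔ c * v * c⁻¹ ∈ R) → c ∈ normalizer (R : Set G) := fun R hR =>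
    mem_normalizer_iff.2 hR
  have htriv : ∀ {R R' M M' : Subgroup G} {s s' : G}, Frame Z Q R R' M M' s s' → c ∈ normalizer (R' : Set G) →
      Triv Z R' c := by
    intro R R' M M' s s' T hn
    obtain ⟨π, hπ⟩ := exists_sl_action T hz hz1 (K := centralizer (Z : Set G) ⊓ normalizer (R' : Set G))
      inf_le_left inf_le_right
    refine (hπ ⟨c, hcC, hn⟩).1 (sl_five _ ?_)
    rw [← map_pow, show (⟨c, hcC, hn⟩ : ↥(centralizer (Z : Set G) ⊓ normalizer (R' : Set G))) ^ 5 = 1 from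
      Subtype.ext hc5, map_one]
  have hcQ := F.mem_Q_of_triv hcC (htriv F.symm (hnorm _ hperm.1)) (htriv F (hnorm _ hperm.2))
  have hc1 : c = 1 := by
    have := pow_gcd_eq_one.2 ⟨hc5, F.cube c hcQ⟩
    rwa [show Nat.gcd 5 3 = 1 from rfl, pow_one] at this
  calc x = g * c * g⁻¹ := by rw [hc]; group
    _ = 1 := by rw [hc1, mul_one, mul_inv_cancel]

namespace Dat

variable {Z Q Q1 Q2 L1 L2 E : Subgroup G} {t1 t2 z y d a2 : G} (D : Dat Z Q Q1 Q2 L1 L2 E t1 t2 z y d a2)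
include D

theorem d_cube : d ^ 3 = 1 := D.side.exp D.d_E

theorem E_le_Cd : E ≤ centralizer ({d} : Set G) := fun _ he =>
  mem_centralizer_singleton_iff.2 (D.side.comm he D.d_E)

theorem d_notQ2 {x : G} (hx : x ∈ Q2) (hxd : x ∈ zpowers d) : x = 1 := by
  have hxZ : x ∈ Z := D.frame.not_swap_both ((zpowers_le.2 D.flag1.mem) hxd) hx
  by_contra hx1
  have hc : Nat.card ↥(zpowers d) = 3 := by
    haveI : Fact (Nat.Prime 3) := ⟨Nat.prime_three⟩
    rw [Nat.card_zpowers, orderOf_eq_prime D.d_cube D.d_ne]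
  exact D.flag1.notZ ((zpowers_le.2 hxZ) (by rw [zpowers_eq_of_prime hc hxd hx1]; exact mem_zpowers d))

theorem norm_Q2_of_d {c : G} (hc : c ∈ centralizer (Z : Set G)) (hcd : c * d = d * c) :
    c ∈ normalizer (Q2 : Set G) := by
  refine mem_normalizer_iff.2 ((D.frame.perm c hc).resolve_right fun hs => ?_).2
  have h2 := (hs.1 d).1 D.flag1.mem
  rw [hcd, mul_inv_cancel_right] at h2
  exact D.flag1.notZ (D.frame.not_swap_both D.flag1.mem h2)

theorem L2_triv {l : G} (hl : l ∈ L2) (ht : Triv Z Q2 l) : l = 1 := by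
  have F := D.frame
  have h1 : Triv Z Q1 l := fun x hx => by
    rw [← mem_centralizer_iff.1 (F.L2_cent hl) x hx, mul_inv_cancel_right, inv_mul_cancel]
    exact one_mem Z
  have := pow_gcd_eq_one.2 ⟨D.L2_pow hl, F.cube l (F.mem_Q_of_triv (F.L2_le hl) h1 ht)⟩
  rwa [show Nat.gcd 8 3 = 1 from rfl, pow_one] at this

/-- The image of `z` in `C(d)/⟨d⟩`. -/
def zb : XX d := pr d ⟨z, D.E_le_Cd D.z_E⟩

/-- The image of `E` in `C(d)/⟨d⟩`. -/
def Jb (_D : Dat Z Q Q1 Q2 L1 L2 E t1 t2 z y d a2) : Subgroup (XX d) :=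
  (E.subgroupOf (centralizer ({d} : Set G))).map (pr d)

/-- The image of `C_Q(d)` in `C(d)/⟨d⟩`. -/
def Rb (_D : Dat Z Q Q1 Q2 L1 L2 E t1 t2 z y d a2) : Subgroup (XX d) :=
  (Q2.subgroupOf (centralizer ({d} : Set G))).map (pr d)

theorem mem_Jb {a : ↥(centralizer ({d} : Set G))} : pr d a ∈ D.Jb ↔ (a : G) ∈ E := by
  refine ⟨fun ⟨b, hb, e⟩ => ?_, fun h => ⟨a, h, rfl⟩⟩
  have h1 : (b : G) * ((b : G)⁻¹ * a) ∈ E := mul_mem hb ((zpowers_le.2 D.d_E) (pr_eq e))
  rwa [mul_inv_cancel_left] at h1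

/-- The centralizer of the image of `z` is the image of `C_H(d)`. -/
theorem cent_zb {g : XX d} (hg : g * D.zb = D.zb * g) :
    ∃ a : ↥(centralizer ({d} : Set G)), pr d a = g ∧ (a : G) ∈ centralizer (Z : Set G) := by
  obtain ⟨a, rfl⟩ := pr_surj d g
  refine ⟨a, rfl, ?_⟩
  unfold zb at hg
  rw [← map_mul, ← map_mul] at hg
  have h := pr_eq hg
  push_cast at h
  obtain ⟨k, hk⟩ := mem_zpowers_iff.1 h
  have e : z * a = a * (z * d ^ k) := by rw [hk]; group
  have hzd : z * d ^ k ∈ Q1 := mul_mem (D.frame.pair.Z1 D.z_mem) (zpow_mem D.flag1.mem k)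
  have hpt : IsPt Z (z * d ^ k) := by
    have h1 := (IsPt.of_mem D.z_mem D.z_ne).conj (a : G)⁻¹
    rw [show (a : G)⁻¹ * z * (a : G)⁻¹⁻¹ = (a : G)⁻¹ * (z * a) by group, e, inv_mul_cancel_left] at h1
    exact h1
  have hdk : d ^ k ∈ Z :=
    (mul_mem_cancel_left D.z_mem).1 (D.set.pt_mem hpt (D.frame.pair.le1 hzd))
  have h0 : d ^ k = 1 := by
    by_contra hk1
    haveI : Fact (Nat.Prime 3) := ⟨Nat.prime_three⟩
    have hc : Nat.card ↥(zpowers d) = 3 := by rw [Nat.card_zpowers, orderOf_eq_prime D.d_cube D.d_ne]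
    exact D.flag1.notZ ((zpowers_le.2 hdk)
      (by rw [zpowers_eq_of_prime hc (zpow_mem (mem_zpowers d) k) hk1]; exact mem_zpowers d))
  rw [h0, mul_one] at e
  exact D.mem_CZ e.symm

theorem centData : CentData D.zb D.Rb := by
  have F := D.frame
  set K := centralizer (Z : Set G) ⊓ centralizer ({d} : Set G) with hK
  have hQK : Q2 ≤ K := fun x hx => ⟨D.set.Q_le (F.pair.le2 hx), (D.Q2_le_Fxd hx).2⟩
  have hKN : K ≤ normalizer (Q2 : Set G) := fun c hc =>
    D.norm_Q2_of_d hc.1 (mem_centralizer_singleton_iff.1 hc.2)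
  set f : ↥K →* XX d := (pr d).comp (Subgroup.inclusion inf_le_right) with hf
  obtain ⟨π, hπ⟩ := exists_sl_action F D.z_mem D.z_ne (K := K) inf_le_left hKN
  have hyK : y ∈ K := ⟨D.side.y_cent, mem_centralizer_singleton_iff.2 (D.side.comm D.side.y_mem D.d_E)⟩
  have hLK : L2 ≤ K := fun l hl => ⟨F.L2_le hl, mem_centralizer_singleton_iff.2 (D.L2_d hl)⟩
  have hdQ : ∀ {x : G}, x ∈ zpowers d → Triv Z Q2 x := fun hx =>
    F.triv_Q ((zpowers_le.2 (F.pair.le1 D.flag1.mem)) hx) F.pair.le2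
  have key := centData_of F D.z_mem D.z_ne (K := K) inf_le_left hKN hQK f
    (fun x hx e => D.d_notQ2 hx (pr_eq_one.1 e))
    (fun g hg => by
      obtain ⟨a, rfl, haC⟩ := D.cent_zb hg
      exact ⟨⟨a, haC, a.2⟩, rfl⟩)
    (fun k hk => hdQ (pr_eq_one.1 hk))
    (fun k hk => ?_)
    ⟨L2, hLK, F.L2_card, fun l hl => D.L2_triv hl⟩
    ⟨y, hyK, D.side.y_cube, D.side.nontriv.2⟩
  · have hR : (Q2.subgroupOf K).map f = D.Rb := by
      ext g
      constructor
      · rintro ⟨k, hk, rfl⟩; exact ⟨_, hk, rfl⟩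
      · rintro ⟨a, ha, rfl⟩; exact ⟨⟨a, hQK ha⟩, ha, rfl⟩
    exact hR ▸ key
  obtain ⟨l, hl, q, hq, i, e⟩ := D.cent_d k.2.1 (mem_centralizer_singleton_iff.1 k.2.2)
  have hqK : q ∈ K := ⟨D.set.Q_le hq.1, hq.2⟩
  have e1 : π k = π ⟨l, hLK hl⟩ * π ⟨y, hyK⟩ ^ (i : ℕ) := by
    rw [show k = ⟨l, hLK hl⟩ * (⟨q, hqK⟩ * ⟨y, hyK⟩ ^ (i : ℕ)) from Subtype.ext e, map_mul, map_mul, map_pow,
      (hπ ⟨q, hqK⟩).2 (F.triv_Q hq.1 F.pair.le2), one_mul]
  rw [(hπ k).2 hk] at e1
  have hy3 : π ⟨y, hyK⟩ ^ 3 = 1 := by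
    rw [← map_pow, show (⟨y, hyK⟩ : ↥K) ^ 3 = 1 from Subtype.ext D.side.y_cube, map_one]
  have hl8 : π ⟨l, hLK hl⟩ ^ 8 = 1 := by
    rw [← map_pow, show (⟨l, hLK hl⟩ : ↥K) ^ 8 = 1 from Subtype.ext (D.L2_pow hl), map_one]
  have hyi : π ⟨y, hyK⟩ ^ (i : ℕ) = 1 := by
    have h8 : (π ⟨y, hyK⟩ ^ (i : ℕ)) ^ 8 = 1 := by
      rw [eq_inv_of_mul_eq_one_right e1.symm, inv_pow, hl8, inv_one]
    have h3 : (π ⟨y, hyK⟩ ^ (i : ℕ)) ^ 3 = 1 := by rw [← pow_mul, mul_comm, pow_mul, hy3, one_pow]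
    have := pow_gcd_eq_one.2 ⟨h8, h3⟩
    rwa [show Nat.gcd 8 3 = 1 from rfl, pow_one] at this
  rw [hyi, mul_one] at e1
  have hl1 := D.L2_triv hl ((hπ ⟨l, hLK hl⟩).1 e1.symm)
  have hi : (i : ℕ) = 0 := by
    rcases (by omega : (i : ℕ) = 0 ∨ (i : ℕ) = 1 ∨ (i : ℕ) = 2) with h0 | h0 | h0
    · exact h0
    · rw [h0, pow_one] at hyi
      exact absurd ((hπ _).1 hyi) D.side.nontriv.2
    · rw [h0] at hyi
      refine absurd ((hπ ⟨y, hyK⟩).1 ?_) D.side.nontriv.2
      calc π ⟨y, hyK⟩ = π ⟨y, hyK⟩ * π ⟨y, hyK⟩ ^ 2 := by rw [hyi, mul_one]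
        _ = 1 := by rw [← pow_succ', hy3]
  rw [hl1, one_mul, hi, pow_zero, mul_one] at e
  obtain ⟨u, hu, v, hv, e'⟩ := F.pair.dec q hq.1
  have hud : u ∈ Z ⊔ zpowers d := by
    rw [← F.pair.cent_eq D.set D.flag1.mem D.flag1.notZ]
    refine mem_inf.2 ⟨hu, ?_⟩
    rw [show u = q * v⁻¹ by rw [e', mul_inv_cancel_right]]
    exact mul_mem hq.2 (inv_mem (D.Q2_le_Fxd hv).2)
  rw [← SetLike.mem_coe, Subgroup.coe_mul_of_right_le_normalizer_left Z _ (zpowers_le.2
    (Subgroup.centralizer_le_normalizer _ (D.set.Q_le (F.pair.le1 D.flag1.mem)))), Set.mem_mul] at hud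
  obtain ⟨w, hw, dk, hdk, rfl⟩ := hud
  refine ⟨⟨w * v, hQK (mul_mem (F.pair.Z2 hw) hv)⟩, mul_mem (F.pair.Z2 hw) hv, QuotientGroup.eq.2 ?_⟩
  rw [mem_subgroupOf]
  show (w * v)⁻¹ * (k : G) ∈ zpowers d
  rw [e, e']
  have hvd : dk * v = v * dk := F.pair.comm dk ((zpowers_le.2 D.flag1.mem) hdk) v hv
  rw [show (w * v)⁻¹ * (w * dk * v) = v⁻¹ * (dk * v) by group, hvd, inv_mul_cancel_left]
  exact hdk

theorem jData : JData D.zb D.Rb D.Jb := by
  refine ⟨?_, ?_, ?_, ?_⟩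
  · rintro _ ⟨a, ha, rfl⟩
    refine mem_centralizer_singleton_iff.2 ?_
    show pr d a * pr d _ = pr d _ * pr d a
    rw [← map_mul, ← map_mul]
    exact congrArg _ (Subtype.ext (D.side.comm ha D.z_E))
  · rintro _ ⟨a, ha, rfl⟩ _ ⟨b, hb, rfl⟩
    rw [← map_mul, ← map_mul]
    exact congrArg _ (Subtype.ext (D.side.comm ha hb))
  · rintro _ ⟨a, ha, rfl⟩
    rw [← map_pow, show a ^ 3 = 1 from Subtype.ext (D.side.exp ha), map_one]
  · set f : ↥E →* XX d := (pr d).comp (Subgroup.inclusion D.E_le_Cd) with hf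
    have hr : f.range = D.Jb := by
      ext g
      constructor
      · rintro ⟨e, rfl⟩; exact ⟨_, e.2, rfl⟩
      · rintro ⟨a, ha, rfl⟩; exact ⟨⟨a, ha⟩, rfl⟩
    have hk : f.ker = (zpowers d).subgroupOf E := by
      ext e
      rw [MonoidHom.mem_ker, mem_subgroupOf]
      exact pr_eq_one
    haveI : Fact (Nat.Prime 3) := ⟨Nat.prime_three⟩
    have hcm := f.ker.card_mul_index
    rw [Subgroup.index_ker, hr, hk, Nat.card_congr (subgroupOfEquivOfLe (zpowers_le.2 D.d_E)).toEquiv,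
      D.side.card_E, Nat.card_zpowers, orderOf_eq_prime D.d_cube D.d_ne] at hcm
    omega

theorem sigX (K : Subgroup (XX d)) (hK : (Nat.card K).Coprime 3) (hn : D.Jb ≤ normalizer (K : Set (XX d))) :
    K = ⊥ := by
  classical
  haveI : Fact (Nat.Prime 3) := ⟨Nat.prime_three⟩
  set P := K.comap (pr d) with hP
  set f : ↥P →* XX d := (pr d).comp P.subtype with hf
  have hr : f.range = K := by
    ext g
    constructor
    · rintro ⟨a, rfl⟩; exact a.2
    · intro hg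
      obtain ⟨a, rfl⟩ := pr_surj d g
      exact ⟨⟨a, hg⟩, rfl⟩
  have hk3 : Nat.card ↥f.ker = 3 := by
    rw [← (orderOf_eq_prime D.d_cube D.d_ne : orderOf d = 3), ← Nat.card_zpowers]
    refine Nat.card_congr (Equiv.ofBijective
      (fun a : ↥f.ker => (⟨((a : ↥P) : ↥(centralizer ({d} : Set G))), pr_eq_one.1 a.2⟩ : ↥(zpowers d)))
      ⟨fun a b e => ?_, fun w => ?_⟩)
    · exact Subtype.ext (Subtype.ext (Subtype.ext (congrArg (fun q : ↥(zpowers d) => (q : G)) e)))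
    · have hw : (w : G) ∈ centralizer ({d} : Set G) := D.E_le_Cd ((zpowers_le.2 D.d_E) w.2)
      exact ⟨⟨⟨⟨w, hw⟩, show pr d ⟨w, hw⟩ ∈ K by rw [pr_eq_one.2 w.2]; exact one_mem K⟩, pr_eq_one.2 w.2⟩, rfl⟩
  have hidx : f.ker.index = Nat.card K := by rw [Subgroup.index_ker, hr]
  obtain ⟨M, hM⟩ := exists_right_complement'_of_coprime (N := f.ker) (by rw [hk3, hidx]; exact hK.symm)
  have hMc : Nat.card ↥M = Nat.card K := by rw [← hidx]; exact hM.symm.index_eq_card.symm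
  have hmem : ∀ x : ↥P, x ∈ M ↔ x ^ Nat.card K = 1 := by
    intro x
    constructor
    · intro hx
      have := pow_card_eq_one' (x := (⟨x, hx⟩ : ↥M))
      rw [hMc] at this
      exact congrArg Subtype.val this
    · intro hx
      obtain ⟨⟨⟨k, hk⟩, ⟨m, hm⟩⟩, e⟩ := hM.2 x
      simp only at e
      have hkc : Commute k m := by
        obtain ⟨n, hn'⟩ := mem_zpowers_iff.1 (pr_eq_one.1 (MonoidHom.mem_ker.1 hk) :
          ((k : ↥(centralizer ({d} : Set G))) : G) ∈ zpowers d)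
        refine Subtype.ext (Subtype.ext ?_)
        show ((k : ↥(centralizer ({d} : Set G))) : G) * ((m : ↥(centralizer ({d} : Set G))) : G) = _
        rw [← hn']
        refine (((show Commute d ((m : ↥(centralizer ({d} : Set G))) : G) from
          (mem_centralizer_singleton_iff.1 (m : ↥(centralizer ({d} : Set G))).2).symm)).zpow_left n).eq.trans ?_
        rw [hn']
        rfl
      have hm1 : m ^ Nat.card K = 1 := by
        have := pow_card_eq_one' (x := (⟨m, hm⟩ : ↥M))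
        rw [hMc] at this
        exact congrArg Subtype.val this
      rw [← e, hkc.mul_pow, hm1, mul_one] at hx
      have hk1 : k ^ 3 = 1 := by
        have := pow_card_eq_one' (x := (⟨k, hk⟩ : ↥f.ker))
        rw [hk3] at this
        exact congrArg Subtype.val this
      have := pow_gcd_eq_one.2 ⟨hx, hk1⟩
      rw [hK.gcd_eq_one, pow_one] at this
      rw [← e, this, one_mul]; exact hm
  set MG := M.map ((centralizer ({d} : Set G)).subtype.comp P.subtype) with hMG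
  have hinjP : Function.Injective ((centralizer ({d} : Set G)).subtype.comp P.subtype) := fun a b e =>
    Subtype.ext (Subtype.ext e)
  have hMG1 : MG = ⊥ := by
    refine D.sig MG ?_ ?_
    · rw [hMG, card_map_of_injective hinjP, hMc]
      exact hK
    · intro e he
      refine Subgroup.mem_normalizer_fintype ?_
      rintro _ ⟨x, hx, rfl⟩
      set eC : ↥(centralizer ({d} : Set G)) := ⟨e, D.E_le_Cd he⟩ with heC
      have hPm : eC * (x : ↥(centralizer ({d} : Set G))) * eC⁻¹ ∈ P := by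
        show pr d _ ∈ K
        rw [map_mul, map_mul, map_inv]
        exact (mem_normalizer_iff.1 (hn (D.mem_Jb.2 (show (eC : G) ∈ E from he))) _).1 x.2
      refine ⟨⟨_, hPm⟩, (hmem _).2 (Subtype.ext ?_), rfl⟩
      push_cast
      rw [conj_pow]
      have := congrArg Subtype.val ((hmem x).1 hx)
      push_cast at this
      rw [this, mul_one, mul_inv_cancel]
  have hMb : M = ⊥ :=
    (map_eq_bot_iff_of_injective M hinjP).1 hMG1
  rw [hMb, card_bot] at hMc
  exact Subgroup.card_eq_one.1 hMc.symm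

/-- The coordinates in `C(d)/⟨d⟩`; the diagonal signs occur. -/
theorem exists_loc_quot : ∃ (ci : Bool) (φ : Mn → XX d), Loc D.zb D.Rb D.Jb ci true φ := by
  obtain ⟨ci, cd, φ, L⟩ := exists_loc_of_data D.centData D.jData D.sigX
  cases cd
  swap
  · exact ⟨ci, φ, L⟩
  exfalso
  obtain ⟨c, hcd, -, hcy⟩ := D.exists_swap
  set cC : ↥(centralizer ({d} : Set G)) := ⟨c, mem_centralizer_singleton_iff.2 hcd⟩
  set yC : ↥(centralizer ({d} : Set G)) := ⟨y, D.E_le_Cd D.side.y_mem⟩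
  obtain ⟨v, hv⟩ := (L.memJ _).1 (D.mem_Jb.2 (show (yC : G) ∈ E from D.side.y_mem))
  have hw : ∃ u : V3, (u = (1, 1, 1) ∨ u = -(1, 1, 1)) ∧ pr d cC * pr d yC * (pr d cC)⁻¹ = φ (jM u) := by
    rcases zp_cases D.set.Z_card D.z_mem D.z_ne hcy with e | e | e
    · exact absurd (conj_eq_one_iff.1 e) D.side.pt.ne_one
    · exact ⟨_, Or.inl rfl, by rw [L.a_eq, ← map_inv, ← map_mul, ← map_mul]; exact congrArg _ (Subtype.ext e)⟩
    · refine ⟨_, Or.inr rfl, ?_⟩
      rw [L.jneg, L.a_eq, ← map_inv, ← map_mul, ← map_mul]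
      unfold zb
      rw [← map_inv]
      exact congrArg _ (Subtype.ext e)
  obtain ⟨u, hu, e⟩ := hw
  rw [← hv] at e
  obtain ⟨p, hp, hpv⟩ := L.fus u v (pr d cC)⁻¹ (by rw [← e]; group)
  have hv1 : v = (1, 1, 1) ∨ v = -(1, 1, 1) := by
    rcases cd_false_fix ci p.w hp with h | h <;> rcases hu with rfl | rfl
    · exact Or.inl (hpv ▸ h)
    · exact Or.inr (by rw [← hpv, wact_neg', h])
    · exact Or.inr (hpv ▸ h)
    · exact Or.inl (by rw [← hpv, wact_neg', h, neg_neg])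
  have hzy : pr d yC = D.zb ∨ pr d yC = D.zb⁻¹ := by
    rcases hv1 with rfl | rfl
    · exact Or.inl (by rw [← hv, L.a_eq])
    · exact Or.inr (by rw [← hv, L.jneg, L.a_eq])
  have hyQ : y ∈ Q := by
    have hzQ : z ∈ Q := D.set.Z_le D.z_mem
    rcases hzy with e1 | e1
    · have h1 := pr_eq e1.symm
      have h2 := mul_mem hzQ ((zpowers_le.2 (D.frame.pair.le1 D.flag1.mem)) h1)
      rwa [mul_inv_cancel_left] at h2
    · unfold zb at e1
      rw [← map_inv] at e1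
      have h1 := pr_eq e1.symm
      have h2 := mul_mem (inv_mem hzQ) ((zpowers_le.2 (D.frame.pair.le1 D.flag1.mem)) h1)
      push_cast at h2
      rwa [mul_inv_cancel_left] at h2
  exact D.side.y_notQ hyQ

/-- In the real case the centralizer of a three-cycle normalises `E/⟨d⟩`. -/
theorem small_real {φ : Mn → XX d} (L : Loc D.zb D.Rb D.Jb true true φ) :
    centralizer ({φ (jM (0, 0, 1))} : Set (XX d)) ≤ normalizer (D.Jb : Set (XX d)) := by
  classical
  refine (L.mon_dichotomy).resolve_right ?_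
  rintro ⟨K, S⟩
  obtain ⟨iso⟩ := S.iso
  set P : Subgroup G :=
    { carrier := {e | ∃ he : e ∈ E, ∃ v : V3, v.2.2 = 0 ∧ φ (jM v) = pr d ⟨e, D.E_le_Cd he⟩}
      one_mem' := ⟨one_mem E, 0, rfl, by rw [L.jzero]; exact (map_one (pr d)).symm⟩
      mul_mem' := by
        rintro a b ⟨ha, u, hu, eu⟩ ⟨hb, v, hv, ev⟩
        refine ⟨mul_mem ha hb, u + v, by rw [Prod.snd_add, Prod.snd_add, hu, hv, add_zero], ?_⟩
        rw [L.jadd, eu, ev, ← map_mul]
        rfl
      inv_mem' := by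
        rintro a ⟨ha, u, hu, eu⟩
        refine ⟨inv_mem ha, -u, by rw [Prod.snd_neg, Prod.snd_neg, hu, neg_zero], ?_⟩
        rw [L.jneg, eu, ← map_inv]
        rfl } with hPd
  have hPE : P ≤ E := fun e he => he.1
  have hlift : ∀ v : V3, ∃ (e : G) (he : e ∈ E), pr d ⟨e, D.E_le_Cd he⟩ = φ (jM v) := fun v => by
    obtain ⟨a, ha⟩ := pr_surj d (φ (jM v))
    exact ⟨a, D.mem_Jb.1 (ha ▸ (L.memJ _).2 ⟨v, rfl⟩), ha⟩
  have hPc : Nat.card ↥P = 27 := by
    haveI : Fact (Nat.Prime 3) := ⟨Nat.prime_three⟩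
    have hS := card_plane
    choose lft hlftE hlft using hlift
    rw [show (27 : ℕ) = Nat.card ({v : V3 // v.2.2 = 0} × ↥(zpowers d)) by
      rw [Nat.card_prod, hS, Nat.card_zpowers, orderOf_eq_prime D.d_cube D.d_ne]]
    have hdP : ∀ w : ↥(zpowers d), ∀ v : {v : V3 // v.2.2 = 0}, lft v.1 * (w : G) ∈ P := fun w v => by
      refine ⟨mul_mem (hlftE _) ((zpowers_le.2 D.d_E) w.2), v.1, v.2, ?_⟩
      rw [← hlft v.1]
      refine QuotientGroup.eq.2 (mem_subgroupOf.2 ?_)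
      push_cast
      rw [inv_mul_cancel_left]
      exact w.2
    refine (Nat.card_congr (Equiv.ofBijective
      (fun q : {v : V3 // v.2.2 = 0} × ↥(zpowers d) => (⟨lft q.1.1 * (q.2 : G), hdP q.2 q.1⟩ : ↥P))
      ⟨?_, ?_⟩)).symm
    · rintro ⟨v, w⟩ ⟨v', w'⟩ e
      have e' : lft v.1 * (w : G) = lft v'.1 * (w' : G) := congrArg Subtype.val e
      have hvv : v = v' := by
        refine Subtype.ext (L.jinj ?_)
        rw [← hlft v.1, ← hlft v'.1]
        refine QuotientGroup.eq.2 (mem_subgroupOf.2 ?_)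
        push_cast
        rw [show (lft v.1)⁻¹ * lft v'.1 = (w : G) * (w' : G)⁻¹ by
          calc (lft v.1)⁻¹ * lft v'.1 = (lft v.1)⁻¹ * (lft v'.1 * (w' : G)) * (w' : G)⁻¹ := by group
            _ = _ := by rw [← e']; group]
        exact mul_mem w.2 (inv_mem w'.2)
      subst hvv
      exact Prod.ext rfl (Subtype.ext (mul_left_cancel e'))
    · rintro ⟨e, he, v, hv, ev⟩
      refine ⟨(⟨v, hv⟩, ⟨(lft v)⁻¹ * e, pr_eq ((hlft v).trans ev)⟩), Subtype.ext ?_⟩
      simp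
  obtain ⟨p, hpP, hpt⟩ := D.frame.hyper D.side.pt D.side.y_cent D.side.y_not (D.side.E_eq ▸ hPE) hPc
  obtain ⟨hpE, v, hv, ev⟩ := hpP
  have hv0 : v ≠ 0 := by
    rintro rfl
    rw [L.jzero] at ev
    have hpd := pr_eq_one.1 ev.symm
    have hpQ : p ∈ Q := (zpowers_le.2 (D.frame.pair.le1 D.flag1.mem)) hpd
    exact hpt.ne_one (by
      by_contra hp1
      haveI : Fact (Nat.Prime 3) := ⟨Nat.prime_three⟩
      have hc : Nat.card ↥(zpowers d) = 3 := by rw [Nat.card_zpowers, orderOf_eq_prime D.d_cube D.d_ne]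
      exact D.flag1.notZ ((zpowers_le.2 (D.set.pt_mem hpt hpQ))
        (by rw [zpowers_eq_of_prime hc hpd hp1]; exact mem_zpowers d)))
  obtain ⟨w, hw⟩ := orbit_plane v hv0 hv
  obtain ⟨g, hg⟩ := pr_surj d (φ (wM w))
  have hconj : ∀ u : V3, wact w u = v →
      pr d (g⁻¹ * ⟨p, D.E_le_Cd hpE⟩ * g⁻¹⁻¹) = φ (jM u) := by
    intro u hu
    have h1 := L.act' (p := wM w) (Cfsg.Agent.NineSym.wok_all w) u
    rw [show (wM w : Mn).w = w from rfl, hu, ev, ← hg] at h1
    simp only [map_mul, map_inv, inv_inv]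
    rw [← h1]
    group
  set p' : ↥(centralizer ({d} : Set G)) := g⁻¹ * ⟨p, D.E_le_Cd hpE⟩ * g⁻¹⁻¹ with hp'
  have hp't : IsPt Z (p' : G) := by
    have := hpt.conj (g : G)⁻¹
    simpa [hp'] using this
  rcases hw with hw | hw
  · -- an element of order five centralises a point
    set k5 : ↥K := iso.symm five6 with hk5
    have hk55 : k5 ^ 5 = 1 := by rw [hk5, ← map_pow, five6_facts.1, map_one]
    have hk51 : k5 ≠ 1 := fun e => five6_facts.2 (iso.symm.injective (by rw [map_one]; exact e))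
    obtain ⟨x0, hx0⟩ := pr_surj d (k5 : XX d)
    have h15 : (x0 : G) ^ 5 ∈ zpowers d := by
      have h1 : pr d (x0 ^ 5) = 1 := by
        rw [map_pow, hx0, ← SubgroupClass.coe_pow, hk55, OneMemClass.coe_one]
      have := pr_eq_one.1 h1
      rwa [SubgroupClass.coe_pow] at this
    have hx6 : ((x0 : G) ^ 6) ^ 5 = 1 := by
      obtain ⟨n, hn⟩ := mem_zpowers_iff.1 h15
      rw [← pow_mul, show 6 * 5 = 5 * (3 * 2) from rfl, pow_mul, ← hn, pow_mul, ← zpow_natCast (d ^ n) 3,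
        ← zpow_mul, mul_comm, zpow_mul, zpow_natCast, D.d_cube, one_zpow, one_pow]
    have hprx : pr d (x0 ^ 6) = (k5 : XX d) := by
      rw [map_pow, hx0, ← SubgroupClass.coe_pow, pow_succ, hk55, one_mul]
    have hxc : pr d p' * pr d (x0 ^ 6) = pr d (x0 ^ 6) * pr d p' := by
      rw [hprx, hconj _ hw]
      exact (mem_centralizer_singleton_iff.1 (S.hKC k5.2)).symm
    have hcomm := comm_of_pr D.d_cube (n := 5) (by norm_num) (a := x0 ^ 6) (b := p')
      (by push_cast; exact hx6) hxc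
    push_cast at hcomm
    have h1 := five_pt D.frame hp't hcomm.symm hx6
    refine hk51 (Subtype.ext ?_)
    rw [← hprx, show x0 ^ 6 = 1 from Subtype.ext (by push_cast; exact h1), map_one, OneMemClass.coe_one]
  · -- a point in `Q` outside `Z`
    have hR : pr d p' ∈ D.Rb := by rw [hconj _ hw]; exact L.plane_R _ (by decide)
    obtain ⟨q, hq, eq⟩ := hR
    have h1 : (q : G) * ((q : G)⁻¹ * (p' : G)) ∈ Q :=
      mul_mem (D.frame.pair.le2 hq) ((zpowers_le.2 (D.frame.pair.le1 D.flag1.mem)) (pr_eq eq))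
    rw [mul_inv_cancel_left] at h1
    have hZ := D.set.pt_mem hp't h1
    have hzp : pr d p' ∈ zpowers D.zb := by
      obtain ⟨n, hn⟩ := mem_zpowers_iff.1 ((zpowers_eq_of_prime D.set.Z_card D.z_mem D.z_ne).ge hZ)
      exact mem_zpowers_iff.2 ⟨n, by unfold zb; rw [← map_zpow]; exact congrArg _ (Subtype.ext hn)⟩
    rw [hconj _ hw] at hzp
    obtain ⟨n, hn⟩ := (Submonoid.mem_powers_iff _ _).1 (mem_powers_iff_mem_zpowers.2 hzp)
    have e3 : φ (jM ((1, 2, 0) : V3)) = φ (jM (n • ((1, 1, 1) : V3))) := by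
      rw [← hn]
      clear hn hzp
      induction n with
      | zero => rw [pow_zero, zero_nsmul, L.jzero]
      | succ n ih => rw [pow_succ, ih, succ_nsmul, L.jadd, L.a_eq]
    have e4 := L.jinj e3
    have e5 := congrArg Prod.fst e4
    have e6 := congrArg (fun x : V3 => x.2.1) e4
    simp at e5 e6
    rw [← e5] at e6
    exact absurd e6 (by decide)

/-- In the real case an element of `E` spanning with `d` a plane without points has its centralizer in
`C(d)` inside `N(E)`. -/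
theorem cent_free (hreal : ∃ g : G, g * d = d * g ∧ g * z * g⁻¹ = z⁻¹) {c : G} (hc : c ∈ E)
    (hcd : c ∉ zpowers d) (hfree : ∀ x ∈ zpowers c ⊔ zpowers d, ¬ IsPt Z x) :
    centralizer ({c} : Set G) ⊓ centralizer ({d} : Set G) ≤ normalizer (E : Set G) := by
  obtain ⟨ci, φ, L⟩ := D.exists_loc_quot
  obtain rfl : ci = true := L.ci_true (by
    obtain ⟨g, hgd, hgz⟩ := hreal
    refine ⟨pr d ⟨g, mem_centralizer_singleton_iff.2 hgd⟩, ?_⟩
    unfold zb
    rw [← map_inv, ← map_mul, ← map_mul, ← map_inv]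
    exact congrArg _ (Subtype.ext hgz))
  set cC : ↥(centralizer ({d} : Set G)) := ⟨c, D.E_le_Cd hc⟩ with hcC
  obtain ⟨v, hv⟩ := (L.memJ _).1 (D.mem_Jb.2 (show (cC : G) ∈ E from hc))
  have hv0 : v ≠ 0 := by
    rintro rfl
    rw [L.jzero] at hv
    exact hcd (pr_eq_one.1 hv.symm)
  have hnorm : ∀ g : XX d, g * φ (jM v) = φ (jM v) * g → g ∈ normalizer (D.Jb : Set (XX d)) := by
    obtain ⟨w, hw⟩ := orbit_three v hv0
    rcases hw with hw | hw | hw
    · exfalso
      obtain ⟨g, hg⟩ := pr_surj d (φ (wM w))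
      have h1 := L.act' (p := wM w) (Cfsg.Agent.NineSym.wok_all w) (1, 1, 1)
      rw [show (wM w : Mn).w = w from rfl, hw, L.a_eq, hv, ← hg] at h1
      unfold zb at h1
      rw [← map_inv, ← map_mul, ← map_mul] at h1
      have h2 := pr_eq h1
      push_cast at h2
      refine hfree ((g : G) * z * (g : G)⁻¹) ?_ ((IsPt.of_mem D.z_mem D.z_ne).conj _)
      obtain ⟨k, hk⟩ := mem_zpowers_iff.1 h2
      rw [show (g : G) * z * (g : G)⁻¹ = c * (d ^ k)⁻¹ by rw [hk, hcC]; group]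
      exact mul_mem_sup (mem_zpowers c) (inv_mem (zpow_mem (mem_zpowers d) k))
    · subst hw
      exact fun g hg => L.cent_orbit (Cfsg.Agent.NineSym.wok_all w)
        (fun g hg => D.small_real L (mem_centralizer_singleton_iff.2 hg)) hg
    · exact fun g hg => L.cent_two w hw hg
  rintro g ⟨hgc, hgd⟩
  set gC : ↥(centralizer ({d} : Set G)) := ⟨g, hgd⟩ with hgC
  have hN := hnorm (pr d gC) (by
    rw [hv, ← map_mul, ← map_mul]
    exact congrArg _ (Subtype.ext (mem_centralizer_singleton_iff.1 hgc)))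
  refine Subgroup.mem_normalizer_fintype fun e he => ?_
  have h1 := (mem_normalizer_iff.1 hN _).1 (D.mem_Jb.2 (show ((⟨e, D.E_le_Cd he⟩ :
    ↥(centralizer ({d} : Set G))) : G) ∈ E from he))
  rw [← map_inv, ← map_mul, ← map_mul] at h1
  exact D.mem_Jb.1 h1

end Dat

end Cfsg.Agent.UThreeLocal.Cand
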