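import Cfsg.Agent.Lib.UThreeLocal.Cand.Radical
import Cfsg.Agent.Lib.Coprime.Action
import Cfsg.Agent.Lib.Coprime.SchurZassenhaus

/-!
# The quotient `(C(r) ∩ N(R))/R`

The centralizer of the image of `z` has shape `3^(1+2) : SL₂(3)` and the image of `A` gives coordinates with
the diagonal signs; an element of the normalizer of that image lifts to `N(A) ∩ C(r)`, whose action on `A`
is known.
-/

set_option autoImplicit false
set_option linter.unusedSectionVars false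
set_option linter.style.haveILetI false
set_option linter.unusedVariables false
set_option maxRecDepth 100000
set_option synthInstance.maxSize 10000

namespace Cfsg.Agent.UThreeLocal.Cand

open Subgroup
open scoped commutatorElement Pointwise
open Cfsg.Agent.NineSym
open Cfsg.Agent.SpThreeCent (CentData JData Loc)

universe u

theorem lin_basis : ∀ v : V3,
    v = v.1 • ((1, 0, 0) : V3) + v.2.1 • ((0, 1, 0) : V3) + v.2.2 • ((0, 0, 1) : V3) := by decide +kernel

/-- The linear map with given values at the basis. -/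
def lin3 (a b c v : V3) : V3 := v.1 • a + v.2.1 • b + v.2.2 • c

theorem lin3_wact : ∀ a b c : V3, full (lin3 a b c (pv 0)) → full (lin3 a b c (pv 1)) →
    full (lin3 a b c (pv 2)) → full (lin3 a b c (pv 3)) → (∀ v, lin3 a b c v = 0 → v = 0) →
    ∃ w : Wt, wact w (1, 0, 0) = a ∧ wact w (0, 1, 0) = b ∧ wact w (0, 0, 1) = c := by decide +kernel

theorem wact_ext : ∀ w u : Wt, wact w (1, 0, 0) = wact u (1, 0, 0) → wact w (0, 1, 0) = wact u (0, 1, 0) →
    wact w (0, 0, 1) = wact u (0, 0, 1) → w = u := by decide +kernel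

theorem wact_smul' (w : Wt) (k : ZMod 3) (v : V3) : wact w (k • v) = k • wact w v := by
  have h0 : wact w 0 = 0 := by
    have h := wact_add w 0 0
    rw [add_zero] at h
    exact left_eq_add.1 h
  rcases pw_facts.2.2.2 k with e | e | e <;> subst e
  · simp [h0]
  · simp
  · rw [neg_one_smul, neg_one_smul]
    exact eq_neg_of_add_eq_zero_left (by rw [← wact_add, neg_add_cancel, h0])

theorem words_S4 : ∀ w : Wt, w.e = false → ∃ (a c : Fin 3) (m : Fin 4),
    w = ![1, cycW, cycW * cycW] a *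
      ![1, nWA, nWA * cycW * nWA, nWA * cycW * nWA * (cycW * cycW) * nWA] m *
      ![1, cycW, cycW * cycW] c := by decide +kernel

theorem nWB_neg : ∀ v : V3, wact (nWB * (cycW * nWB * (cycW * cycW)) * (cycW * cycW * nWB * cycW)) v = -v := by
  decide +kernel

theorem neg_flip : ∀ w : Wt, w.e = true → ∃ v : V3, wact (⟨false, w.k, w.p⟩ : Wt) v = (1, 1, 1) ∧
    wact w v = -(1, 1, 1) := by decide +kernel

theorem inL_wM (ci : Bool) (w : Wt) (h : Wok ci true w) : InL ci true (wM w) := h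

theorem wok_e : ∀ (ci : Bool) (w : Wt), Wok ci true w ↔ (w.e = true → ci = true) := by
  intro ci w
  exact ⟨fun h => h.1, fun h => ⟨h, fun _ => rfl⟩⟩

variable {G : Type u} [Group G]

/-- The normalizer of `R` in `C(r)`. -/
abbrev NN (r : G) (R : Subgroup G) : Subgroup G := centralizer ({r} : Set G) ⊓ normalizer (R : Set G)

instance nn_normal (r : G) (R : Subgroup G) : (R.subgroupOf (NN r R)).Normal :=
  normal_subgroupOf_of_le_normalizer inf_le_right

/-- The quotient by `R`. -/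
abbrev NB (r : G) (R : Subgroup G) : Type u := ↥(NN r R) ⧸ R.subgroupOf (NN r R)

/-- The projection. -/
abbrev pn (r : G) (R : Subgroup G) : ↥(NN r R) →* NB r R := QuotientGroup.mk' _

theorem pn_eq_one {r : G} {R : Subgroup G} {a : ↥(NN r R)} : pn r R a = 1 ↔ (a : G) ∈ R :=
  (QuotientGroup.eq_one_iff a).trans mem_subgroupOf

theorem pn_eq {r : G} {R : Subgroup G} {a c : ↥(NN r R)} (e : pn r R a = pn r R c) : (a : G)⁻¹ * c ∈ R :=
  mem_subgroupOf.1 (QuotientGroup.eq.1 e)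

/-- Elements centralised modulo `R` by a coprime group of order three lift to its centralizer. -/
theorem exists_lift_cent [Finite G] {r : G} {R : Subgroup G} (hR : (Nat.card ↥R).Coprime 3)
    {a g : ↥(NN r R)} (ha : (a : G) ^ 3 = 1) (hg : pn r R g * pn r R a = pn r R a * pn r R g) :
    ∃ ρ ∈ R, (g : G) * ρ * a = a * ((g : G) * ρ) := by
  haveI : Fact (Nat.Prime 3) := ⟨Nat.prime_three⟩
  haveI : IsMulCommutative ↥(zpowers (a : G)) :=
    ⟨⟨fun x w => by
      obtain ⟨i, hi⟩ := mem_zpowers_iff.1 x.2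
      obtain ⟨j, hj⟩ := mem_zpowers_iff.1 w.2
      refine Subtype.ext ?_
      show (x : G) * w = w * x
      rw [← hi, ← hj, ← zpow_add, ← zpow_add, add_comm]⟩⟩
  have hcop : (Nat.card ↥(zpowers (a : G))).Coprime (Nat.card ↥R) := by
    rw [Nat.card_zpowers]
    exact Nat.Coprime.coprime_dvd_left (orderOf_dvd_of_pow_eq_one ha) hR.symm
  obtain ⟨ρ, hρ, hc⟩ := Cfsg.Agent.Coprime.exists_fixed_in_coset (A := zpowers (a : G)) (N := R)
    (zpowers_le.2 a.2.2) hcop (Or.inl (Cfsg.Agent.Coprime.isSolvable_of_isMulCommutative _))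
    (k := (g : G)) fun w hw => by
      obtain ⟨i, rfl⟩ := mem_zpowers_iff.1 hw
      have h1 : pn r R (g⁻¹ * (a ^ i * g * (a ^ i)⁻¹)) = 1 := by
        have h2 : Commute (pn r R g) (pn r R a) := hg
        rw [map_mul, map_mul, map_mul, map_inv, map_inv, map_zpow, ← (h2.zpow_right i).eq, mul_inv_cancel_right,
          inv_mul_cancel]
      have := pn_eq_one.1 h1
      push_cast at this
      exact this
  exact ⟨ρ, hρ, (mem_centralizer_iff.1 hc _ (mem_zpowers _)).symm⟩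

variable [Finite G] {Z Q Q1 Q2 L1 L2 E : Subgroup G} {t1 t2 z y d a2 n b : G} {ψ : V3 → G}
  (D : Dat Z Q Q1 Q2 L1 L2 E t1 t2 z y d a2) (U : Duo Z L2 E t2 z y d n)
  (C : Crd Z Q1 (E ⊓ centralizer ({t2} : Set G)) y d b n ψ)
include D U C

theorem A_NN : E ⊓ centralizer ({t2} : Set G) ≤ NN t2 (Rd L2 b n) := le_inf inf_le_right (A_norm D U C)

/-- The image of a point of `A` in the quotient. -/
def qv (v : V3) : NB t2 (Rd L2 b n) := pn t2 (Rd L2 b n) ⟨ψ v, A_NN D U C (C.mem' v)⟩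

/-- The image of `A`. -/
def qA (_ : Dat Z Q Q1 Q2 L1 L2 E t1 t2 z y d a2) (_ : Duo Z L2 E t2 z y d n)
    (_ : Crd Z Q1 (E ⊓ centralizer ({t2} : Set G)) y d b n ψ) : Subgroup (NB t2 (Rd L2 b n)) :=
  ((E ⊓ centralizer ({t2} : Set G)).subgroupOf (NN t2 (Rd L2 b n))).map (pn t2 (Rd L2 b n))

/-- The image of `Q₁`. -/
def qQ (_ : Dat Z Q Q1 Q2 L1 L2 E t1 t2 z y d a2) (_ : Duo Z L2 E t2 z y d n)
    (_ : Crd Z Q1 (E ⊓ centralizer ({t2} : Set G)) y d b n ψ) : Subgroup (NB t2 (Rd L2 b n)) := (Q1.subgroupOf (NN t2 (Rd L2 b n))).map (pn t2 (Rd L2 b n))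

theorem qv_add (v w : V3) : qv D U C (v + w) = qv D U C v * qv D U C w := by
  unfold qv
  rw [← map_mul]
  exact congrArg _ (Subtype.ext (C.add v w))

theorem qv_inj : Function.Injective (qv D U C) := by
  intro v w e
  refine sub_eq_zero.1 (by_contra fun hne => C.ne_one hne ?_)
  have h1 := pn_eq e.symm
  have h2 : (ψ w)⁻¹ * ψ v = ψ (v - w) := by rw [← C.neg, ← C.add, neg_add_eq_sub]
  rw [show ((⟨ψ w, _⟩ : ↥(NN t2 (Rd L2 b n))) : G) = ψ w from rfl,
    show ((⟨ψ v, _⟩ : ↥(NN t2 (Rd L2 b n))) : G) = ψ v from rfl, h2] at h1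
  have h3 : ψ (v - w) ^ Nat.card ↥(Rd L2 b n) = 1 :=
    congrArg Subtype.val (pow_card_eq_one' (x := (⟨_, h1⟩ : ↥(Rd L2 b n))))
  have := pow_gcd_eq_one.2 ⟨h3, C.cube (v - w)⟩
  rwa [(Rd_three D U C).gcd_eq_one, pow_one] at this

theorem mem_qA (g : NB t2 (Rd L2 b n)) : g ∈ qA D U C ↔ ∃ v, qv D U C v = g := by
  constructor
  · rintro ⟨a, ha, rfl⟩
    obtain ⟨v, hv⟩ := (C.mem (a : G)).1 ha
    exact ⟨v, congrArg _ (Subtype.ext hv)⟩
  · rintro ⟨v, rfl⟩
    exact ⟨_, C.mem' v, rfl⟩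

/-- The centralizer of the image of `z` has shape `3^(1+2) : SL₂(3)`. -/
theorem centData : CentData (qv D U C (pv 0)) (qQ D U C) := by
  classical
  have F := D.frame
  have h := D.set
  set R := Rd L2 b n with hR
  have hR3 := Rd_three D U C
  set z0 := ψ (pv 0) with hz0
  have hz0Z : z0 ∈ Z := C.p0
  have hz01 : z0 ≠ 1 := C.ne_one (by decide +kernel)
  set K := centralizer (Z : Set G) ⊓ centralizer ({t2} : Set G) with hK
  have hKNN : K ≤ NN t2 R := fun g hg => mem_inf.2 ⟨(mem_inf.1 hg).2,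
    norm_Z_Rd D U C (mem_inf.2 ⟨centralizer_le_normalizer _ (mem_inf.1 hg).1, (mem_inf.1 hg).2⟩)⟩
  have hKN : K ≤ normalizer (Q1 : Set G) := fun g hg =>
    D.norm_Q1 (centralizer_le_normalizer _ (mem_inf.1 hg).1) (mem_centralizer_singleton_iff.1 (mem_inf.1 hg).2)
  have hQK : Q1 ≤ K := fun x hx =>
    mem_inf.2 ⟨h.Q_le (F.pair.le1 hx), mem_centralizer_singleton_iff.2 (D.t2_fix hx).symm⟩
  have hRZ : ∀ {x : G}, x ∈ R → x ∈ centralizer (Z : Set G) → x ∈ L2 := by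
    intro x hx hxZ
    have h1 : x ∈ R ⊓ centralizer ({ψ (pv 0)} : Set G) :=
      mem_inf.2 ⟨hx, mem_centralizer_singleton_iff.2 (mem_centralizer_iff.1 hxZ _ C.p0).symm⟩
    rw [cent_pv D U C 0] at h1
    rwa [Lv, show gv b n 0 = 1 from rfl, cj_one] at h1
  set f : ↥K →* NB t2 R := (pn t2 R).comp (Subgroup.inclusion hKNN) with hf
  have key := centData_of F.symm hz0Z hz01 (K := K) inf_le_left hKN hQK f
    (fun x hx e => by
      have hxR : x ∈ R := pn_eq_one.1 e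
      have h1 : x ^ Nat.card ↥R = 1 := congrArg Subtype.val (pow_card_eq_one' (x := (⟨x, hxR⟩ : ↥R)))
      have := pow_gcd_eq_one.2 ⟨h1, F.cube x (F.pair.le1 hx)⟩
      rwa [hR3.gcd_eq_one, pow_one] at this)
    (fun g hg => by
      obtain ⟨a, rfl⟩ := QuotientGroup.mk'_surjective _ g
      obtain ⟨ρ, hρ, hc⟩ := exists_lift_cent hR3 (a := ⟨z0, hKNN (hQK (F.pair.Z1 hz0Z))⟩) (g := a)
        (C.cube _) hg
      have haρ : (a : G) * ρ ∈ K := by
        refine mem_inf.2 ⟨?_, mul_mem (mem_inf.1 a.2).1 (Rd_le D U C hρ)⟩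
        refine mem_centralizer_iff.2 fun w hw => ?_
        obtain ⟨m, rfl⟩ := mem_zpowers_iff.1 ((zpowers_eq_of_prime h.Z_card hz0Z hz01).ge hw)
        exact ((show Commute z0 ((a : G) * ρ) from hc.symm).zpow_left m).eq
      refine ⟨⟨(a : G) * ρ, haρ⟩, QuotientGroup.eq.2 (mem_subgroupOf.2 ?_)⟩
      show ((a : G) * ρ)⁻¹ * (a : G) ∈ R
      rw [show ((a : G) * ρ)⁻¹ * (a : G) = ρ⁻¹ by group]
      exact inv_mem hρ)
    (fun k hk x hx => by
      have hkR : (k : G) ∈ R := pn_eq_one.1 hk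
      rw [← mem_centralizer_iff.1 (F.L2_cent (hRZ hkR (mem_inf.1 k.2).1)) x hx,
        mul_inv_cancel_right, inv_mul_cancel]
      exact one_mem _)
    (fun k hk => ?_)
    ⟨L1, fun l hl => mem_inf.2 ⟨F.L1_le hl, mem_centralizer_singleton_iff.2 (F.L_comm l hl t2 F.t2_mem)⟩,
      F.L1_card, fun m hm ht => ?_⟩
    ⟨y, mem_inf.2 ⟨D.side.y_cent, mem_centralizer_singleton_iff.2 D.y_t2.symm⟩, D.side.y_cube,
      D.side.nontriv.1⟩
  · have e : (Q1.subgroupOf K).map f = qQ D U C := by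
      ext g
      constructor
      · rintro ⟨k, hk, rfl⟩; exact ⟨_, hk, rfl⟩
      · rintro ⟨a, ha, rfl⟩; exact ⟨⟨a, hQK ha⟩, ha, rfl⟩
    exact e ▸ key
  · have hdQ := F.pair.le1 D.flag1.mem
    obtain ⟨hkC, hkt⟩ := mem_inf.1 k.2
    have hkd : d⁻¹ * ((k : G) * d * (k : G)⁻¹) ∈ Z := hk d D.flag1.mem
    obtain ⟨u0, hu0, hne⟩ := F.pair.exists_noncomm h D.flag1.mem D.flag1.notZ
    obtain ⟨u, hu, hud⟩ : ∃ u ∈ Q1, u * d * u⁻¹ = (k : G) * d * (k : G)⁻¹ := by
      have hu0Q := F.pair.le1 hu0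
      have hc : ⁅u0, d⁆ ∈ Z := h.comm_mem hu0Q hdQ
      have hc1 : ⁅u0, d⁆ ≠ 1 := fun e => hne (commutatorElement_eq_one_iff_mul_comm.1 e).symm
      have hw : (k : G) * d * (k : G)⁻¹ * d⁻¹ ∈ Z := by
        have h3 := h.conj_Z (h.Q_le hdQ) hkd
        rw [show d * (d⁻¹ * ((k : G) * d * (k : G)⁻¹)) * d⁻¹ = (k : G) * d * (k : G)⁻¹ * d⁻¹ by group] at h3
        exact h3 ▸ hkd
      rcases zp_cases h.Z_card hc hc1 hw with e | e | e
      · exact ⟨1, one_mem _, by rw [mul_inv_eq_one.1 e]; simp⟩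
      · exact ⟨u0, hu0, by rw [mul_inv_eq_iff_eq_mul.1 e, commutatorElement_def]; group⟩
      · refine ⟨u0⁻¹, inv_mem hu0, ?_⟩
        rw [mul_inv_eq_iff_eq_mul.1 e]
        have h1 := h.comm_mul_left (inv_mem hu0Q) hu0Q hdQ
        rw [inv_mul_cancel, commutatorElement_one_left] at h1
        rw [← eq_inv_of_mul_eq_one_left h1.symm, commutatorElement_def]
        group
    set c := u⁻¹ * (k : G) with hc
    have hcd : c * d = d * c := by
      calc c * d = u⁻¹ * ((k : G) * d * (k : G)⁻¹) * (k : G) := by rw [hc]; group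
        _ = d * c := by rw [← hud, hc]; group
    have hcC : c ∈ centralizer (Z : Set G) := mul_mem (inv_mem (h.Q_le (F.pair.le1 hu))) hkC
    have hctr : Triv Z Q1 c := fun x hx => by
      rw [hc, shift_mul, h.conj_Z (inv_mem (h.Q_le (F.pair.le1 hu))) (hk x hx)]
      exact mul_mem (F.triv_Q (inv_mem (F.pair.le1 hu)) F.pair.le1 x hx) (hk x hx)
    obtain ⟨l, hl, q, hq, i, e⟩ := D.cent_d hcC hcd
    have hqQ : q ∈ Q := (mem_inf.1 hq).1
    have hlc : ∀ {x : G}, x ∈ Q1 → x * l = l * x := fun hx => mem_centralizer_iff.1 (F.L2_cent hl) _ hx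
    have hyt : Triv Z Q1 (y ^ (i : ℕ)) := fun x hx => by
      have hy' : y ^ (i : ℕ) = q⁻¹ * (l⁻¹ * c) := by rw [e]; group
      have hlT : Triv Z Q1 l⁻¹ := fun w hw => by
        rw [← mem_centralizer_iff.1 (inv_mem (F.L2_cent hl)) w hw, mul_inv_cancel_right, inv_mul_cancel]
        exact one_mem _
      rw [hy', shift_mul, shift_mul, h.conj_Z (F.L2_le (inv_mem hl)) (hctr x hx),
        h.conj_Z (h.Q_le (inv_mem hqQ)) (mul_mem (hlT x hx) (hctr x hx))]
      exact mul_mem (F.triv_Q (inv_mem hqQ) F.pair.le1 x hx) (mul_mem (hlT x hx) (hctr x hx))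
    have hi : (i : ℕ) = 0 := by
      rcases (by omega : (i : ℕ) = 0 ∨ (i : ℕ) = 1 ∨ (i : ℕ) = 2) with h0 | h1 | h2
      · exact h0
      · rw [h1, pow_one] at hyt; exact absurd hyt D.side.nontriv.1
      · refine absurd ?_ D.side.nontriv.1
        have ey : y = (y ^ (i : ℕ))⁻¹ := eq_inv_of_mul_eq_one_right (by rw [h2, ← pow_succ, D.side.y_cube])
        rw [ey]
        exact triv_inv h (pow_mem D.side.y_cent _) hyt
    rw [hi, pow_zero, mul_one] at e
    have hqt : q ∈ Q1 := by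
      rw [← D.Q1_eq]
      refine mem_Fx.2 ⟨hqQ, ?_⟩
      have h1 : Commute (l⁻¹ * c) t2 := (show Commute l t2 from (D.L2_t2 hl).symm).inv_left.mul_left
        ((show Commute u t2 from (D.t2_fix hu).symm).inv_left.mul_left
          (show Commute (k : G) t2 from mem_centralizer_singleton_iff.1 hkt))
      rw [show l⁻¹ * c = q by rw [e]; group] at h1
      rw [← h1.eq, mul_inv_cancel_right]
    refine ⟨⟨u * q, hQK (mul_mem hu hqt)⟩, mul_mem hu hqt, QuotientGroup.eq.2 (mem_subgroupOf.2 ?_)⟩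
    show (u * q)⁻¹ * (k : G) ∈ R
    rw [show (k : G) = u * c by rw [hc]; group, e, show (u * q)⁻¹ * (u * (l * q)) = q⁻¹ * (l * q) by group,
      ← hlc hqt, inv_mul_cancel_left]
    exact Lv_le_Rd L2 b n 0 (by rwa [Lv, show gv b n 0 = 1 from rfl, cj_one])
  · have hc : m ∈ centralizer (Q2 : Set G) := F.L1_cent hm
    have hmQ := F.mem_Q_of_triv (F.L1_le hm) ht fun x hx => by
      rw [← mem_centralizer_iff.1 hc x hx, mul_inv_cancel_right, inv_mul_cancel]; exact one_mem _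
    have h1 : m ^ 8 = 1 := by
      have := pow_card_eq_one' (x := (⟨m, hm⟩ : ↥L1))
      rw [F.L1_card] at this
      simpa using congrArg Subtype.val this
    have := pow_gcd_eq_one.2 ⟨h1, F.cube m hmQ⟩
    rwa [show Nat.gcd 8 3 = 1 from rfl, pow_one] at this

theorem jData : JData (qv D U C (pv 0)) (qQ D U C) (qA D U C) := by
  have hcomm : ∀ v w, qv D U C v * qv D U C w = qv D U C w * qv D U C v := fun v w => by
    rw [← qv_add, ← qv_add, add_comm]
  refine ⟨fun g hg => ?_, fun g hg h hh => ?_, fun g hg => ?_, ?_⟩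
  · obtain ⟨v, rfl⟩ := (mem_qA D U C g).1 hg
    exact mem_centralizer_singleton_iff.2 (hcomm _ _)
  · obtain ⟨v, rfl⟩ := (mem_qA D U C g).1 hg
    obtain ⟨w, rfl⟩ := (mem_qA D U C h).1 hh
    exact hcomm _ _
  · obtain ⟨v, rfl⟩ := (mem_qA D U C g).1 hg
    rw [qv, ← map_pow, show (⟨ψ v, _⟩ : ↥(NN t2 (Rd L2 b n))) ^ 3 = 1 from Subtype.ext (C.cube v), map_one]
  · rw [← Nat.card_congr (Equiv.ofBijective (fun v : V3 => (⟨qv D U C v, (mem_qA D U C _).2 ⟨v, rfl⟩⟩ : ↥(qA D U C)))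
      ⟨fun v w e => qv_inj D U C (congrArg Subtype.val e), fun g => by
        obtain ⟨v, hv⟩ := (mem_qA D U C g).1 g.2; exact ⟨v, Subtype.ext hv⟩⟩)]
    simp

theorem sigX (K : Subgroup (NB t2 (Rd L2 b n))) (hK : (Nat.card ↥K).Coprime 3)
    (hn : qA D U C ≤ normalizer (K : Set (NB t2 (Rd L2 b n)))) : K = ⊥ := by
  classical
  set P := K.comap (pn t2 (Rd L2 b n)) with hP
  set P' := P.map (NN t2 (Rd L2 b n)).subtype with hP'
  have hcard : (Nat.card ↥P').Coprime 3 := by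
    rw [hP', card_map_of_injective (Subgroup.subtype_injective _)]
    set f : ↥P →* NB t2 (Rd L2 b n) := (pn t2 (Rd L2 b n)).comp P.subtype with hf
    have h1 := f.ker.card_mul_index
    have hr : f.range = K := by
      ext g
      refine ⟨fun ⟨a, ha⟩ => ha ▸ a.2, fun hg => ?_⟩
      obtain ⟨a, rfl⟩ := QuotientGroup.mk'_surjective _ g
      exact ⟨⟨a, hg⟩, rfl⟩
    rw [Subgroup.index_ker, hr] at h1
    have hk : Nat.card ↥f.ker ∣ Nat.card ↥(Rd L2 b n) := by
      refine Subgroup.card_dvd_of_injective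
        (({ toFun := fun a => ⟨((a : ↥P) : ↥(NN t2 (Rd L2 b n))), pn_eq_one.1 a.2⟩
            map_one' := rfl
            map_mul' := fun _ _ => rfl } : ↥f.ker →* ↥(Rd L2 b n))) fun a c e => ?_
      exact Subtype.ext (Subtype.ext (Subtype.ext (congrArg (fun w : ↥(Rd L2 b n) => (w : G)) e)))
    rw [← h1]
    exact Nat.Coprime.mul_left ((Rd_three D U C).coprime_dvd_left hk) hK
  have hnorm : ∀ v, ψ v ∈ normalizer (P' : Set G) := fun v => Subgroup.mem_normalizer_fintype fun x hx => by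
    obtain ⟨a, ha, rfl⟩ := hx
    refine ⟨⟨ψ v, A_NN D U C (C.mem' v)⟩ * a * ⟨ψ v, A_NN D U C (C.mem' v)⟩⁻¹, ?_, rfl⟩
    show pn t2 (Rd L2 b n) _ ∈ K
    rw [map_mul, map_mul, map_inv]
    exact (mem_normalizer_iff.1 (hn ((mem_qA D U C _).2 ⟨v, rfl⟩)) _).1 ha
  have hmem : ∀ a ∈ E ⊓ centralizer ({t2} : Set G), a ∈ normalizer (P' : Set G) := fun a ha => by
    obtain ⟨v, rfl⟩ := (C.mem a).1 ha
    exact hnorm v
  have hle := sig_strong D U C hcard ((map_subtype_le _).trans inf_le_left) (hmem z (zd_A D U C).1)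
    (hmem d (zd_A D U C).2)
  refine eq_bot_iff.2 fun g hg => mem_bot.2 ?_
  obtain ⟨a, rfl⟩ := QuotientGroup.mk'_surjective _ g
  exact pn_eq_one.2 (hle ⟨a, hg, rfl⟩)

theorem nA_NN : normalizer ((E ⊓ centralizer ({t2} : Set G) : Subgroup G) : Set G) ⊓
    centralizer ({t2} : Set G) ≤ NN t2 (Rd L2 b n) :=
  fun g hg => mem_inf.2 ⟨(mem_inf.1 hg).2, norm_A_Rd D U C hg⟩

theorem exists_loc : ∃ (ci : Bool) (φ : Mn → NB t2 (Rd L2 b n)),
    Loc (qv D U C (pv 0)) (qQ D U C) (qA D U C) ci true φ := by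
  obtain ⟨ci, cd, φ, L⟩ := exists_loc_of_data (centData D U C) (jData D U C) (sigX D U C)
  cases cd
  swap
  · exact ⟨ci, φ, L⟩
  exfalso
  obtain ⟨w, hw0, hw⟩ := C.n_act
  obtain ⟨v, hv⟩ := (L.memJ _).1 ((mem_qA D U C _).2 ⟨pv 1, rfl⟩)
  set nC : ↥(NN t2 (Rd L2 b n)) :=
    ⟨n, nA_NN D U C (mem_inf.2 ⟨U.nA, mem_centralizer_singleton_iff.2 U.nt⟩)⟩ with hnC
  have hn1 : pn _ _ nC * qv D U C (pv 1) * (pn _ _ nC)⁻¹ = qv D U C (wact w (pv 1)) := by
    unfold qv
    rw [← map_inv, ← map_mul, ← map_mul]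
    exact congrArg _ (Subtype.ext (hw (pv 1)))
  obtain ⟨u, hu, e⟩ : ∃ u : V3, (u = (1, 1, 1) ∨ u = -(1, 1, 1)) ∧
      qv D U C (wact w (pv 1)) = φ (jM u) := by
    rcases (pv_moves w hw0).1.1 with e | e
    · exact ⟨_, Or.inl rfl, by rw [L.a_eq, e]⟩
    · refine ⟨_, Or.inr rfl, ?_⟩
      rw [L.jneg, L.a_eq, e]
      refine eq_inv_of_mul_eq_one_left ?_
      rw [← qv_add, neg_add_cancel]
      exact (pn_eq_one.2 (by show ψ 0 ∈ _; rw [C.zero]; exact one_mem _))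
  rw [e, ← hv] at hn1
  obtain ⟨p, hp, hpv⟩ := L.fus u v (pn _ _ nC)⁻¹ (by rw [← hn1]; group)
  have hv1 : v = (1, 1, 1) ∨ v = -(1, 1, 1) := by
    rcases cd_false_fix ci p.w hp with h | h <;> rcases hu with rfl | rfl
    · exact Or.inl (hpv ▸ h)
    · exact Or.inr (by rw [← hpv, wact_neg', h])
    · exact Or.inr (hpv ▸ h)
    · exact Or.inl (by rw [← hpv, wact_neg', h, neg_neg])
  rcases hv1 with rfl | rfl
  · rw [L.a_eq] at hv
    exact (by decide +kernel : pv 0 ≠ pv 1) (qv_inj D U C hv)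
  · rw [L.jneg, L.a_eq] at hv
    have h2 : (qv D U C (pv 0))⁻¹ = qv D U C (-pv 0) := inv_eq_of_mul_eq_one_left (by
      rw [← qv_add, neg_add_cancel]
      exact pn_eq_one.2 (by show ψ 0 ∈ _; rw [C.zero]; exact one_mem _))
    rw [h2] at hv
    exact (by decide +kernel : -pv 0 ≠ pv 1) (qv_inj D U C hv)

/-- An element normalising the image of `A` lifts to `N(A) ∩ C(r)`. -/
theorem lift_norm {g : NB t2 (Rd L2 b n)} (hg : g ∈ normalizer (qA D U C : Set (NB t2 (Rd L2 b n)))) :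
    ∃ a : ↥(NN t2 (Rd L2 b n)), pn _ _ a = g ∧
      (a : G) ∈ normalizer ((E ⊓ centralizer ({t2} : Set G) : Subgroup G) : Set G) := by
  classical
  obtain ⟨a, rfl⟩ := QuotientGroup.mk'_surjective _ g
  haveI : IsMulCommutative ↥(E ⊓ centralizer ({t2} : Set G)) :=
    ⟨⟨fun x w => Subtype.ext (D.side.comm (mem_inf.1 x.2).1 (mem_inf.1 w.2).1)⟩⟩
  have hAc : Nat.card ↥(E ⊓ centralizer ({t2} : Set G)) = 27 := by
    rw [← Nat.card_congr (Equiv.ofBijective (fun v : V3 => (⟨ψ v, C.mem' v⟩ : ↥(E ⊓ centralizer ({t2} : Set G))))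
      ⟨fun v w e => C.inj (congrArg Subtype.val e), fun x => by
        obtain ⟨v, hv⟩ := (C.mem x).1 x.2; exact ⟨v, Subtype.ext hv⟩⟩)]
    simp
  have hAN : (E ⊓ centralizer ({t2} : Set G)) ≤ normalizer ((Rd L2 b n) : Set G) := A_norm D U C
  have haN : (a : G) ∈ normalizer ((Rd L2 b n) : Set G) := (mem_inf.1 a.2).2
  have hA'le : cj (a : G) (E ⊓ centralizer ({t2} : Set G)) ≤ (Rd L2 b n) ⊔ (E ⊓ centralizer ({t2} : Set G)) := by
    intro x hx
    rw [mem_cj] at hx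
    set xC : ↥(NN t2 (Rd L2 b n)) := ⟨_, A_NN D U C hx⟩
    obtain ⟨w, hw⟩ := (mem_qA D U C _).1
      ((mem_normalizer_iff.1 hg _).1 (show pn t2 (Rd L2 b n) xC ∈ qA D U C from ⟨xC, hx, rfl⟩))
    unfold qv at hw
    rw [← map_inv, ← map_mul, ← map_mul] at hw
    have h2 := pn_eq hw
    push_cast at h2
    rw [show (a : G) * ((a : G)⁻¹ * x * (a : G)) * (a : G)⁻¹ = x by group] at h2
    have h3 := mul_mem (mem_sup_right (C.mem' w) : ψ w ∈ (Rd L2 b n) ⊔ (E ⊓ centralizer ({t2} : Set G))) (mem_sup_left h2 : (ψ w)⁻¹ * x ∈ (Rd L2 b n) ⊔ (E ⊓ centralizer ({t2} : Set G)))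
    rwa [mul_inv_cancel_left] at h3
  have hA'N : cj (a : G) (E ⊓ centralizer ({t2} : Set G)) ≤ normalizer ((Rd L2 b n) : Set G) := by
    rintro _ ⟨x, hx, rfl⟩
    exact mul_mem (mul_mem haN (hAN hx)) (inv_mem haN)
  have hcA' : Nat.card ↥(cj (a : G) (E ⊓ centralizer ({t2} : Set G))) = 27 := by rw [card_cj, hAc]
  have hcop : (Nat.card ↥(Rd L2 b n)).Coprime 27 := by
    rw [show 27 = 3 ^ 3 by norm_num]
    exact (Rd_three D U C).pow_right 3
  have hcards : ∀ B : Subgroup G, B ≤ normalizer ((Rd L2 b n) : Set G) → Nat.card ↥B = 27 →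
      Nat.card ↥((Rd L2 b n) ⊔ B) = Nat.card ↥(Rd L2 b n) * 27 := by
    intro B hBN hBc
    have hi : (Rd L2 b n) ⊓ B = ⊥ := inf_eq_bot_of_coprime (by rw [hBc]; exact hcop)
    have := card_sup_mul_inf (A := Rd L2 b n) (B := B) hBN
    rwa [hi, card_bot, mul_one, hBc] at this
  have heq : (Rd L2 b n) ⊔ cj (a : G) (E ⊓ centralizer ({t2} : Set G)) = (Rd L2 b n) ⊔ (E ⊓ centralizer ({t2} : Set G)) := Subgroup.eq_of_le_of_card_ge (sup_le le_sup_left hA'le)
    (by rw [hcards (E ⊓ centralizer ({t2} : Set G)) hAN hAc, hcards _ hA'N hcA'])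
  obtain ⟨ρ, hρ, he⟩ := Cfsg.Agent.Coprime.exists_conj_eq_of_sup_eq (N := (Rd L2 b n)) (H := (E ⊓ centralizer ({t2} : Set G))) (K := cj (a : G) (E ⊓ centralizer ({t2} : Set G)))
    hAN hA'N heq.symm (hAc ▸ hcop) (hcA' ▸ hcop)
    (Or.inr (Cfsg.Agent.Coprime.isSolvable_of_isMulCommutative _))
  refine ⟨⟨ρ⁻¹, mem_inf.2 ⟨inv_mem (Rd_le D U C hρ), inv_mem (le_normalizer hρ)⟩⟩ * a, ?_, ?_⟩
  · rw [map_mul, pn_eq_one.2 (inv_mem hρ), one_mul]
  · refine mem_normalizer_of_cj ?_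
    show cj (ρ⁻¹ * (a : G)) (E ⊓ centralizer ({t2} : Set G)) = (E ⊓ centralizer ({t2} : Set G))
    rw [← cj_cj, ← he]
    ext x
    rw [mem_cj, inv_inv, Subgroup.mem_pointwise_smul_iff_inv_smul_mem, ← map_inv]
    show (ρ⁻¹ * (ρ * x * ρ⁻¹) * ρ⁻¹⁻¹) ∈ (E ⊓ centralizer ({t2} : Set G)) ↔ _
    rw [show ρ⁻¹ * (ρ * x * ρ⁻¹) * ρ⁻¹⁻¹ = x by group]

/-- Every element of `N(A) ∩ C(r)` acts as a signed permutation. -/
theorem exists_wact {g : G} (hg : g ∈ normalizer ((E ⊓ centralizer ({t2} : Set G) : Subgroup G) : Set G)) :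
    ∃ w : Wt, ∀ v, g * ψ v * g⁻¹ = ψ (wact w v) := by
  choose f hf using fun v => (C.mem _).1 ((mem_normalizer_iff.1 hg _).1 (C.mem' v))
  have hadd : ∀ v w, f (v + w) = f v + f w := fun v w => C.inj (by rw [hf, C.add, C.add, hf, hf]; group)
  have h0 : f 0 = 0 := by
    have := hadd 0 0
    rw [add_zero] at this
    exact left_eq_add.1 this
  have hsm : ∀ (k : ZMod 3) v, f (k • v) = k • f v := by
    intro k v
    rcases pw_facts.2.2.2 k with e | e | e <;> subst e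
    · simp [h0]
    · simp
    · rw [neg_one_smul, neg_one_smul]
      exact eq_neg_of_add_eq_zero_left (by rw [← hadd, neg_add_cancel, h0])
  have hlin : ∀ v, f v = lin3 (f (1, 0, 0)) (f (0, 1, 0)) (f (0, 0, 1)) v := fun v => by
    conv_lhs => rw [lin_basis v]
    rw [hadd, hadd, hsm, hsm, hsm]
    rfl
  have hfull : ∀ i, full (lin3 (f (1, 0, 0)) (f (0, 1, 0)) (f (0, 0, 1)) (pv i)) := fun i => by
    rw [← hlin, ← C.pt, hf]
    exact ((C.pt _).2 ((full_iff _).2 ⟨i, Or.inl rfl⟩)).conj g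
  obtain ⟨w, w1, w2, w3⟩ := lin3_wact _ _ _ (hfull 0) (hfull 1) (hfull 2) (hfull 3) fun v hv => by
    rw [← hlin] at hv
    refine C.inj ?_
    rw [C.zero]
    have h1 := hf v
    rw [hv, C.zero] at h1
    exact conj_eq_one_iff.1 h1.symm
  refine ⟨w, fun v => ?_⟩
  rw [← hf, hlin]
  conv_rhs => rw [lin_basis v, wact_add, wact_add, wact_smul', wact_smul', wact_smul', w1, w2, w3]
  rfl

/-- The signed permutations induced by `N(A) ∩ C(r)`. -/
def Act (_ : Dat Z Q Q1 Q2 L1 L2 E t1 t2 z y d a2) (_ : Duo Z L2 E t2 z y d n)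
    (_ : Crd Z Q1 (E ⊓ centralizer ({t2} : Set G)) y d b n ψ) (w : Wt) : Prop :=
  ∃ g ∈ normalizer ((E ⊓ centralizer ({t2} : Set G) : Subgroup G) : Set G) ⊓ centralizer ({t2} : Set G),
    ∀ v, g * ψ v * g⁻¹ = ψ (wact w v)

theorem act_mul {u w : Wt} (hu : Act D U C u) (hw : Act D U C w) : Act D U C (u * w) := by
  obtain ⟨g, hg, eg⟩ := hu
  obtain ⟨h, hh, eh⟩ := hw
  refine ⟨g * h, mul_mem hg hh, fun v => ?_⟩
  rw [wact_mul, show g * h * ψ v * (g * h)⁻¹ = g * (h * ψ v * h⁻¹) * g⁻¹ by group, eh, eg]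

theorem act_one : Act D U C 1 := ⟨1, one_mem _, fun v => by rw [wact_one]; simp⟩

theorem act_cyc : Act D U C cycW := by
  refine ⟨b, mem_inf.2 ⟨Subgroup.mem_normalizer_fintype fun x hx => ?_,
    mem_centralizer_singleton_iff.2 (b_cent D U C)⟩, C.b_act⟩
  obtain ⟨v, rfl⟩ := (C.mem x).1 hx
  rw [C.b_act]
  exact C.mem' _

/-- THEOREM: the coordinates of the quotient and the full group induced on `A`. -/
theorem exists_frame : ∃ (ci : Bool) (φ : Mn → NB t2 (Rd L2 b n)),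
    Loc (qv D U C (pv 0)) (qQ D U C) (qA D U C) ci true φ ∧ (∀ w, Act D U C w ↔ Wok ci true w) ∧
    (∀ v, φ (jM v) = qv D U C (pv 0) → v = (1, 1, 1)) := by
  classical
  obtain ⟨ci, φ, L⟩ := exists_loc D U C
  refine ⟨ci, φ, L, ?_, fun v hv => L.jinj (hv.trans L.a_eq.symm)⟩
  choose σ hσ using fun v => (L.memJ _).1 ((mem_qA D U C _).2 ⟨v, rfl⟩)
  have hσsurj : Function.Surjective σ := Finite.surjective_of_injective fun v w e => qv_inj D U C (by
    rw [← hσ v, ← hσ w, e])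
  -- each coordinate signed permutation gives one on `A`
  have hlift : ∀ w : {w : Wt // Wok ci true w}, ∃ u : Wt, Act D U C u ∧
      ∀ v, wact w.1 (σ v) = σ (wact u v) := by
    rintro ⟨w, hw⟩
    obtain ⟨a, ha, haA⟩ := lift_norm D U C (L.mem_norm (wM w) (inL_wM ci w hw))
    obtain ⟨u, hu⟩ := exists_wact D U C haA
    refine ⟨u, ⟨a, mem_inf.2 ⟨haA, (mem_inf.1 a.2).1⟩, hu⟩, fun v => L.jinj ?_⟩
    have h1 := L.act' (inL_wM ci w hw) (σ v)
    rw [show (wM w : Mn).w = w from rfl, hσ] at h1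
    rw [← h1, hσ, ← ha]
    unfold qv
    rw [← map_inv, ← map_mul, ← map_mul]
    exact congrArg _ (Subtype.ext (hu v))
  choose F hFA hF using hlift
  have hFinj : Function.Injective F := by
    intro w w' e
    refine Subtype.ext ?_
    have h1 : ∀ v, wact w.1 v = wact w'.1 v := fun v => by
      obtain ⟨v', rfl⟩ := hσsurj v
      rw [hF, hF, e]
    exact wact_ext _ _ (h1 _) (h1 _) (h1 _)
  have hpos : ci = false → ∀ u : Wt, Act D U C u → u.e = false := by
    intro hci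
    obtain ⟨w0, hw0, hwn⟩ := C.n_act
    have hact0 : Act D U C w0 := ⟨n, mem_inf.2 ⟨U.nA, mem_centralizer_singleton_iff.2 U.nt⟩, hwn⟩
    have hcyc := act_cyc D U C
    have hnone : ∀ u : Wt, Act D U C u → wact u (1, 1, 1) ≠ -(1, 1, 1) := by
      rintro u ⟨g, hg, eg⟩ e
      have := L.ci_true ⟨pn _ _ ⟨g, nA_NN D U C hg⟩, by
        unfold qv
        rw [← map_inv, ← map_mul, ← map_mul, ← map_inv]
        refine congrArg _ (Subtype.ext ?_)
        show g * ψ (pv 0) * g⁻¹ = (ψ (pv 0))⁻¹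
        rw [eg, show pv 0 = (1, 1, 1) from rfl, e, C.neg]⟩
      rw [hci] at this
      exact Bool.false_ne_true this
    rcases hw0 with rfl | rfl
    swap
    · intro u _
      exfalso
      exact hnone _ (act_mul D U C (act_mul D U C hact0
        (act_mul D U C (act_mul D U C hcyc hact0) (act_mul D U C hcyc hcyc)))
        (act_mul D U C (act_mul D U C (act_mul D U C hcyc hcyc) hact0) hcyc)) (nWB_neg _)
    intro u hu
    cases hue : u.e
    · rfl
    exfalso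
    obtain ⟨v, hv1, hv2⟩ := neg_flip u hue
    obtain ⟨a1, c1, m, hword⟩ := words_S4 ⟨false, u.k, u.p⟩ rfl
    have hp : ∀ a : Fin 3, Act D U C (![1, cycW, cycW * cycW] a) := fun a => by
      fin_cases a
      exacts [act_one D U C, hcyc, act_mul D U C hcyc hcyc]
    have hACA := act_mul D U C (act_mul D U C hact0 hcyc) hact0
    have hq : ∀ m : Fin 4, Act D U C
        (![1, nWA, nWA * cycW * nWA, nWA * cycW * nWA * (cycW * cycW) * nWA] m) := fun m => by
      fin_cases m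
      exacts [act_one D U C, hact0, hACA, act_mul D U C (act_mul D U C hACA (act_mul D U C hcyc hcyc)) hact0]
    have hpact : Act D U C (⟨false, u.k, u.p⟩ : Wt) := by
      rw [hword]
      exact act_mul D U C (act_mul D U C (hp a1) (hq m)) (hp c1)
    obtain ⟨g, hg, eg⟩ := hu
    obtain ⟨h, hh, eh⟩ := hpact
    have hh' : h⁻¹ * ψ (1, 1, 1) * h = ψ v := by rw [← hv1, ← eh]; group
    have := L.ci_true ⟨pn _ _ ⟨g * h⁻¹, nA_NN D U C (mul_mem hg (inv_mem hh))⟩, by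
      unfold qv
      rw [← map_inv, ← map_mul, ← map_mul, ← map_inv]
      refine congrArg _ (Subtype.ext ?_)
      show g * h⁻¹ * ψ (pv 0) * (g * h⁻¹)⁻¹ = (ψ (pv 0))⁻¹
      rw [show g * h⁻¹ * ψ (pv 0) * (g * h⁻¹)⁻¹ = g * (h⁻¹ * ψ (pv 0) * h) * g⁻¹ by group,
        show pv 0 = (1, 1, 1) from rfl, hh', eg, hv2, C.neg]⟩
    rw [hci] at this
    exact Bool.false_ne_true this
  have hok : ∀ u, Act D U C u → Wok ci true u := fun u hu => (wok_e ci u).2 fun he => by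
    cases hci : ci
    · rw [hpos hci u hu] at he; exact absurd he Bool.false_ne_true
    · rfl
  refine fun w => ⟨hok w, fun hw => ?_⟩
  obtain ⟨w', hw'⟩ := Finite.surjective_of_injective
    (f := fun w : {w : Wt // Wok ci true w} => (⟨F w, hok _ (hFA w)⟩ : {w : Wt // Wok ci true w}))
    (fun a c e => hFinj (congrArg Subtype.val e)) ⟨w, hw⟩
  have e : F w' = w := congrArg Subtype.val hw'
  exact e ▸ hFA w'

end Cfsg.Agent.UThreeLocal.Cand
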