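import Cfsg.Agent.Lib.UThreeLocal.Loc.Elem
import Cfsg.Agent.Lib.UThreeLocal.Loc.Char

/-!
# The group `E` seen from one point

`Side` keeps a frame of a point `Z` and one further point `y` of `E` commuting with it.  From the bound
on the Sylow subgroups it gives `C_H(W) = E` for `W = C_Q(y)` and that the elements of `C(Z)` fixing an
element of `E` off the two flags normalise `E`.
-/

set_option autoImplicit false
set_option linter.unusedSectionVars false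
set_option linter.style.haveILetI false

namespace Cfsg.Agent.UThreeLocal.Cand

open Subgroup
open scoped commutatorElement

universe u

variable {G : Type u} [Group G] [Finite G]

theorem mem_sup_zpowers {N : Subgroup G} {y x : G} (hN : zpowers y ≤ normalizer (N : Set G)) (h3 : y ^ 3 = 1)
    (hx : x ∈ N ⊔ zpowers y) : ∃ n ∈ N, ∃ i : Fin 3, x = n * y ^ (i : ℕ) := by
  rw [← SetLike.mem_coe, Subgroup.coe_mul_of_right_le_normalizer_left N _ hN, Set.mem_mul] at hx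
  obtain ⟨n, hn, w, hw, rfl⟩ := hx
  obtain ⟨k, rfl⟩ := (Submonoid.mem_powers_iff _ _).1 (mem_powers_iff_mem_zpowers.2 hw)
  exact ⟨n, hn, ⟨k % 3, Nat.mod_lt _ (by norm_num)⟩, by rw [pow_eq_pow_mod k h3]⟩

/-- A point `Z` with its frame and a second point of `E`. -/
structure Side (Z Q Q1 Q2 L1 L2 E : Subgroup G) (t1 t2 y : G) : Prop where
  frame : Frame Z Q Q1 Q2 L1 L2 t1 t2
  small : Frame.Small Z
  pt : IsPt Z y
  y_cent : y ∈ centralizer (Z : Set G)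
  y_not : y ∉ Z
  E_eq : E = Fx Q y ⊔ zpowers y

/-- Shift of `Q1` by an element fixing `aZ`. -/
theorem shift_of_fix {Z Q Q1 Q2 L1 L2 : Subgroup G} {t1 t2 : G} (F : Frame Z Q Q1 Q2 L1 L2 t1 t2)
    {c a : G} (hc : c ∈ centralizer (Z : Set G)) (ha : a ∈ Q1) (haZ : a ∉ Z)
    (hfix : a⁻¹ * (c * a * c⁻¹) ∈ Z) {x : G} (hx : x ∈ Q1) :
    c * x * c⁻¹ ∈ Q1 ∧ x⁻¹ * (c * x * c⁻¹) ∈ Z ⊔ zpowers a := by
  have h := F.set
  set z := a⁻¹ * (c * a * c⁻¹) with hz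
  have hca : c * a * c⁻¹ = a * z := by rw [hz, mul_inv_cancel_left]
  have hiff : ∀ w, w ∈ Q1 ↔ c * w * c⁻¹ ∈ Q1 := by
    refine ((F.perm c hc).resolve_right fun hs => ?_).1
    have h2 := (hs.1 a).1 ha
    rw [hca] at h2
    exact haZ (F.not_swap_both ha ((mul_mem_cancel_right (F.pair.Z2 hfix)).1 h2))
  have hcx := (hiff x).1 hx
  refine ⟨hcx, ?_⟩
  rw [← F.pair.cent_eq h ha haZ]
  refine mem_inf.2 ⟨mul_mem (inv_mem hx) hcx, mem_centralizer_singleton_iff.2 ?_⟩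
  have hzc : ⁅z, c * x * c⁻¹⁆ = 1 :=
    commutatorElement_eq_one_iff_mul_comm.2 (h.comm_Z (F.pair.le1 hcx) hfix)
  have e2 : ⁅a, c * x * c⁻¹⁆ = ⁅a, x⁆ := by
    calc ⁅a, c * x * c⁻¹⁆ = ⁅a * z, c * x * c⁻¹⁆ := by
          rw [h.comm_mul_left (F.pair.le1 ha) (h.Z_le hfix) (F.pair.le1 hcx), hzc, mul_one]
      _ = c * ⁅a, x⁆ * c⁻¹ := by rw [← hca]; simp only [commutatorElement_def]; group
      _ = ⁅a, x⁆ := h.conj_Z hc (h.comm_mem (F.pair.le1 ha) (F.pair.le1 hx))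
  have e3 : ⁅a, x⁻¹ * (c * x * c⁻¹)⁆ = 1 := by
    rw [h.comm_mul_right (inv_mem (F.pair.le1 hx)) (F.pair.le1 hcx) (F.pair.le1 ha), e2,
      ← h.comm_mul_right (inv_mem (F.pair.le1 hx)) (F.pair.le1 hx) (F.pair.le1 ha), inv_mul_cancel,
      commutatorElement_one_right]
  exact (commutatorElement_eq_one_iff_mul_comm.1 e3).symm

/-- The cube of such an element centralises `Q1`. -/
theorem cube_cent {Z Q Q1 Q2 L1 L2 : Subgroup G} {t1 t2 : G} (F : Frame Z Q Q1 Q2 L1 L2 t1 t2)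
    {c a : G} (hc : c ∈ centralizer (Z : Set G)) (ha : a ∈ Q1) (haZ : a ∉ Z)
    (hfix : a⁻¹ * (c * a * c⁻¹) ∈ Z) : c ^ 3 ∈ centralizer (Q1 : Set G) := by
  have h := F.set
  have hfixA : ∀ s ∈ Z ⊔ zpowers a, s⁻¹ * (c * s * c⁻¹) ∈ Z := by
    intro s hs
    have hle : Z ⊔ zpowers a ≤ h.Mt c hc := sup_le
      (fun w hw => ⟨h.Z_le hw, by rw [h.conj_Z hc hw, inv_mul_cancel]; exact one_mem _⟩)
      (zpowers_le.2 ⟨F.pair.le1 ha, hfix⟩)
    exact (hle hs).2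
  refine mem_centralizer_iff.2 fun x hx => ?_
  obtain ⟨-, hsA⟩ := shift_of_fix F hc ha haZ hfix hx
  set s := x⁻¹ * (c * x * c⁻¹) with hs
  set ζ := s⁻¹ * (c * s * c⁻¹) with hζ
  have hζZ : ζ ∈ Z := hfixA s hsA
  have hsQ : s ∈ Q := (sup_le h.Z_le (zpowers_le.2 (F.pair.le1 ha))) hsA
  have e0 : c * x * c⁻¹ = x * s := by rw [hs, mul_inv_cancel_left]
  have e1 : c * s * c⁻¹ = s * ζ := by rw [hζ, mul_inv_cancel_left]
  have e2 : c * ζ * c⁻¹ = ζ := h.conj_Z hc hζZ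
  have hcs : ζ * s = s * ζ := h.comm_Z hsQ hζZ
  have e : c ^ 3 * x * (c ^ 3)⁻¹ = x := by
    calc c ^ 3 * x * (c ^ 3)⁻¹ = c * (c * (c * x * c⁻¹) * c⁻¹) * c⁻¹ := by
          simp only [pow_succ, pow_zero, one_mul]; group
      _ = c * (c * (x * s) * c⁻¹) * c⁻¹ := by rw [e0]
      _ = c * ((c * x * c⁻¹) * (c * s * c⁻¹)) * c⁻¹ := by group
      _ = c * (x * s * (s * ζ)) * c⁻¹ := by rw [e0, e1]
      _ = (c * x * c⁻¹) * (c * s * c⁻¹) * (c * s * c⁻¹) * (c * ζ * c⁻¹) := by group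
      _ = x * s * (s * ζ) * (s * ζ) * ζ := by rw [e0, e1, e2]
      _ = x * (s * s * s) * (ζ * ζ * ζ) := by
        rw [show x * s * (s * ζ) * (s * ζ) * ζ = x * s * s * (ζ * s) * ζ * ζ by group, hcs]; group
      _ = x := by
        rw [← pow_two, ← pow_succ, F.cube s hsQ, ← pow_two, ← pow_succ, h.Z_cube hζZ, mul_one, mul_one]
  exact (mul_inv_eq_iff_eq_mul.1 e).symm

namespace Side

variable {Z Q Q1 Q2 L1 L2 E : Subgroup G} {t1 t2 y : G} (S : Side Z Q Q1 Q2 L1 L2 E t1 t2 y)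
include S

theorem symm : Side Z Q Q2 Q1 L2 L1 E t2 t1 y :=
  ⟨S.frame.symm, S.small, S.pt, S.y_cent, S.y_not, S.E_eq⟩

theorem y_notQ : y ∉ Q := fun h => S.y_not (S.frame.set.pt_mem S.pt h)

theorem y_cube : y ^ 3 = 1 := by
  obtain ⟨-, -, -, -, h3, -⟩ := S.frame.pt_side S.pt S.y_cent S.y_not
  exact h3

theorem W_le : Fx Q y ≤ E := S.E_eq ▸ le_sup_left

theorem y_mem : y ∈ E := S.E_eq ▸ mem_sup_right (mem_zpowers y)

theorem E_le : E ≤ centralizer (Z : Set G) := S.E_eq ▸ sup_le (inf_le_left.trans S.frame.set.Q_le)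
  (zpowers_le.2 S.y_cent)

theorem card_E : Nat.card ↥E = 81 := S.E_eq ▸ S.frame.card_E S.pt S.y_cent S.y_not

theorem comm {u v : G} (hu : u ∈ E) (hv : v ∈ E) : u * v = v * u := by
  rw [S.E_eq] at hu hv; exact (S.frame.comm_E S.pt S.y_cent S.y_not).1 u hu v hv

theorem exp {u : G} (hu : u ∈ E) : u ^ 3 = 1 := by
  rw [S.E_eq] at hu; exact (S.frame.comm_E S.pt S.y_cent S.y_not).2 u hu

theorem card_W : Nat.card ↥(Fx Q y) = 27 := S.frame.card_Fx_pt S.pt S.y_cent S.y_not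

theorem Z_le_W : Z ≤ Fx Q y := S.frame.set.Z_le_Fx S.y_cent

theorem nontriv : ¬ Triv Z Q1 y ∧ ¬ Triv Z Q2 y := S.frame.nontriv S.pt S.y_cent S.y_not

theorem E_inf_Q : ∀ x ∈ E, x ∈ Q → x ∈ Fx Q y := fun x hx hq =>
  mem_inf.2 ⟨hq, mem_centralizer_singleton_iff.2 (S.comm hx S.y_mem)⟩

theorem exists_flags : ∃ a1 a2, Flag Z Q1 (zpowers y) a1 ∧ Flag Z Q2 (zpowers y) a2 ∧
    Fx Q y = (Z ⊔ zpowers a1) ⊔ (Z ⊔ zpowers a2) := by
  have hP := S.frame.pgroup_zpowers S.y_cube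
  have hPC : zpowers y ≤ centralizer (Z : Set G) := zpowers_le.2 S.y_cent
  obtain ⟨a1, h1⟩ := S.frame.exists_flag' hP hPC
  obtain ⟨a2, h2⟩ := S.frame.symm.exists_flag' hP hPC
  exact ⟨a1, a2, h1, h2, S.frame.good S.pt S.y_cent S.y_not hP hPC (mem_zpowers y) h1 h2⟩

theorem W_eq {a1 a2 : G} (f1 : Flag Z Q1 (zpowers y) a1) (f2 : Flag Z Q2 (zpowers y) a2) :
    Fx Q y = (Z ⊔ zpowers a1) ⊔ (Z ⊔ zpowers a2) :=
  S.frame.good S.pt S.y_cent S.y_not (S.frame.pgroup_zpowers S.y_cube) (zpowers_le.2 S.y_cent) (mem_zpowers y) f1 f2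

theorem a1_mem {a1 a2 : G} (f1 : Flag Z Q1 (zpowers y) a1) (f2 : Flag Z Q2 (zpowers y) a2) :
    a1 ∈ Fx Q y := (S.W_eq f1 f2).ge (mem_sup_left (mem_sup_right (mem_zpowers a1)))

theorem card_S : Nat.card ↥(Q ⊔ zpowers y) = 729 := by
  have h := S.frame.set
  haveI : Fact (Nat.Prime 3) := ⟨Nat.prime_three⟩
  have hy1 : y ≠ 1 := S.pt.ne_one
  have hc : Nat.card ↥(zpowers y) = 3 := by rw [Nat.card_zpowers, orderOf_eq_prime S.y_cube hy1]
  have := card_sup_mul_inf (A := Q) (B := zpowers y) (zpowers_le.2 (h.Q_norm S.y_cent))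
  have hi : Q ⊓ zpowers y = ⊥ := eq_bot_iff.2 fun x hx => by
    by_contra hx1
    rw [mem_bot] at hx1
    exact S.y_notQ ((zpowers_le.2 hx.1) (by rw [zpowers_eq_of_prime hc hx.2 hx1]; exact mem_zpowers y))
  rw [hi, card_bot, mul_one, h.Q_card, hc] at this
  exact this

/-- The elements of `C(Z)` fixing both flags form the Sylow subgroup `Q⟨y⟩`. -/
theorem mem_S {a1 a2 : G} (f1 : Flag Z Q1 (zpowers y) a1) (f2 : Flag Z Q2 (zpowers y) a2) {c : G}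
    (hc : c ∈ centralizer (Z : Set G)) (h1 : a1⁻¹ * (c * a1 * c⁻¹) ∈ Z)
    (h2 : a2⁻¹ * (c * a2 * c⁻¹) ∈ Z) : c ∈ Q ⊔ zpowers y := by
  have h := S.frame.set
  have F := S.frame
  let K : Subgroup G :=
    { carrier := {g | g ∈ centralizer (Z : Set G) ∧ a1⁻¹ * (g * a1 * g⁻¹) ∈ Z ∧ a2⁻¹ * (g * a2 * g⁻¹) ∈ Z}
      one_mem' := ⟨one_mem _, by simp, by simp⟩
      mul_mem' := by
        rintro g k ⟨hg, hg1, hg2⟩ ⟨hk, hk1, hk2⟩
        refine ⟨mul_mem hg hk, ?_, ?_⟩ <;> rw [shift_mul]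
        · rw [h.conj_Z hg hk1]; exact mul_mem hg1 hk1
        · rw [h.conj_Z hg hk2]; exact mul_mem hg2 hk2
      inv_mem' := by
        rintro g ⟨hg, hg1, hg2⟩
        have e : ∀ x : G, x⁻¹ * (g⁻¹ * x * g⁻¹⁻¹) = g⁻¹ * (x⁻¹ * (g * x * g⁻¹))⁻¹ * g⁻¹⁻¹ := fun x => by group
        refine ⟨inv_mem hg, ?_, ?_⟩ <;> rw [e]
        · rw [h.conj_Z (inv_mem hg) (inv_mem hg1)]; exact inv_mem hg1
        · rw [h.conj_Z (inv_mem hg) (inv_mem hg2)]; exact inv_mem hg2 }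
  have hle : Q ⊔ zpowers y ≤ K := sup_le
    (fun q hq => ⟨h.Q_le hq, F.triv_Q hq le_rfl a1 (F.pair.le1 f1.mem), F.triv_Q hq le_rfl a2 (F.pair.le2 f2.mem)⟩)
    (zpowers_le.2 ⟨S.y_cent, f1.fix y (mem_zpowers y), f2.fix y (mem_zpowers y)⟩)
  have hp : IsPGroup 3 ↥K := by
    rintro ⟨g, hg, hg1, hg2⟩
    refine ⟨2, Subtype.ext ?_⟩
    have hm : g ^ 3 ∈ Z := by
      rw [← h.cent]
      refine mem_centralizer_iff.2 fun x hx => ?_
      obtain ⟨a, ha, b, hb, rfl⟩ := F.pair.dec x hx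
      rw [mul_assoc, mem_centralizer_iff.1 (cube_cent F.symm hg f2.mem f2.notZ hg2) b hb, ← mul_assoc,
        mem_centralizer_iff.1 (cube_cent F hg f1.mem f1.notZ hg1) a ha, mul_assoc]
    show g ^ (3 ^ 2) = 1
    rw [show (3 : ℕ) ^ 2 = 3 * 3 from rfl, pow_mul, h.Z_cube hm]
  have hd := S.small K hp fun g hg => hg.1
  have he : Q ⊔ zpowers y = K := Subgroup.eq_of_le_of_card_ge hle
    (by rw [S.card_S]; exact Nat.le_of_dvd (by norm_num) hd)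
  exact he.ge ⟨hc, h1, h2⟩

theorem cent_W_Q {x : G} (hx : x ∈ Q) (hc : ∀ w ∈ Fx Q y, x * w = w * x) : x ∈ Fx Q y :=
  S.frame.cent_Fx S.pt S.y_cent S.y_not hx hc

/-- `C(Z) ∩ C(W) = E`. -/
theorem cent_W {c : G} (hc : c ∈ centralizer (Z : Set G)) (hw : ∀ w ∈ Fx Q y, c * w = w * c) : c ∈ E := by
  obtain ⟨a1, a2, f1, f2, hW⟩ := S.exists_flags
  have hfix : ∀ a ∈ Fx Q y, a⁻¹ * (c * a * c⁻¹) ∈ Z := fun a ha => by
    rw [hw a ha, mul_inv_cancel_right, inv_mul_cancel]; exact one_mem _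
  have hs := S.mem_S f1 f2 hc (hfix _ (S.a1_mem f1 f2)) (hfix _ (S.symm.a1_mem f2 f1))
  obtain ⟨q, hq, i, rfl⟩ := mem_sup_zpowers (zpowers_le.2 (S.frame.set.Q_norm S.y_cent)) S.y_cube hs
  have hyw : ∀ w ∈ Fx Q y, y ^ (i : ℕ) * w = w * y ^ (i : ℕ) := fun w hwW =>
    ((show Commute y w from (mem_centralizer_singleton_iff.1 hwW.2).symm).pow_left _).eq
  have hqW : q ∈ Fx Q y := S.cent_W_Q hq fun w hwW => by
    refine mul_right_cancel (b := y ^ (i : ℕ)) ?_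
    rw [mul_assoc, ← hyw w hwW, ← mul_assoc, hw w hwW, mul_assoc]
  exact mul_mem (S.W_le hqW) (pow_mem S.y_mem _)

/-- An element normalising `Z` and `W` normalises `E`. -/
theorem norm_E {g : G} (hg : g ∈ normalizer (Z : Set G))
    (hgW : ∀ w ∈ Fx Q y, g * w * g⁻¹ ∈ Fx Q y) : g ∈ normalizer (E : Set G) := by
  refine Subgroup.mem_normalizer_fintype fun e he => ?_
  have hsurj : ∀ w ∈ Fx Q y, ∃ v ∈ Fx Q y, g * v * g⁻¹ = w := by
    intro w hw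
    have hmap : (Fx Q y).map (MulAut.conj g).toMonoidHom = Fx Q y :=
      Subgroup.eq_of_le_of_card_ge (by rintro _ ⟨v, hv, rfl⟩; exact hgW v hv)
        (by rw [card_map_of_injective (MulAut.conj g).injective])
    rw [← hmap] at hw
    obtain ⟨v, hv, rfl⟩ := hw
    exact ⟨v, hv, rfl⟩
  refine S.cent_W (mem_centralizer_iff.2 fun z hz => ?_) fun w hw => ?_
  · have hz' : g⁻¹ * z * g ∈ Z := by
      have := (mem_normalizer_iff.1 (inv_mem hg) z).1 hz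
      rwa [inv_inv] at this
    have := mem_centralizer_iff.1 (S.E_le he) _ hz'
    calc z * (g * e * g⁻¹) = g * ((g⁻¹ * z * g) * e) * g⁻¹ := by group
      _ = g * e * g⁻¹ * z := by rw [this]; group
  · obtain ⟨v, hv, rfl⟩ := hsurj w hw
    calc g * e * g⁻¹ * (g * v * g⁻¹) = g * (e * v) * g⁻¹ := by group
      _ = g * v * g⁻¹ * (g * e * g⁻¹) := by rw [S.comm he (S.W_le hv)]; group

/-- An element of `E` outside `Q` has centralizer `W` in `Q`. -/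
theorem Fx_eq {u : G} (hu : u ∈ E) (huQ : u ∉ Q) : Fx Q u = Fx Q y := by
  obtain ⟨a1, a2, f1, f2, hW⟩ := S.exists_flags
  have F := S.frame
  have hWle : Fx Q y ≤ Fx Q u := fun w hw =>
    mem_inf.2 ⟨hw.1, mem_centralizer_singleton_iff.2 (S.comm (S.W_le hw) hu)⟩
  refine le_antisymm ?_ hWle
  haveI : Fact (Nat.Prime 3) := ⟨Nat.prime_three⟩
  have hEp : IsPGroup 3 ↥E := IsPGroup.of_card (n := 4) (by rw [S.card_E]; norm_num)
  have hflag : ∀ {R R' M M' : Subgroup G} {s s' a b : G}, Side Z Q R R' M M' E s s' y →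
      Flag Z R (zpowers y) a → Flag Z R' (zpowers y) b → Flag Z R E a := by
    intro R R' M M' s s' a b T f g
    refine ⟨f.mem, f.notZ, fun c hc => ?_, fun c hc x hx => ?_⟩
    · rw [T.comm hc (T.W_le (T.a1_mem f g)), mul_inv_cancel_right, inv_mul_cancel]; exact one_mem _
    · exact (shift_of_fix T.frame (T.E_le hc) f.mem f.notZ
        (by rw [T.comm hc (T.W_le (T.a1_mem f g)), mul_inv_cancel_right, inv_mul_cancel]; exact one_mem _) hx).2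
  have hn : ∀ {R R' M M' : Subgroup G} {s s' : G}, Side Z Q R R' M M' E s s' y → ¬ Triv Z R u := by
    intro R R' M M' s s' T ht
    have hu' := T.E_eq ▸ hu
    obtain ⟨w, hw, i, rfl⟩ := mem_sup_zpowers
      (zpowers_le.2 (Subgroup.mem_normalizer_fintype fun v hv => by
        rw [SetLike.mem_coe, T.comm T.y_mem (T.W_le hv), mul_inv_cancel_right]; exact hv)) T.y_cube hu'
    have hk : Triv Z R (y ^ (i : ℕ)) := fun x hx => by
      rw [show y ^ (i : ℕ) = w⁻¹ * (w * y ^ (i : ℕ)) by group, shift_mul,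
        T.frame.set.conj_Z (inv_mem (T.frame.set.Q_le hw.1)) (ht x hx)]
      exact mul_mem (T.frame.triv_Q (inv_mem hw.1) T.frame.pair.le1 x hx) (ht x hx)
    rcases (by omega : (i : ℕ) = 0 ∨ (i : ℕ) = 1 ∨ (i : ℕ) = 2) with h0 | h1 | h2
    · exact huQ (by rw [h0, pow_zero, mul_one]; exact hw.1)
    · rw [h1, pow_one] at hk; exact T.nontriv.1 hk
    · refine T.nontriv.1 ?_
      have : y = (y ^ (i : ℕ))⁻¹ := eq_inv_of_mul_eq_one_right (by rw [h2, ← pow_succ, T.y_cube])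
      rw [this]
      exact triv_inv T.frame.set (pow_mem T.y_cent _) hk
  rw [hW]
  exact (F.set.Fx_le_Mt (S.E_le hu)).trans
    (F.Fx_le_flags hEp S.E_le hu (hflag S f1 f2) (hflag S.symm f2 f1) (hn S) (hn S.symm))

/-- An element of `C(Z)` fixing an element of `E` outside `Q` normalises `E`. -/
theorem norm_of_notQ {u g : G} (hu : u ∈ E) (huQ : u ∉ Q) (hg : g ∈ centralizer (Z : Set G))
    (hgu : g * u = u * g) : g ∈ normalizer (E : Set G) := by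
  refine S.norm_E (Subgroup.centralizer_le_normalizer _ hg) fun w hw => ?_
  rw [← S.Fx_eq hu huQ] at hw ⊢
  obtain ⟨hwQ, hwu⟩ := mem_Fx.1 hw
  refine mem_Fx.2 ⟨S.frame.set.conj_mem hg hwQ, ?_⟩
  calc u * (g * w * g⁻¹) * u⁻¹ = (u * g) * w * (u * g)⁻¹ := by group
    _ = g * (u * w * u⁻¹) * g⁻¹ := by rw [← hgu]; group
    _ = _ := by rw [hwu]

/-- The elements of the flag lines. -/
theorem flag_subgroup {a x : G} (ha : a ∈ Q1) (hx : x ∈ Z ⊔ zpowers a) (hxZ : x ∉ Z) :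
    Z ⊔ zpowers x = Z ⊔ zpowers a := by
  have haZ : a ∉ Z := fun h => hxZ ((sup_le le_rfl (zpowers_le.2 h)) hx)
  refine le_antisymm (sup_le le_sup_left (zpowers_le.2 hx)) ?_
  have hxQ : x ∈ Q1 := (sup_le S.frame.pair.Z1 (zpowers_le.2 ha)) hx
  rw [← S.frame.pair.cent_eq S.frame.set hxQ hxZ]
  refine sup_le (le_inf S.frame.pair.Z1 fun w hw => mem_centralizer_singleton_iff.2
    (S.frame.set.comm_Z (S.frame.pair.le1 hxQ) hw)) (zpowers_le.2 (mem_inf.2 ⟨ha, mem_centralizer_singleton_iff.2 ?_⟩))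
  rw [← S.frame.pair.cent_eq S.frame.set ha haZ] at hx
  exact (mem_centralizer_singleton_iff.1 hx.2).symm

/-- An element of `C(Z)` fixing an element of `E` off both flags normalises `E`. -/
theorem norm_of_off {a1 a2 : G} (f1 : Flag Z Q1 (zpowers y) a1) (f2 : Flag Z Q2 (zpowers y) a2) {u g : G}
    (hu : u ∈ E) (h1 : u ∉ Z ⊔ zpowers a1) (h2 : u ∉ Z ⊔ zpowers a2) (hg : g ∈ centralizer (Z : Set G))
    (hgu : g * u = u * g) : g ∈ normalizer (E : Set G) := by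
  by_cases huQ : u ∈ Q
  swap
  · exact S.norm_of_notQ hu huQ hg hgu
  have F := S.frame
  have h := F.set
  have hW := S.W_eq f1 f2
  set A1 := Z ⊔ zpowers a1 with hA1d
  set A2 := Z ⊔ zpowers a2 with hA2d
  have hA1 : A1 ≤ Q1 := sup_le F.pair.Z1 (zpowers_le.2 f1.mem)
  have hA2 : A2 ≤ Q2 := sup_le F.pair.Z2 (zpowers_le.2 f2.mem)
  have hnorm : A2 ≤ normalizer (A1 : Set G) := fun b hb => Subgroup.mem_normalizer_fintype fun a ha => by
    rw [SetLike.mem_coe, ← F.pair.comm a (hA1 ha) b (hA2 hb), mul_inv_cancel_right]; exact ha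
  have huW := S.E_inf_Q u hu huQ
  rw [hW, ← SetLike.mem_coe, Subgroup.coe_mul_of_right_le_normalizer_left A1 _ hnorm, Set.mem_mul] at huW
  obtain ⟨x1, hx1, x2, hx2, rfl⟩ := huW
  have hx1Z : x1 ∉ Z := fun hz => h2 (mul_mem (mem_sup_left hz) hx2)
  have hx2Z : x2 ∉ Z := fun hz => h1 (mul_mem hx1 (mem_sup_left hz))
  set v1 := g * x1 * g⁻¹ with hv1
  set v2 := g * x2 * g⁻¹ with hv2
  have hv : v1 * v2 = x1 * x2 := by
    calc v1 * v2 = g * (x1 * x2) * g⁻¹ := by rw [hv1, hv2]; group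
      _ = x1 * x2 := by rw [hgu, mul_inv_cancel_right]
  have hgW : ∀ (B1 B2 : Subgroup G), (∀ w ∈ A1, g * w * g⁻¹ ∈ B1) → (∀ w ∈ A2, g * w * g⁻¹ ∈ B2) →
      B1 ≤ Fx Q y → B2 ≤ Fx Q y → g ∈ normalizer (E : Set G) := by
    intro B1 B2 hB1 hB2 hB1W hB2W
    refine S.norm_E (Subgroup.centralizer_le_normalizer _ hg) fun w hw => ?_
    rw [hW, ← SetLike.mem_coe, Subgroup.coe_mul_of_right_le_normalizer_left A1 _ hnorm, Set.mem_mul] at hw
    obtain ⟨w1, hw1, w2, hw2, rfl⟩ := hw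
    rw [show g * (w1 * w2) * g⁻¹ = (g * w1 * g⁻¹) * (g * w2 * g⁻¹) by group]
    exact mul_mem (hB1W (hB1 w1 hw1)) (hB2W (hB2 w2 hw2))
  have hA1W : A1 ≤ Fx Q y := hW ▸ le_sup_left
  have hA2W : A2 ≤ Fx Q y := hW ▸ le_sup_right
  have himg : ∀ (a x : G) (B : Subgroup G), Z ≤ B → Z ⊔ zpowers x = Z ⊔ zpowers a → g * x * g⁻¹ ∈ B →
      ∀ w ∈ Z ⊔ zpowers a, g * w * g⁻¹ ∈ B := by
    intro a x B hZB he hx w hw
    have hle : Z ⊔ zpowers x ≤ B.comap (MulAut.conj g).toMonoidHom := sup_le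
      (fun z hz => by show g * z * g⁻¹ ∈ B; rw [h.conj_Z hg hz]; exact hZB hz) (zpowers_le.2 hx)
    exact hle (he.ge hw)
  have e1 := S.flag_subgroup f1.mem hx1 hx1Z
  have e2 := S.symm.flag_subgroup f2.mem hx2 hx2Z
  rcases F.perm g hg with ⟨p1, p2⟩ | ⟨p1, p2⟩
  · have hk : x1⁻¹ * v1 = x2 * v2⁻¹ := by
      calc x1⁻¹ * v1 = x1⁻¹ * (v1 * v2) * v2⁻¹ := by group
        _ = x2 * v2⁻¹ := by rw [hv]; group
    have hz : x1⁻¹ * v1 ∈ Z := F.not_swap_both (mul_mem (inv_mem (hA1 hx1)) ((p1 x1).1 (hA1 hx1)))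
      (hk ▸ mul_mem (hA2 hx2) (inv_mem ((p2 x2).1 (hA2 hx2))))
    refine hgW A1 A2 (himg a1 x1 A1 le_sup_left e1 ?_) (himg a2 x2 A2 le_sup_left e2 ?_) hA1W hA2W
    · rw [← hv1, show v1 = x1 * (x1⁻¹ * v1) by group]; exact mul_mem hx1 (mem_sup_left hz)
    · rw [← hv2, show v2 = (x2 * v2⁻¹)⁻¹ * x2 by group, ← hk]; exact mul_mem (mem_sup_left (inv_mem hz)) hx2
  · have hv1Q : v1 ∈ Q2 := (p1 x1).1 (hA1 hx1)
    have hv2Q : v2 ∈ Q1 := (p2 x2).1 (hA2 hx2)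
    have hv' : v2 * v1 = x1 * x2 := by rw [F.pair.comm v2 hv2Q v1 hv1Q, hv]
    have hk : x1⁻¹ * v2 = x2 * v1⁻¹ := by
      calc x1⁻¹ * v2 = x1⁻¹ * (v2 * v1) * v1⁻¹ := by group
        _ = x2 * v1⁻¹ := by rw [hv']; group
    have hz : x1⁻¹ * v2 ∈ Z := F.not_swap_both (mul_mem (inv_mem (hA1 hx1)) hv2Q)
      (hk ▸ mul_mem (hA2 hx2) (inv_mem hv1Q))
    refine hgW A2 A1 (himg a1 x1 A2 le_sup_left e1 ?_) (himg a2 x2 A1 le_sup_left e2 ?_) hA2W hA1W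
    · rw [← hv1, show v1 = (x2 * v1⁻¹)⁻¹ * x2 by group, ← hk]; exact mul_mem (mem_sup_left (inv_mem hz)) hx2
    · rw [← hv2, show v2 = x1 * (x1⁻¹ * v2) by group]; exact mul_mem hx1 (mem_sup_left hz)

/-- The same group `E`, seen from another of its points. -/
theorem at_pt {p : G} (hp : p ∈ E) (hpt : IsPt Z p) :
    ∃ (Z' Q' R R' M M' : Subgroup G) (s s' y' : G), Side Z' Q' R R' M M' E s s' y' ∧ p ∈ Z' ∧
      ∀ w, IsPt Z' w ↔ IsPt Z w := by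
  by_cases hpZ : p ∈ Z
  · exact ⟨Z, Q, Q1, Q2, L1, L2, t1, t2, y, S, hpZ, fun w => Iff.rfl⟩
  obtain ⟨hpC, hE⟩ := S.frame.E_eq_of_pt S.pt S.y_cent S.y_not (S.E_eq ▸ hp) hpt hpZ
  obtain ⟨g, hpg, -, -, -, hzside, -, -⟩ := S.frame.pt_side hpt hpC hpZ
  obtain ⟨z, hz, hz1⟩ := S.frame.set.exists_z
  obtain ⟨hzC, hzZ', -, hzpt⟩ := hzside z hz hz1
  have hW := S.frame.other_side hpt hpC hpZ hz hz1 hpg
  have hsmall : Frame.Small (cj g Z) := by
    intro P hP hPC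
    have := S.small (cj g⁻¹ P) (hP.of_equiv (P.equivMapOfInjective _ (MulAut.conj g⁻¹).injective)) (by
      intro x hx
      rw [mem_cj, inv_inv] at hx
      have h1 := hPC hx
      rwa [cj_centralizer, conj_mem_cj] at h1)
    rwa [card_cj] at this
  refine ⟨cj g Z, cj g Q, cj g Q1, cj g Q2, cj g L1, cj g L2, g * t1 * g⁻¹, g * t2 * g⁻¹, z,
    ⟨S.frame.conj g, hsmall, hzpt, hzC, hzZ', ?_⟩, hpg, fun w => IsPt.cj_iff g⟩
  rw [zpowers_eq_of_prime S.frame.set.Z_card hz hz1, ← hW, hE, S.E_eq]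

/-- THEOREM: centralisers of hyperplanes of `E` normalise `E`. -/
theorem cent_hyperplane {M : Subgroup G} (hM : M ≤ E) (hc : Nat.card ↥M = 27) :
    centralizer (M : Set G) ≤ normalizer (E : Set G) := by
  intro g hg
  obtain ⟨p, hpM, hpt⟩ := S.frame.hyper S.pt S.y_cent S.y_not (S.E_eq ▸ hM) hc
  obtain ⟨Z', Q', R, R', M', M'', s, s', y', T, hpZ', -⟩ := S.at_pt (hM hpM) hpt
  obtain ⟨a1, a2, f1, f2, -⟩ := T.exists_flags
  have hgZ : g ∈ centralizer (Z' : Set G) := mem_centralizer_iff.2 fun w hw => by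
    obtain ⟨n, rfl⟩ := mem_zpowers_iff.1
      ((zpowers_eq_of_prime T.frame.set.Z_card hpZ' hpt.ne_one).ge hw)
    exact ((show Commute p g from mem_centralizer_iff.1 hg p hpM).zpow_left n).eq
  obtain ⟨u, hu, hu1, hu2⟩ : ∃ u ∈ M, u ∉ Z' ⊔ zpowers a1 ∧ u ∉ Z' ⊔ zpowers a2 := by
    by_contra hno
    push Not at hno
    have h1 : Nat.card ↥(Z' ⊔ zpowers a1) = 9 := T.frame.card_flag f1
    have h2 : Nat.card ↥(Z' ⊔ zpowers a2) = 9 := T.frame.symm.card_flag f2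
    have hsub : (M : Set G) ⊆ ((Z' ⊔ zpowers a1 : Subgroup G) : Set G) ∪ ((Z' ⊔ zpowers a2 : Subgroup G) : Set G) := by
      intro u hu
      by_cases hu1 : u ∈ Z' ⊔ zpowers a1
      · exact Or.inl hu1
      · exact Or.inr (hno u hu hu1)
    have h3 := (Set.ncard_le_ncard hsub).trans (Set.ncard_union_le _ _)
    rw [← Nat.card_coe_set_eq, ← Nat.card_coe_set_eq, ← Nat.card_coe_set_eq, SetLike.coe_sort_coe,
      SetLike.coe_sort_coe, SetLike.coe_sort_coe, hc, h1, h2] at h3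
    omega
  exact T.norm_of_off f1 f2 (hM hu) hu1 hu2 hgZ (mem_centralizer_iff.1 hg u hu).symm

end Side

end Cfsg.Agent.UThreeLocal.Cand
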