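import Cfsg.Agent.Lib.SpThreeCent.Main
import Cfsg.Agent.Lib.UThreeLocal.Loc.Transport

/-!
# The centralizer of an involution inverting `R/⟨a⟩` as a product of two `SL₂(3)`, extended
-/

set_option autoImplicit false
set_option linter.style.haveILetI false
set_option linter.unusedSectionVars false
set_option maxRecDepth 100000
set_option synthInstance.maxSize 10000

namespace Cfsg.Agent.UThreeLocal.Cand

open Subgroup
open Cfsg.Agent.NineSym (Mn V3 InL jM wM)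
open Cfsg.Agent.PSpAmalgam (SL3 negOne)

/-- An element of order dividing four. -/
abbrev IsQ (p : SL3) : Prop := p ^ 4 = 1

theorem slq_mul : ∀ p q : SL3, IsQ p → IsQ q → IsQ (p * q) := by decide +kernel

theorem slq_inv : ∀ p : SL3, IsQ p → IsQ p⁻¹ := by decide +kernel

theorem sl_eight : ∀ p : SL3, p ^ 8 ≠ negOne ∧ (p ^ 8 = 1 → IsQ p) ∧ p ^ 12 = 1 ∧ (IsQ p → p ^ 8 = 1) := by
  decide +kernel

theorem slq_card : Fintype.card {p : SL3 // IsQ p} = 8 := by decide +kernel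

theorem sl_neg : negOne * negOne = 1 ∧ IsQ negOne ∧ negOne ≠ 1 ∧ negOne ^ 3 = negOne := by decide +kernel

theorem slq_split : ∀ a : SL3, a ^ 3 = 1 → a ≠ 1 → ∀ p, ∃ i : Fin 3, IsQ (p * (a ^ (i : ℕ))⁻¹) := by
  decide +kernel

theorem slq_norm : ∀ a : SL3, a ^ 3 = 1 → a ≠ 1 → ∀ q, IsQ q →
    (∃ i : Fin 3, q * a * q⁻¹ = a ^ (i : ℕ) ∨ q * a * q⁻¹ = negOne * a ^ (i : ℕ)) → q = 1 ∨ q = negOne := by
  decide +kernel

theorem sl_cent_three : ∀ a : SL3, a ^ 3 = 1 → a ≠ 1 → ∀ p, p ^ 3 = 1 →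
    (p * a = a * p ∨ p * a = negOne * (a * p)) → ∃ i : Fin 3, p = a ^ (i : ℕ) := by
  decide +kernel

theorem slq_pair : ∀ a : SL3, a ^ 3 = 1 → a ≠ 1 → ∀ p r : SL3, p ^ 3 = 1 → r ^ 3 = 1 →
    (p * r = r * p ∨ p * r = negOne * (r * p)) →
      ∃ q, IsQ q ∧ (∃ i : Fin 3, p = q * a ^ (i : ℕ) * q⁻¹) ∧ ∃ j : Fin 3, r = q * a ^ (j : ℕ) * q⁻¹ := by
  decide +kernel

theorem slq_cube : ∀ a q : SL3, a ^ 3 = 1 → a ≠ 1 → IsQ q →
    ((q * a) ^ 3 = 1 → ∃ q0, IsQ q0 ∧ q * a = q0 * a * q0⁻¹) ∧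
      ((q * a) ^ 3 = negOne → ∃ q0, IsQ q0 ∧ q * a = negOne * (q0 * a * q0⁻¹)) := by
  decide +kernel

theorem slq_cent_all : ∀ p : SL3, (∀ a, p * a = a * p ∨ p * a = negOne * (a * p)) → p = 1 ∨ p = negOne := by
  decide +kernel

/-- A product of two copies of `SL₂(3)` extended by their exchange, with `a` centralising the first. -/
structure Prod2 {Y : Type*} [Group Y] (a t : Y) (H : Subgroup Y) (P : SL3 × SL3 →* Y) (u : Y) : Prop where
  comm : ∀ x, P x * t = t * P x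
  cent : ∀ p : SL3, P (p, 1) * a = a * P (p, 1)
  ker : ∀ x, P x = 1 ↔ x = 1 ∨ x = (negOne, negOne)
  u2 : u * u = 1
  swap : ∀ x, u * P x * u = P (x.2, x.1)
  unot : u ∉ P.range
  mem : ∀ x, P x ∈ H
  all : ∀ g ∈ H, g * t = t * g → ∃ x, g = P x ∨ g = P x * u

universe uY

variable {Y : Type uY} [Group Y] [Finite Y] {a : Y} {R J : Subgroup Y}

/-- With diagonal signs and no inversion. -/
theorem exists_prod {φ : Mn → Y} (L : SpThreeCent.Loc a R J false true φ) {t : Y} (ht2 : t * t = 1)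
    (htC : t ∈ centralizer ({a} : Set Y)) (htinv : ∀ x ∈ R, t * x * t⁻¹ * x ∈ zpowers a) :
    ∃ (P : SL3 × SL3 →* Y) (u : Y), Prod2 a t ⊤ P u := by
  classical
  obtain ⟨t0, u, e, f, d, Fr⟩ := L.amalgam.exists_frame
  obtain ⟨hcard, ψ₀, hinj, hneg, hz, ht, hw⟩ := Fr.exists_sl
  obtain ⟨tt, ee, ff, uu, E, ψ, htt, huu, hψ, hI⟩ := Fr.exists_invData_coe (Fr.cent_e_le Fr.pair_e)
    (Fr.cent_f_le Fr.pair_f) hcard ψ₀ hinj hneg hz ht hw
  have hD := hI.doubleSL
  -- the two involutions differ by an element of `R`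
  set ρ := t0⁻¹ * t with hρdef
  have ht0C : t0 ∈ centralizer ({a} : Set Y) := Fr.t_mem₂
  have ht0i : t0⁻¹ = t0 := inv_eq_of_mul_eq_one_right Fr.t2
  have hti : t⁻¹ = t := inv_eq_of_mul_eq_one_right ht2
  have hza : ∀ {w : Y}, w ∈ zpowers a → ∀ {g : Y}, g ∈ centralizer ({a} : Set Y) → g * w = w * g := by
    intro w hw g hg
    obtain ⟨n, rfl⟩ := mem_zpowers_iff.1 hw
    exact ((show Commute g a from mem_centralizer_singleton_iff.1 hg).zpow_right n).eq
  have hρR : ρ ∈ R := by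
    refine L.nat ρ (mul_mem (inv_mem ht0C) htC) fun x hx => ?_
    have hx' : t * x * t⁻¹ ∈ R := (mem_normalizer_iff.1 (L.norm htC) x).1 hx
    have hw1 := htinv x hx
    set w1 := t * x * t⁻¹ * x with hw1d
    have hw2 := Fr.t_inv x⁻¹ (inv_mem hx)
    set w2 := t0 * x⁻¹ * t0⁻¹ * x⁻¹ with hw2d
    have e1 : t * x * t⁻¹ = w1 * x⁻¹ := by rw [hw1d, mul_inv_cancel_right]
    have e2 : t0 * x⁻¹ * t0⁻¹ = w2 * x := by rw [hw2d, inv_mul_cancel_right]
    have e : ρ * x * ρ⁻¹ * x⁻¹ = w1 * w2 := by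
      calc ρ * x * ρ⁻¹ * x⁻¹ = t0⁻¹ * (t * x * t⁻¹) * t0 * x⁻¹ := by rw [hρdef]; group
        _ = (t0⁻¹ * w1 * t0⁻¹⁻¹) * (t0⁻¹ * x⁻¹ * t0) * x⁻¹ := by rw [e1]; group
        _ = (t0⁻¹ * w1 * t0⁻¹⁻¹) * (t0 * x⁻¹ * t0⁻¹) * x⁻¹ := by simp only [ht0i]
        _ = w1 * w2 := by rw [hza hw1 (inv_mem ht0C), mul_inv_cancel_right, e2]; group
    rw [e]
    exact mul_mem hw1 hw2
  have hρc : ρ ^ 3 = 1 := L.exp ρ hρR
  have hinvρ : t0 * ρ * t0⁻¹ = ρ⁻¹ := by
    rw [hρdef, mul_inv_cancel_left, mul_inv_rev, inv_inv, hti, ht0i]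
  have hconj : ρ * t0 * ρ⁻¹ = t := by
    calc ρ * t0 * ρ⁻¹ = t0 * (t0⁻¹ * ρ * t0) * ρ⁻¹ := by group
      _ = t0 * (t0 * ρ * t0⁻¹) * ρ⁻¹ := by simp only [ht0i]
      _ = t0 * (ρ * ρ * ρ)⁻¹ * ρ := by rw [hinvρ]; group
      _ = t0 * ρ := by rw [← pow_two, ← pow_succ, hρc, inv_one, mul_one]
      _ = t := by rw [hρdef, mul_inv_cancel_left]
  -- the map
  let M := PSpAmalgam.wreathMap hD.comm hD.u2
  let P0 : SL3 × SL3 →* ↥(centralizer ({t0} : Set Y)) := M.comp SemidirectProduct.inl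
  let cc : Y ≃* Y := MulAut.conj ρ
  let P : SL3 × SL3 →* Y := (cc.toMonoidHom.comp (centralizer ({t0} : Set Y)).subtype).comp P0
  have hP0 : ∀ x, P0 x = ψ x.1 * (uu * ψ x.2 * uu) := fun x => by
    show M (SemidirectProduct.inl x) = _
    rw [PSpAmalgam.wreathMap_apply]
    simp
  refine ⟨P, ρ * u * ρ⁻¹, ?_⟩
  refine
    { comm := fun x => ?_
      cent := fun p => ?_
      ker := fun x => ?_
      u2 := ?_
      swap := fun x => ?_
      unot := ?_
      mem := fun _ => mem_top _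
      all := fun g _ hg => ?_ }
  · have h := mem_centralizer_singleton_iff.1 (P0 x).2
    show ρ * (P0 x : Y) * ρ⁻¹ * t = t * (ρ * (P0 x : Y) * ρ⁻¹)
    rw [← hconj, show ρ * (P0 x : Y) * ρ⁻¹ * (ρ * t0 * ρ⁻¹) = ρ * ((P0 x : Y) * t0) * ρ⁻¹ by group, h]
    group
  · show ρ * (P0 (p, 1) : Y) * ρ⁻¹ * a = a * (ρ * (P0 (p, 1) : Y) * ρ⁻¹)
    have e : (P0 (p, 1) : Y) = ψ₀ p := by
      rw [hP0]
      push_cast
      rw [map_one, hψ, OneMemClass.coe_one, mul_one, huu, Fr.u2, mul_one]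
    have hca : Commute ρ a := mem_centralizer_singleton_iff.1 (L.le hρR)
    exact ((hca.mul_left (show Commute (P0 (p, 1) : Y) a from e ▸ hz p)).mul_left hca.inv_left).eq
  · have h1 : P x = 1 ↔ M (SemidirectProduct.inl x) = 1 := by
      show cc ((P0 x : Y)) = 1 ↔ _
      rw [map_eq_one_iff cc cc.injective, OneMemClass.coe_eq_one]
      rfl
    rw [h1, ← MonoidHom.mem_ker, hD.ker_eq, PSpAmalgam.shapeKer]
    constructor
    · intro hm
      obtain ⟨n, hn⟩ := (Submonoid.mem_powers_iff _ _).1 (mem_powers_iff_mem_zpowers.2 hm)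
      rw [← map_pow] at hn
      have := SemidirectProduct.inl_injective hn
      rw [← this, Prod.pow_def, pow_eq_pow_mod n (show (negOne : SL3) ^ 2 = 1 by rw [pow_two]; exact sl_neg.1)]
      rcases Nat.mod_two_eq_zero_or_one n with h | h <;> rw [h]
      · left; simp
      · right; simp
    · rintro (rfl | rfl)
      · rw [map_one]; exact one_mem _
      · exact mem_zpowers _
  · rw [conj_mul, Fr.u2, mul_one, mul_inv_cancel]
  · show ρ * u * ρ⁻¹ * (ρ * (P0 x : Y) * ρ⁻¹) * (ρ * u * ρ⁻¹) = ρ * (P0 (x.2, x.1) : Y) * ρ⁻¹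
    have e : uu * P0 x * uu = P0 (x.2, x.1) := by
      rw [hP0, hP0, hD.comm x.2 x.1]
      calc uu * (ψ x.1 * (uu * ψ x.2 * uu)) * uu = uu * ψ x.1 * uu * ψ x.2 * (uu * uu) := by group
        _ = _ := by rw [hD.u2, mul_one]
    rw [← huu, ← e]
    push_cast
    group
  · rintro ⟨x, hx⟩
    have e : P0 x = uu := by
      refine Subtype.ext (cc.injective ?_)
      rw [huu]
      exact hx
    have h1 : M (SemidirectProduct.inl x * SemidirectProduct.inr (Multiplicative.ofAdd 1)) = 1 := by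
      rw [map_mul, show M (SemidirectProduct.inl x) = uu from e,
        show M (SemidirectProduct.inr (Multiplicative.ofAdd 1)) = uu by
          rw [PSpAmalgam.wreathMap_apply]; simp [hD.u2], hD.u2]
    rw [← MonoidHom.mem_ker, hD.ker_eq, PSpAmalgam.shapeKer] at h1
    obtain ⟨n, hn⟩ := (Submonoid.mem_powers_iff _ _).1 (mem_powers_iff_mem_zpowers.2 h1)
    rw [← map_pow] at hn
    have h2 := congrArg SemidirectProduct.right hn
    simp only [SemidirectProduct.right_inl, SemidirectProduct.mul_right, SemidirectProduct.right_inr, one_mul] at h2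
    exact absurd h2 (by decide)
  · have hg0 : (ρ⁻¹ * g * ρ) * t0 = t0 * (ρ⁻¹ * g * ρ) := by
      rw [← hconj] at hg
      calc ρ⁻¹ * g * ρ * t0 = ρ⁻¹ * (g * (ρ * t0 * ρ⁻¹)) * ρ := by group
        _ = _ := by rw [hg]; group
    obtain ⟨⟨x, i⟩, hx⟩ := PSpAmalgam.wreathMap_surjective hD.comm hD.u2 hD.gen
      ⟨_, mem_centralizer_singleton_iff.2 hg0⟩
    refine ⟨x, ?_⟩
    rw [PSpAmalgam.wreathMap_apply] at hx
    dsimp only at hx
    rw [← hP0] at hx
    split_ifs at hx with h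
    · left
      have hv := congrArg Subtype.val hx
      push_cast at hv
      rw [mul_one] at hv
      show g = ρ * (P0 x : Y) * ρ⁻¹
      rw [hv]; group
    · right
      have hv := congrArg Subtype.val hx
      push_cast at hv
      show g = ρ * (P0 x : Y) * ρ⁻¹ * (ρ * u * ρ⁻¹)
      rw [show ρ * (P0 x : Y) * ρ⁻¹ * (ρ * u * ρ⁻¹) = ρ * ((P0 x : Y) * u) * ρ⁻¹ by group, ← huu, hv]
      group

/-- In the presence of the inversion, inside a subgroup of index two. -/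
theorem exists_prod_any {ci : Bool} {φ : Mn → Y} (L : SpThreeCent.Loc a R J ci true φ)
    (hs : ci = true → centralizer ({φ (jM (0, 0, 1))} : Set Y) ≤ normalizer (J : Set Y))
    {t : Y} (ht2 : t * t = 1) (htC : t ∈ centralizer ({a} : Set Y))
    (htinv : ∀ x ∈ R, t * x * t⁻¹ * x ∈ zpowers a) :
    ∃ (H : Subgroup Y) (P : SL3 × SL3 →* Y) (u : Y), H.Normal ∧ H.index ∣ 2 ∧ centralizer ({a} : Set Y) ≤ H ∧
      J ≤ H ∧ Prod2 a t H P u := by
  cases ci
  · obtain ⟨P, u, hP⟩ := exists_prod L ht2 htC htinv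
    exact ⟨⊤, P, u, inferInstance, by rw [index_top]; exact one_dvd 2, le_top, le_top, hP⟩
  obtain ⟨H, hH, hr⟩ := L.exists_index_refl (hs rfl)
  obtain ⟨hA, hJH, -⟩ := L.index_mem hH hr
  obtain ⟨a', φ', L'⟩ := L.loc_four hH hr
  have hac : Nat.card ↥(zpowers a) = 3 := by rw [Nat.card_zpowers, L.order]
  have ha'1 : (a' : Y) ≠ 1 := fun e => by
    have := L'.order
    rw [← Subgroup.orderOf_coe, e, orderOf_one] at this
    omega
  have ha'z : (a' : Y) ∈ zpowers a := L.center (a' : Y) (mem_subgroupOf.1 L'.mem) fun x hx => by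
    have := L'.le (show (⟨x, hA (L.le hx)⟩ : ↥H) ∈ R.subgroupOf H from hx)
    exact (congrArg Subtype.val (mem_centralizer_singleton_iff.1 this)).symm
  have hz' : zpowers (a' : Y) = zpowers a := zpowers_eq_of_prime hac ha'z ha'1
  have hgen : ∀ g : Y, g * a' = a' * g → g * a = a * g := fun g hg => by
    obtain ⟨n, hn⟩ := mem_zpowers_iff.1 (hz'.ge (mem_zpowers a))
    rw [← hn]
    exact ((show Commute g (a' : Y) from hg).zpow_right n).eq
  have htH : t ∈ H := hA htC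
  have htC' : (⟨t, htH⟩ : ↥H) ∈ centralizer ({a'} : Set ↥H) := by
    refine mem_centralizer_singleton_iff.2 (Subtype.ext ?_)
    obtain ⟨n, hn⟩ := mem_zpowers_iff.1 ha'z
    push_cast
    rw [← hn]
    exact ((show Commute t a from mem_centralizer_singleton_iff.1 htC).zpow_right n).eq
  obtain ⟨P, u, hP⟩ := exists_prod L' (t := ⟨t, htH⟩) (Subtype.ext ht2) htC' fun x hx => by
    obtain ⟨n, hn⟩ := mem_zpowers_iff.1 (hz'.ge (htinv (x : Y) (mem_subgroupOf.1 hx)))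
    exact mem_zpowers_iff.2 ⟨n, Subtype.ext (by push_cast; exact hn)⟩
  refine ⟨H, H.subtype.comp P, (u : Y), normal_of_index_eq_two hH, hH ▸ dvd_rfl, hA, hJH,
    { comm := fun x => congrArg Subtype.val (hP.comm x)
      cent := fun p => hgen _ (congrArg Subtype.val (hP.cent p))
      ker := fun x => by
        show ((P x : ↥H) : Y) = 1 ↔ _
        rw [OneMemClass.coe_eq_one]
        exact hP.ker x
      u2 := congrArg Subtype.val hP.u2
      swap := fun x => congrArg Subtype.val (hP.swap x)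
      unot := fun ⟨x, hx⟩ => hP.unot ⟨x, Subtype.ext hx⟩
      mem := fun x => (P x).2
      all := fun g hg hgt => ?_ }⟩
  obtain ⟨x, hx | hx⟩ := hP.all ⟨g, hg⟩ (mem_top _) (Subtype.ext hgt)
  · exact ⟨x, Or.inl (congrArg Subtype.val hx)⟩
  · exact ⟨x, Or.inr (congrArg Subtype.val hx)⟩

end Cfsg.Agent.UThreeLocal.Cand
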