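import Cfsg.Agent.Lib.UThreeLocal.Cand.Quot
import Cfsg.Agent.Lib.UThreeLocal.Cand.Prod

/-!
# `C(d) ∩ C(r)` for `r = t₂`

It is `(L₂ L(y)) (N(A) ∩ C(d) ∩ C(r))` for commuting quaternion groups `L₂, L(y)`, with `A = E ∩ C(r)`; the
elements of `A` off `⟨z, d⟩ ∪ ⟨y, d⟩` have centralizers in it normalising `A`.
-/

set_option autoImplicit false
set_option linter.unusedSectionVars false
set_option linter.style.haveILetI false
set_option maxRecDepth 100000
set_option synthInstance.maxSize 10000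
set_option maxHeartbeats 1600000

namespace Cfsg.Agent.UThreeLocal.Cand

open Subgroup
open Cfsg.Agent.SpThreeCent
open Cfsg.Agent.PSpAmalgam (SL3 negOne)

universe u

variable {G : Type u} [Group G] [Finite G]

theorem slq_three : ∀ p : SL3, IsQ p → (p ^ 3 = 1 → p = 1) ∧ (p ^ 3 = negOne → p = negOne) := by decide +kernel

theorem sl_neg_comm : ∀ p : SL3, negOne * p = p * negOne := by decide +kernel

theorem sl_neg_mul_ne : ∀ a : SL3, a ^ 3 = 1 → a ≠ 1 → a ≠ negOne := by decide +kernel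

/-- What part B uses about `C(d) ∩ C(t₂)`; `n` exchanges the two points. -/
structure Duo (Z L2 E : Subgroup G) (t2 z y d n : G) : Prop where
  nd : n * d = d * n
  nt : n * t2 = t2 * n
  nA : n ∈ normalizer ((E ⊓ centralizer ({t2} : Set G) : Subgroup G) : Set G)
  ny : n * y * n⁻¹ ∈ Z
  comm : ∀ a ∈ L2, ∀ b ∈ cj n⁻¹ L2, a * b = b * a
  sig : ∀ K : Subgroup G, (Nat.card ↥K).Coprime 3 → K ≤ centralizer ({d} : Set G) ⊓ centralizer ({t2} : Set G) →
    z ∈ normalizer (K : Set G) → K ≤ L2 ⊔ cj n⁻¹ L2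
  frat : ∀ g ∈ centralizer ({d} : Set G) ⊓ centralizer ({t2} : Set G),
    ∃ s ∈ L2 ⊔ cj n⁻¹ L2, s⁻¹ * g ∈ normalizer ((E ⊓ centralizer ({t2} : Set G) : Subgroup G) : Set G)
  off : ∀ u ∈ E ⊓ centralizer ({t2} : Set G), u ∉ zpowers z ⊔ zpowers d → u ∉ zpowers y ⊔ zpowers d →
    centralizer ({u} : Set G) ⊓ (centralizer ({d} : Set G) ⊓ centralizer ({t2} : Set G)) ≤
      normalizer ((E ⊓ centralizer ({t2} : Set G) : Subgroup G) : Set G)

theorem exists_duo {Z Q Q1 Q2 L1 L2 E : Subgroup G} {t1 t2 z y d a2 : G}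
    (D : Dat Z Q Q1 Q2 L1 L2 E t1 t2 z y d a2) : ∃ n, Duo Z L2 E t2 z y d n := by
  classical
  haveI : Fact (Nat.Prime 3) := ⟨Nat.prime_three⟩
  have F := D.frame
  have hd3 := D.d_cube
  -- elements of `C(d)`
  let C := centralizer ({d} : Set G)
  have hrd : t2 ∈ C := mem_centralizer_singleton_iff.2 (D.t2_fix D.flag1.mem)
  let rC : ↥C := ⟨t2, hrd⟩
  let zC : ↥C := ⟨z, D.E_le_Cd D.z_E⟩
  let yC : ↥C := ⟨y, D.E_le_Cd D.side.y_mem⟩
  set rb := pr d rC with hrb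
  set yb := pr d yC with hyb
  have hr2 : rC * rC = 1 := Subtype.ext D.t2_sq
  have hrcomm : ∀ a : ↥C, (a : G) * t2 = t2 * a → pr d a * rb = rb * pr d a := fun a ha => by
    rw [hrb, ← map_mul, ← map_mul]; exact congrArg _ (Subtype.ext ha)
  have hrlift : ∀ a : ↥C, pr d a * rb = rb * pr d a → (a : G) * t2 = t2 * a := fun a ha =>
    comm_of_pr hd3 (a := rC) (b := a) (n := 2) (by norm_num) (by rw [pow_two]; exact D.t2_sq) ha
  -- coordinates
  obtain ⟨ci, φ, L⟩ := D.exists_loc_quot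
  have hrzb : rb ∈ centralizer ({D.zb} : Set (XX d)) := mem_centralizer_singleton_iff.2 (by
    show pr d rC * pr d zC = pr d zC * pr d rC
    rw [← map_mul, ← map_mul]
    exact congrArg _ (Subtype.ext (D.z_cent D.t2_cent)))
  obtain ⟨H, P, u, hHn, hHi, hCH, -, hP⟩ := exists_prod_any L
    (fun h => by subst h; exact D.small_real L) (t := rb) (by rw [hrb, ← map_mul, hr2, map_one]) hrzb (by
      rintro _ ⟨q, hq, rfl⟩
      obtain ⟨n, hn⟩ := mem_zpowers_iff.1 ((zpowers_eq_of_prime D.set.Z_card D.z_mem D.z_ne).ge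
        (F.t2_inv (q : G) hq))
      refine mem_zpowers_iff.2 ⟨n, ?_⟩
      show (pr d zC) ^ n = _
      rw [hrb, ← map_inv, ← map_mul, ← map_mul, ← map_mul, ← map_zpow]
      exact congrArg _ (Subtype.ext (by push_cast; exact hn)))
  haveI := hHn
  have hsqH : ∀ g : XX d, g * g ∈ H := fun g => by
    rcases (Nat.dvd_prime Nat.prime_two).1 hHi with h | h
    · rw [index_eq_one.1 h]; exact mem_top _
    · exact mul_self_mem_of_index_two h g
  -- equations between values of `P`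
  have hPeq : ∀ x x' : SL3 × SL3, P x = P x' → x' = x ∨ x' = (negOne, negOne) * x := fun x x' e => by
    have h1 : P (x' * x⁻¹) = 1 := by rw [map_mul, map_inv, e, mul_inv_cancel]
    rcases (hP.ker _).1 h1 with h | h
    · exact Or.inl (mul_inv_eq_one.1 h)
    · exact Or.inr (mul_inv_eq_iff_eq_mul.1 h)
  have hnegP : P (negOne, negOne) = 1 := (hP.ker _).2 (Or.inr rfl)
  have hPinj : ∀ x x' : SL3 × SL3, x.1 ^ 3 = 1 → x'.1 ^ 3 = 1 → P x = P x' → x = x' := fun x x' h h' e => by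
    rcases hPeq x x' e with e1 | e1
    · exact e1.symm
    · exfalso
      rw [e1, Prod.fst_mul] at h'
      rw [(show Commute negOne x.1 from sl_neg_comm x.1).mul_pow, h, mul_one, sl_neg.2.2.2] at h'
      exact sl_neg.2.2.1 h'
  have hPcomm : ∀ x x' : SL3 × SL3, P x * P x' = P x' * P x →
      (x.1 * x'.1 = x'.1 * x.1 ∧ x.2 * x'.2 = x'.2 * x.2) ∨
        (x.1 * x'.1 = negOne * (x'.1 * x.1) ∧ x.2 * x'.2 = negOne * (x'.2 * x.2)) := fun x x' e => by
    rw [← map_mul, ← map_mul] at e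
    rcases hPeq _ _ e.symm with e1 | e1
    · exact Or.inl ⟨congrArg Prod.fst e1, congrArg Prod.snd e1⟩
    · exact Or.inr ⟨congrArg Prod.fst e1, congrArg Prod.snd e1⟩
  -- elements of order three
  have hcube : ∀ g : XX d, g * rb = rb * g → g ^ 3 = 1 →
      ∃ x : SL3 × SL3, x.1 ^ 3 = 1 ∧ x.2 ^ 3 = 1 ∧ g = P x := by
    intro g hg h3
    have hgH : g ∈ H := by
      have e : g = g * g * (g * g) := by
        calc g = g ^ 3 * g := by rw [h3, one_mul]
          _ = _ := by simp [pow_succ, mul_assoc]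
      rw [e]; exact mul_mem (hsqH g) (hsqH g)
    obtain ⟨x, hx | hx⟩ := hP.all g hgH hg
    · refine ⟨x ^ 4, ?_, ?_, ?_⟩
      · rw [Prod.pow_fst, ← pow_mul]; exact (sl_eight x.1).2.2.1
      · rw [Prod.pow_snd, ← pow_mul]; exact (sl_eight x.2).2.2.1
      · rw [map_pow, ← hx, pow_succ, h3, one_mul]
    · exfalso
      refine hP.unot ?_
      have e1 : g * g = P (x * (x.2, x.1)) := by
        rw [hx, map_mul, ← hP.swap x]; group
      have e2 : g = (P (x * (x.2, x.1)))⁻¹ := by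
        rw [← e1]
        exact eq_inv_of_mul_eq_one_right (by rw [← pow_two, ← pow_succ, h3])
      refine ⟨x⁻¹ * (x * (x.2, x.1))⁻¹, ?_⟩
      rw [map_mul, map_inv, map_inv, ← e2, hx, inv_mul_cancel_left]
  -- the image of `z`
  have hzr : D.zb * rb = rb * D.zb := (mem_centralizer_singleton_iff.1 hrzb).symm
  have hzc3 : D.zb ^ 3 = 1 := L.order ▸ pow_orderOf_eq_one D.zb
  obtain ⟨⟨p0, a1⟩, hp03, ha13, hza⟩ := hcube D.zb hzr hzc3
  simp only at hp03 ha13
  have hp0 : p0 = 1 := by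
    have hc : ∀ p : SL3, p0 * p = p * p0 ∨ p0 * p = negOne * (p * p0) := fun p => by
      have := hPcomm (p0, a1) (p, 1) (by rw [← hza]; exact (hP.cent p).symm)
      exact this.imp And.left And.left
    rcases slq_cent_all p0 hc with h | h
    · exact h
    · exfalso; rw [h, sl_neg.2.2.2] at hp03; exact sl_neg.2.2.1 hp03
  subst hp0
  have hzne : D.zb ≠ 1 := fun e => by
    have := L.order
    rw [e, orderOf_one] at this
    omega
  have ha1 : a1 ≠ 1 := fun e => hzne (by rw [hza, e]; exact map_one P)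
  -- the centralizer of the image of `z`
  have hQ2elt : ∀ g : XX d, g * rb = rb * g → g * D.zb = D.zb * g → g ^ 8 = 1 →
      ∃ p : SL3, IsQ p ∧ g = P (p, 1) := by
    intro g hg hgz h8
    obtain ⟨x, hx | hx⟩ := hP.all g (hCH (mem_centralizer_singleton_iff.2 hgz)) hg
    · obtain ⟨x1, x2⟩ := x
      rw [hx, hza] at hgz
      have h2 : x2 * a1 = a1 * x2 := by
        rcases hPcomm _ _ hgz with ⟨-, h⟩ | ⟨h, -⟩
        · exact h
        · exfalso
          simp only [one_mul, mul_one] at h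
          exact sl_neg.2.2.1 (mul_eq_right.1 h.symm)
      rw [hx, ← map_pow] at h8
      rcases (hP.ker _).1 h8 with h | h
      swap
      · exact absurd (congrArg Prod.fst h) (sl_eight x1).1
      have hx1 := (sl_eight x1).2.1 (congrArg Prod.fst h)
      have hx2 := (sl_eight x2).2.1 (congrArg Prod.snd h)
      rcases slq_norm a1 ha13 ha1 x2 hx2 ⟨1, Or.inl (by rw [h2, mul_inv_cancel_right]; exact (pow_one a1).symm)⟩
        with e | e <;> subst e
      · exact ⟨x1, hx1, hx⟩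
      · refine ⟨negOne * x1, slq_mul _ _ sl_neg.2.1 hx1, ?_⟩
        rw [hx, ← one_mul (P (x1, negOne)), ← hnegP, ← map_mul, Prod.mk_mul_mk, sl_neg.1]
    · exfalso
      rw [hx, hza, mul_assoc] at hgz
      have e1 : u * P (1, a1) = P (a1, 1) * u := by
        rw [← hP.swap (1, a1), mul_assoc, hP.u2, mul_one]
      rw [e1, ← mul_assoc, ← mul_assoc, ← map_mul, ← map_mul] at hgz
      have e2 := hPeq _ _ (mul_right_cancel hgz)
      rcases e2 with e2 | e2 <;> have e3 := congrArg Prod.fst e2 <;>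
        simp only [Prod.fst_mul, one_mul] at e3
      · exact ha1 (left_eq_mul.1 e3)
      · refine sl_neg_mul_ne a1 ha13 ha1 ?_
        rw [← mul_assoc, sl_neg_comm, mul_assoc] at e3
        have e4 : negOne * a1 = 1 := left_eq_mul.1 e3
        calc a1 = negOne * negOne * a1 := by rw [sl_neg.1, one_mul]
          _ = negOne := by rw [mul_assoc, e4, mul_one]
  -- the involution and the swapping element
  obtain ⟨c, hcd, hct, hcy⟩ := D.exists_swap
  let cC : ↥C := ⟨c, mem_centralizer_singleton_iff.2 hcd⟩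
  set Ly := cj c⁻¹ L2 with hLy
  have hyt : y * t2 = t2 * y := D.y_t2.symm
  have hyr : yb * rb = rb * yb := hrcomm yC hyt
  have hyz : yb * D.zb = D.zb * yb := by
    show pr d yC * pr d zC = pr d zC * pr d yC
    rw [← map_mul, ← map_mul]
    exact congrArg _ (Subtype.ext (D.side.comm D.side.y_mem D.z_E))
  -- groups normalised by the image of `z`
  have hsigX : ∀ K : Subgroup (XX d), (Nat.card ↥K).Coprime 3 → (∀ g ∈ K, g * rb = rb * g) →
      D.zb ∈ normalizer (K : Set (XX d)) → ∀ g ∈ K, ∃ x : SL3 × SL3, IsQ x.1 ∧ IsQ x.2 ∧ g = P x := by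
    intro K hK hKr hn
    have hin : ∀ g ∈ K, g ∈ H → ∃ x : SL3 × SL3, IsQ x.1 ∧ IsQ x.2 ∧ g = P x := by
      intro g hgK hgH
      obtain ⟨x, hx | hx⟩ := hP.all g hgH (hKr g hgK)
      · have h1 := pow_card_eq_one' (x := (⟨g, hgK⟩ : ↥K))
        have h1' : g ^ Nat.card ↥K = 1 := congrArg Subtype.val h1
        have h12 : g ^ 12 = 1 := by
          rw [hx, ← map_pow, show x ^ 12 = 1 from Prod.ext (sl_eight x.1).2.2.1 (sl_eight x.2).2.2.1, map_one]
        have hd4 : orderOf g ∣ 4 := Nat.Coprime.dvd_of_dvd_mul_right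
          (Nat.Coprime.coprime_dvd_left (orderOf_dvd_of_pow_eq_one h1') hK)
          (show orderOf g ∣ 4 * 3 from orderOf_dvd_of_pow_eq_one h12)
        have h8 : g ^ 8 = 1 := orderOf_dvd_iff_pow_eq_one.1 (hd4.trans (by norm_num))
        rw [hx, ← map_pow] at h8
        rcases (hP.ker _).1 h8 with h | h
        · exact ⟨x, (sl_eight x.1).2.1 (congrArg Prod.fst h), (sl_eight x.2).2.1 (congrArg Prod.snd h), hx⟩
        · exact absurd (congrArg Prod.fst h) (sl_eight x.1).1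
      · exfalso
        set k := D.zb * g * D.zb⁻¹ * g⁻¹ with hk
        have hkK : k ∈ K := mul_mem ((mem_normalizer_iff.1 hn g).1 hgK) (inv_mem hgK)
        have hk' : k = P ((1, a1) * x * (a1⁻¹, 1) * x⁻¹) := by
          have e1 : u * P (1, a1⁻¹) * u = P (a1⁻¹, 1) := hP.swap (1, a1⁻¹)
          rw [map_mul, map_mul, map_mul, ← e1, hk, hza, hx, ← map_inv,
            show ((1, a1) : SL3 × SL3)⁻¹ = (1, a1⁻¹) from Prod.ext inv_one rfl, mul_inv_rev,
            inv_eq_of_mul_eq_one_right hP.u2, ← map_inv]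
          group
        set w := (1, a1) * x * (a1⁻¹, 1) * x⁻¹ with hw
        have hw2 : w.2 = a1 := by simp [hw]
        have hw3 : w ^ 3 = 1 := by
          refine Prod.ext ?_ ?_
          · rw [Prod.pow_fst, hw]
            simp only [Prod.fst_mul, one_mul, Prod.fst_inv]
            rw [conj_pow, inv_pow, ha13, inv_one, mul_one, mul_inv_cancel]
            rfl
          · rw [Prod.pow_snd, hw2, ha13]; rfl
        have h3 : k ^ 3 = 1 := by rw [hk', ← map_pow, hw3, map_one]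
        have h4 : k ^ Nat.card ↥K = 1 := congrArg Subtype.val (pow_card_eq_one' (x := (⟨k, hkK⟩ : ↥K)))
        have h5 := pow_gcd_eq_one.2 ⟨h4, h3⟩
        rw [hK.gcd_eq_one, pow_one, hk'] at h5
        rcases (hP.ker _).1 h5 with e | e
        · exact ha1 (hw2 ▸ congrArg Prod.snd e)
        · exact sl_neg_mul_ne a1 ha13 ha1 (hw2 ▸ congrArg Prod.snd e)
    intro g hgK
    refine hin g hgK ?_
    by_contra hgH
    set k := D.zb * g * D.zb⁻¹ * g⁻¹ with hk
    have hkK : k ∈ K := mul_mem ((mem_normalizer_iff.1 hn g).1 hgK) (inv_mem hgK)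
    have hzH : D.zb ∈ H := hCH (mem_centralizer_singleton_iff.2 rfl)
    have hkH : k ∈ H := by
      rw [hk, show D.zb * g * D.zb⁻¹ * g⁻¹ = D.zb * (g * D.zb⁻¹ * g⁻¹) by group]
      exact mul_mem hzH (hHn.conj_mem _ (inv_mem hzH) g)
    obtain ⟨⟨x1, x2⟩, hq1, hq2, hx⟩ := hin k hkK hkH
    simp only at hq1 hq2
    have e : g * D.zb * g⁻¹ = P (x1⁻¹, x2⁻¹ * a1) := by
      have e1 : g * D.zb * g⁻¹ = k⁻¹ * D.zb := by rw [hk]; group
      rw [e1, hx, hza, ← map_inv, ← map_mul]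
      exact congrArg P (Prod.ext (mul_one _) rfl)
    have h3 : (g * D.zb * g⁻¹) ^ 3 = 1 := by rw [conj_pow, hzc3, mul_one, mul_inv_cancel]
    rw [e, ← map_pow] at h3
    have hc : ∃ q0 : SL3, IsQ q0 ∧ P (x1⁻¹, x2⁻¹ * a1) = P ((1, q0) * (1, a1) * (1, q0)⁻¹) := by
      rcases (hP.ker _).1 h3 with h | h
      · obtain ⟨q0, hq0, e0⟩ := (slq_cube a1 x2⁻¹ ha13 ha1 (slq_inv _ hq2)).1 (congrArg Prod.snd h)
        refine ⟨q0, hq0, congrArg P (Prod.ext ?_ e0)⟩
        simpa using (slq_three x1⁻¹ (slq_inv _ hq1)).1 (congrArg Prod.fst h)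
      · obtain ⟨q0, hq0, e0⟩ := (slq_cube a1 x2⁻¹ ha13 ha1 (slq_inv _ hq2)).2 (congrArg Prod.snd h)
        refine ⟨q0, hq0, ?_⟩
        rw [← one_mul (P ((1, q0) * (1, a1) * (1, q0)⁻¹)), ← hnegP, ← map_mul]
        refine congrArg P (Prod.ext ?_ e0)
        simpa using (slq_three x1⁻¹ (slq_inv _ hq1)).2 (congrArg Prod.fst h)
    obtain ⟨q0, -, e0⟩ := hc
    rw [e0, map_mul, map_mul, map_inv, ← hza] at e
    refine hgH ?_
    have hcg : (P (1, q0))⁻¹ * g ∈ centralizer ({D.zb} : Set (XX d)) := mem_centralizer_singleton_iff.2 (by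
      calc (P (1, q0))⁻¹ * g * D.zb = (P (1, q0))⁻¹ * (g * D.zb * g⁻¹) * g := by group
        _ = _ := by rw [e]; group)
    have := mul_mem (hP.mem (1, q0)) (hCH hcg)
    rwa [mul_inv_cancel_left] at this
  -- the image of `L₂`
  have hLC : L2 ≤ C := fun l hl => mem_centralizer_singleton_iff.2 (D.L2_d hl)
  have hpow8 : ∀ {l : G} (hl : l ∈ C), l ^ 8 = 1 → (pr d ⟨l, hl⟩) ^ 8 = 1 := fun hl h => by
    rw [← map_pow, show (⟨_, hl⟩ : ↥C) ^ 8 = 1 from Subtype.ext h, map_one]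
  have hprinj : ∀ {a b : ↥C} {N : Subgroup G}, (∀ x ∈ N, x ^ 8 = 1) → (a : G) ∈ N → (b : G) ∈ N →
      pr d a = pr d b → a = b := by
    intro a b N hN ha hb e
    have h1 := pr_eq e
    obtain ⟨k, hk⟩ := mem_zpowers_iff.1 h1
    have h3 : ((a : G)⁻¹ * b) ^ 3 = 1 := by
      rw [← hk, ← zpow_natCast, ← zpow_mul, mul_comm, zpow_mul, zpow_natCast, hd3, one_zpow]
    have h4 := pow_gcd_eq_one.2 ⟨hN _ (mul_mem (inv_mem ha) hb), h3⟩
    rw [show Nat.gcd 8 3 = 1 from rfl, pow_one] at h4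
    exact Subtype.ext (inv_mul_eq_one.1 h4)
  have hL2im : ∀ l : ↥L2, ∃ p : {p : SL3 // IsQ p}, pr d ⟨l, hLC l.2⟩ = P (p.1, 1) := by
    intro l
    obtain ⟨p, hp, e⟩ := hQ2elt _ (hrcomm ⟨l, hLC l.2⟩ (D.L2_t2 l.2).symm) (by
      show pr d _ * pr d zC = pr d zC * pr d _
      rw [← map_mul, ← map_mul]
      exact congrArg _ (Subtype.ext (D.z_cent (F.L2_le l.2)))) (hpow8 _ (D.L2_pow l.2))
    exact ⟨⟨p, hp⟩, e⟩
  choose π2 hπ2 using hL2im
  have hQ8card : Nat.card {p : SL3 // IsQ p} = 8 := by rw [Nat.card_eq_fintype_card]; exact slq_card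
  have hπ2b : Function.Bijective π2 := by
    refine (Nat.bijective_iff_injective_and_card π2).2 ⟨fun a b e => Subtype.ext ?_, by rw [F.L2_card, hQ8card]⟩
    exact congrArg (fun w : ↥C => (w : G)) (hprinj (a := ⟨a, hLC a.2⟩) (b := ⟨b, hLC b.2⟩) (N := L2)
      (fun x hx => D.L2_pow hx) a.2 b.2 (by rw [hπ2 a, hπ2 b, e]))
  -- the image of `y`
  obtain ⟨⟨x0, y2⟩, hx03, hy23, hye⟩ := hcube yb hyr (by
    rw [hyb, ← map_pow, show yC ^ 3 = 1 from Subtype.ext D.side.y_cube, map_one])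
  simp only at hx03 hy23
  obtain ⟨j, hj⟩ : ∃ j : Fin 3, y2 = a1 ^ (j : ℕ) := by
    have := hPcomm _ _ (by rw [← hye, ← hza]; exact hyz : P (x0, y2) * P (1, a1) = P (1, a1) * P (x0, y2))
    exact sl_cent_three a1 ha13 ha1 y2 hy23 (this.imp And.right And.right)
  have hzpow : ∀ i : ℕ, P (1, a1 ^ i) = D.zb ^ i := fun i => by
    rw [hza, ← map_pow]; simp
  have hx0 : x0 ≠ 1 := by
    rintro rfl
    rw [hj, hzpow] at hye
    have e1 : pr d yC = pr d (zC ^ (j : ℕ)) := by rw [map_pow]; exact hye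
    have h1 := pr_eq e1.symm
    have hzQ : z ∈ Q := D.set.Z_le D.z_mem
    have h2 := mul_mem (pow_mem hzQ (j : ℕ)) ((zpowers_le.2 (F.pair.le1 D.flag1.mem)) h1)
    push_cast at h2
    rw [mul_inv_cancel_left] at h2
    exact D.side.y_notQ h2
  -- the image of `L(y)`
  have hLyC : Ly ≤ C := fun b hb => by
    rw [hLy, mem_cj, inv_inv] at hb
    have h1 : Commute (c * b * c⁻¹) d := D.L2_d hb
    have h2 := (((show Commute c d from hcd).inv_left.mul_left h1).mul_left (show Commute c d from hcd))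
    rw [show c⁻¹ * (c * b * c⁻¹) * c = b by group] at h2
    exact mem_centralizer_singleton_iff.2 h2.eq
  have hLy8 : ∀ b ∈ Ly, b ^ 8 = 1 := fun b hb => by
    rw [hLy, mem_cj, inv_inv] at hb
    have h1 := D.L2_pow hb
    rw [conj_pow, conj_eq_one_iff] at h1
    exact h1
  have hLyr : ∀ b ∈ Ly, b * t2 = t2 * b := fun b hb => by
    rw [hLy, mem_cj, inv_inv] at hb
    have h1 : Commute (c * b * c⁻¹) t2 := (D.L2_t2 hb).symm
    have h2 := (((show Commute c t2 from hct).inv_left.mul_left h1).mul_left (show Commute c t2 from hct))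
    rw [show c⁻¹ * (c * b * c⁻¹) * c = b by group] at h2
    exact h2.eq
  have hczC : c * z * c⁻¹ ∈ centralizer (Z : Set G) := by
    refine D.mem_CZ ?_
    obtain ⟨m, hm⟩ := mem_zpowers_iff.1 ((zpowers_eq_of_prime D.set.Z_card hcy
      (fun e => D.side.pt.ne_one (conj_eq_one_iff.1 e))).ge D.z_mem)
    have h1 : Commute (c * z * c⁻¹) (c * y * c⁻¹) :=
      (show Commute z y from D.side.comm D.z_E D.side.y_mem).map (MulAut.conj c).toMonoidHom
    have h2 := (h1.zpow_right m).eq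
    rwa [hm] at h2
  have hLyz : z ∈ normalizer (Ly : Set G) := by
    have hn : c * z * c⁻¹ ∈ normalizer (L2 : Set G) := D.norm_L2 (centralizer_le_normalizer _ hczC) (by
      have h1 : Commute c t2 := hct
      exact ((h1.mul_left (show Commute z t2 from (D.z_cent D.t2_cent).symm)).mul_left h1.inv_left).eq)
    refine Subgroup.mem_normalizer_fintype fun b hb => ?_
    rw [hLy, SetLike.mem_coe, mem_cj, inv_inv] at hb ⊢
    have h1 := (mem_normalizer_iff.1 hn _).1 hb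
    rwa [show c * z * c⁻¹ * (c * b * c⁻¹) * (c * z * c⁻¹)⁻¹ = c * (z * b * z⁻¹) * c⁻¹ by group] at h1
  set LyX := (Ly.subgroupOf C).map (pr d) with hLyX
  have hnormX : ∀ {K : Subgroup G}, K ≤ C → z ∈ normalizer (K : Set G) →
      D.zb ∈ normalizer (((K.subgroupOf C).map (pr d) : Subgroup (XX d)) : Set (XX d)) := by
    intro K _ hn
    refine Subgroup.mem_normalizer_fintype ?_
    rintro _ ⟨k, hk, rfl⟩
    refine ⟨zC * k * zC⁻¹, (mem_normalizer_iff.1 hn _).1 hk, ?_⟩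
    show _ = pr d zC * pr d k * (pr d zC)⁻¹
    rw [← map_inv, ← map_mul, ← map_mul]
  have hcopX : ∀ {K : Subgroup G}, K ≤ C → (Nat.card ↥K).Coprime 3 →
      (Nat.card ↥((K.subgroupOf C).map (pr d))).Coprime 3 := by
    intro K hK hc
    refine Nat.Coprime.coprime_dvd_left ?_ hc
    rw [← Nat.card_congr (subgroupOfEquivOfLe hK).toEquiv]
    exact Subgroup.card_map_dvd _ _
  have hLyim : ∀ b : ↥Ly, ∃ x : SL3 × SL3, IsQ x.1 ∧ IsQ x.2 ∧ pr d ⟨b, hLyC b.2⟩ = P x := fun b =>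
    hsigX LyX (hcopX hLyC (by rw [hLy, card_cj, F.L2_card]; norm_num))
      (by rintro _ ⟨k, hk, rfl⟩; exact hrcomm k (hLyr _ hk)) (hnormX hLyC hLyz) _ ⟨⟨b, hLyC b.2⟩, b.2, rfl⟩
  have hLyy : ∀ b ∈ Ly, b * y = y * b := fun b hb => by
    rw [hLy, mem_cj, inv_inv] at hb
    have h1 : Commute (c * b * c⁻¹) (c * y * c⁻¹) := (mem_centralizer_iff.1 (F.L2_le hb) _ hcy).symm
    have h2 := h1.map (MulAut.conj c⁻¹).toMonoidHom
    simp only [MulEquiv.coe_toMonoidHom, MulAut.conj_apply] at h2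
    rw [show c⁻¹ * (c * b * c⁻¹) * c⁻¹⁻¹ = b by group, show c⁻¹ * (c * y * c⁻¹) * c⁻¹⁻¹ = y by group] at h2
    exact h2.eq
  have hLycomm : ∀ b : ↥Ly, ∀ x : SL3 × SL3, pr d ⟨b, hLyC b.2⟩ = P x →
      (x.1 * x0 = x0 * x.1 ∧ x.2 * y2 = y2 * x.2) ∨
        (x.1 * x0 = negOne * (x0 * x.1) ∧ x.2 * y2 = negOne * (y2 * x.2)) := fun b x hx =>
    hPcomm x (x0, y2) (by
      rw [← hx, ← hye, hyb, ← map_mul, ← map_mul]
      exact congrArg _ (Subtype.ext (hLyy b b.2)))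
  have hnorm_of : ∀ {p a : SL3}, a ^ 3 = 1 → a ≠ 1 → IsQ p → (p * a = a * p ∨ p * a = negOne * (a * p)) →
      p = 1 ∨ p = negOne := by
    intro p a h3 h1 hp h
    refine slq_norm a h3 h1 p hp ⟨1, ?_⟩
    rcases h with h | h
    · exact Or.inl (by rw [h, mul_inv_cancel_right]; exact (pow_one a).symm)
    · exact Or.inr (by rw [h, mul_assoc, mul_inv_cancel_right]; exact congrArg (negOne * ·) (pow_one a).symm)
  have hj0 : y2 = 1 := by
    by_contra hy2
    -- both coordinates would be signs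
    have hpm : ∀ b : ↥Ly, ∃ s : Bool, pr d ⟨b, hLyC b.2⟩ = P (bif s then negOne else 1, 1) := by
      intro b
      obtain ⟨⟨x1, x2⟩, h1, h2, hx⟩ := hLyim b
      have hh := hLycomm b _ hx
      rcases hnorm_of hx03 hx0 h1 (hh.imp And.left And.left) with e1 | e1 <;>
        rcases hnorm_of hy23 hy2 h2 (hh.imp And.right And.right) with e2 | e2 <;> subst e1 <;> subst e2
      · exact ⟨false, hx⟩
      · refine ⟨true, ?_⟩
        rw [hx, ← one_mul (P ((1 : SL3), negOne)), ← hnegP, ← map_mul, Prod.mk_mul_mk, mul_one, sl_neg.1]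
        rfl
      · exact ⟨true, hx⟩
      · exact ⟨false, by rw [hx, hnegP]; exact (map_one P).symm⟩
    choose s hs using hpm
    have h8 : Nat.card ↥Ly ≤ Nat.card Bool := Nat.card_le_card_of_injective s fun a b e =>
      Subtype.ext (congrArg (fun w : ↥C => (w : G)) (hprinj (a := ⟨a, hLyC a.2⟩) (b := ⟨b, hLyC b.2⟩) (N := Ly) hLy8
        a.2 b.2 (by rw [hs a, hs b, e])))
    rw [hLy, card_cj, F.L2_card] at h8
    simp at h8
  subst hj0
  have hLyQ : ∀ b : ↥Ly, ∃ p : {p : SL3 // IsQ p}, pr d ⟨b, hLyC b.2⟩ = P (1, p.1) := by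
    intro b
    obtain ⟨⟨x1, x2⟩, h1, h2, hx⟩ := hLyim b
    rcases hnorm_of hx03 hx0 h1 ((hLycomm b _ hx).imp And.left And.left) with e | e <;> subst e
    · exact ⟨⟨x2, h2⟩, hx⟩
    · refine ⟨⟨negOne * x2, slq_mul _ _ sl_neg.2.1 h2⟩, ?_⟩
      rw [hx, ← one_mul (P (negOne, x2)), ← hnegP, ← map_mul]
      exact congrArg P (Prod.ext sl_neg.1 rfl)
  choose πy hπy using hLyQ
  have hπyb : Function.Bijective πy := by
    refine (Nat.bijective_iff_injective_and_card πy).2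
      ⟨fun a b e => Subtype.ext ?_, by rw [hLy, card_cj, F.L2_card, hQ8card]⟩
    exact congrArg (fun w : ↥C => (w : G)) (hprinj (a := ⟨a, hLyC a.2⟩) (b := ⟨b, hLyC b.2⟩) (N := Ly) hLy8 a.2 b.2
      (by rw [hπy a, hπy b, e]))
  -- commuting
  have hcomm : ∀ a ∈ L2, ∀ b ∈ Ly, a * b = b * a := fun a ha b hb =>
    comm_of_pr hd3 (a := ⟨b, hLyC hb⟩) (b := ⟨a, hLC ha⟩) (n := 8) (by norm_num) (hLy8 b hb) (by
      rw [hπ2 ⟨a, ha⟩, hπy ⟨b, hb⟩, ← map_mul, ← map_mul, Prod.mk_mul_mk, Prod.mk_mul_mk, one_mul, mul_one,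
        one_mul, mul_one])
  -- lifts of the two factors
  have hliftQ : ∀ p q : SL3, IsQ p → IsQ q → ∃ l ∈ L2, ∃ m ∈ Ly, ∃ h : l * m ∈ C, pr d ⟨l * m, h⟩ = P (p, q) := by
    intro p q hp hq
    obtain ⟨l, hl⟩ := hπ2b.2 ⟨p, hp⟩
    obtain ⟨m, hm⟩ := hπyb.2 ⟨q, hq⟩
    refine ⟨l, l.2, m, m.2, mul_mem (hLC l.2) (hLyC m.2), ?_⟩
    rw [show (⟨(l : G) * m, mul_mem (hLC l.2) (hLyC m.2)⟩ : ↥C) = ⟨l, hLC l.2⟩ * ⟨m, hLyC m.2⟩ from rfl,
      map_mul, hπ2, hπy, hl, hm, ← map_mul, Prod.mk_mul_mk, mul_one, one_mul]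
  have hsig : ∀ K : Subgroup G, (Nat.card ↥K).Coprime 3 → K ≤ C ⊓ centralizer ({t2} : Set G) →
      z ∈ normalizer (K : Set G) → K ≤ L2 ⊔ Ly := by
    intro K hK hle hn g hg
    obtain ⟨⟨p, q⟩, hp, hq, e⟩ := hsigX _ (hcopX (hle.trans inf_le_left) hK)
      (by rintro _ ⟨k, hk, rfl⟩; exact hrcomm k (mem_centralizer_singleton_iff.1 (hle hk).2))
      (hnormX (hle.trans inf_le_left) hn) _ ⟨⟨g, (hle hg).1⟩, hg, rfl⟩
    obtain ⟨l, hl, m, hm, hlm, e'⟩ := hliftQ p q hp hq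
    obtain ⟨k, hk⟩ := mem_zpowers_iff.1 (pr_eq (e'.trans e.symm))
    simp only at hk
    have hgc : g = l * m * d ^ k := by rw [hk]; group
    have hcl : Commute (l * m) (d ^ k) :=
      (show Commute (l * m) d from mem_centralizer_singleton_iff.1 hlm).zpow_right k
    have hgn : g ^ Nat.card ↥K = 1 := congrArg Subtype.val (pow_card_eq_one' (x := (⟨g, hg⟩ : ↥K)))
    have hlm8 : (l * m) ^ 8 = 1 := by
      rw [(show Commute l m from hcomm l hl m hm).mul_pow, D.L2_pow hl, hLy8 m hm, one_mul]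
    have h1 : (d ^ k) ^ (8 * Nat.card ↥K) = 1 := by
      have h2 : g ^ (8 * Nat.card ↥K) = 1 := by rw [mul_comm, pow_mul, hgn, one_pow]
      rwa [hgc, hcl.mul_pow, pow_mul (l * m), hlm8, one_pow, one_mul] at h2
    have h3 : (d ^ k) ^ 3 = 1 := by
      rw [← zpow_natCast, ← zpow_mul, mul_comm, zpow_mul, zpow_natCast, hd3, one_zpow]
    have h4 := pow_gcd_eq_one.2 ⟨h1, h3⟩
    rw [(Nat.Coprime.mul_left (by norm_num : Nat.Coprime 8 3) hK).gcd_eq_one, pow_one] at h4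
    rw [hgc, h4, mul_one]
    exact mul_mem_sup hl hm
  -- the image of `A`
  set A := E ⊓ centralizer ({t2} : Set G) with hA
  set T : Subgroup (XX d) := ((zpowers x0).prod (zpowers a1)).map P with hT
  have hybP : yb = P (x0, 1) := hye
  have hmemT : ∀ g, g ∈ T ↔ ∃ i k : ℕ, g = yb ^ i * D.zb ^ k := by
    intro g
    constructor
    · rintro ⟨⟨p, q⟩, ⟨hp, hq⟩, rfl⟩
      obtain ⟨i, rfl⟩ := (Submonoid.mem_powers_iff _ _).1 (mem_powers_iff_mem_zpowers.2 hp)
      obtain ⟨k, rfl⟩ := (Submonoid.mem_powers_iff _ _).1 (mem_powers_iff_mem_zpowers.2 hq)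
      refine ⟨i, k, ?_⟩
      rw [hybP, hza, ← map_pow, ← map_pow, ← map_mul]
      simp
    · rintro ⟨i, k, rfl⟩
      refine mul_mem (pow_mem ?_ i) (pow_mem ?_ k)
      · exact ⟨(x0, 1), ⟨mem_zpowers _, one_mem _⟩, hybP.symm⟩
      exact ⟨(1, a1), ⟨one_mem _, mem_zpowers _⟩, hza.symm⟩
  have hTA : ∀ a : ↥C, (a : G) * t2 = t2 * a → pr d a ∈ T → (a : G) ∈ A := by
    intro a ha hm
    obtain ⟨i, k, e⟩ := (hmemT _).1 hm
    refine mem_inf.2 ⟨?_, mem_centralizer_singleton_iff.2 ha⟩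
    have e2 : pr d a = pr d (yC ^ i * zC ^ k) := by rw [map_mul, map_pow, map_pow]; exact e
    have h1 := pr_eq e2.symm
    have h2 : y ^ i * z ^ k * ((y ^ i * z ^ k)⁻¹ * (a : G)) ∈ E :=
      mul_mem (mul_mem (pow_mem D.side.y_mem i) (pow_mem D.z_E k)) ((zpowers_le.2 D.d_E) (by push_cast at h1; exact h1))
    rwa [mul_inv_cancel_left] at h2
  have hAC : A ≤ C := inf_le_left.trans D.E_le_Cd
  have hAT : ∀ e : G, ∀ he : e ∈ A, pr d ⟨e, hAC he⟩ ∈ T := by
    intro e he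
    obtain ⟨heE, het⟩ := mem_inf.1 he
    set eC : ↥C := ⟨e, hAC he⟩
    obtain ⟨⟨p, q⟩, hp, hq, hpq⟩ := hcube (pr d eC) (hrcomm eC (mem_centralizer_singleton_iff.1 het))
      (by rw [← map_pow, show eC ^ 3 = 1 from Subtype.ext (D.side.exp heE), map_one])
    simp only at hp hq
    have h1 : ∀ g : ↥C, (g : G) ∈ E → pr d eC * pr d g = pr d g * pr d eC := fun g hg => by
      rw [← map_mul, ← map_mul]; exact congrArg _ (Subtype.ext (D.side.comm heE hg))
    obtain ⟨i, rfl⟩ := sl_cent_three x0 hx03 hx0 p hp ((hPcomm (p, q) (x0, 1) (by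
      rw [← hpq, ← hybP]; exact h1 yC D.side.y_mem)).imp And.left And.left)
    obtain ⟨k, rfl⟩ := sl_cent_three a1 ha13 ha1 q hq ((hPcomm (x0 ^ (i : ℕ), q) (1, a1) (by
      rw [← hpq, ← hza]; exact h1 zC D.z_E)).imp And.right And.right)
    exact ⟨_, ⟨pow_mem (mem_zpowers _) _, pow_mem (mem_zpowers _) _⟩, hpq.symm⟩
  have hArel : ∀ e, e ∈ A → ∃ i k : ℕ, ∃ h : e ∈ C, pr d ⟨e, h⟩ = yb ^ i * D.zb ^ k := fun e he => by
    obtain ⟨i, k, h⟩ := (hmemT _).1 (hAT e he)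
    exact ⟨i, k, hAC he, h⟩
  -- the Frattini argument
  have hfrat : ∀ g ∈ C ⊓ centralizer ({t2} : Set G),
      ∃ s ∈ L2 ⊔ Ly, s⁻¹ * g ∈ normalizer (A : Set G) := by
    intro g hg
    obtain ⟨hgC, hgt⟩ := mem_inf.1 hg
    set gC : ↥C := ⟨g, hgC⟩
    have hgr := hrcomm gC (mem_centralizer_singleton_iff.1 hgt)
    set gb := pr d gC with hgb
    have hconj : ∀ w : XX d, w * rb = rb * w → gb * w * gb⁻¹ * rb = rb * (gb * w * gb⁻¹) := fun w hw =>
      ((((show Commute gb rb from hgr)).mul_left (show Commute w rb from hw)).mul_left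
        (show Commute gb rb from hgr).inv_left).eq
    obtain ⟨⟨p1, q1⟩, hp1, hq1, e1⟩ := hcube (gb * yb * gb⁻¹) (hconj yb hyr) (by
      rw [conj_pow, hybP, ← map_pow, show ((x0, 1) : SL3 × SL3) ^ 3 = 1 from Prod.ext hx03 (one_pow 3), map_one,
        mul_one, mul_inv_cancel])
    obtain ⟨⟨p2, q2⟩, hp2, hq2, e2⟩ := hcube (gb * D.zb * gb⁻¹) (hconj _ hzr) (by
      rw [conj_pow, hzc3, mul_one, mul_inv_cancel])
    simp only at hp1 hq1 hp2 hq2
    have hc := hPcomm (p1, q1) (p2, q2) (by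
      rw [← e1, ← e2, show gb * yb * gb⁻¹ * (gb * D.zb * gb⁻¹) = gb * (yb * D.zb) * gb⁻¹ by group, hyz]
      group)
    obtain ⟨qa, hqa, ⟨i1, h11⟩, ⟨i2, h12⟩⟩ := slq_pair x0 hx03 hx0 p1 p2 hp1 hp2 (hc.imp And.left And.left)
    obtain ⟨qb, hqb, ⟨k1, h21⟩, ⟨k2, h22⟩⟩ := slq_pair a1 ha13 ha1 q1 q2 hq1 hq2 (hc.imp And.right And.right)
    obtain ⟨l, hl, m, hm, hlm, es⟩ := hliftQ qa qb hqa hqb
    refine ⟨l * m, mul_mem_sup hl hm, Subgroup.mem_normalizer_fintype fun e he => ?_⟩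
    obtain ⟨i, k, hec, hee⟩ := hArel e he
    set sC : ↥C := ⟨l * m, hlm⟩
    have hlmt : l * m * t2 = t2 * (l * m) :=
      ((show Commute l t2 from (D.L2_t2 hl).symm).mul_left (show Commute m t2 from hLyr m hm)).eq
    refine hTA (sC⁻¹ * gC * ⟨e, hec⟩ * (sC⁻¹ * gC)⁻¹) ?_ ?_
    · have h1 : Commute (l * m) t2 := hlmt
      have h2 : Commute g t2 := mem_centralizer_singleton_iff.1 hgt
      have h3 : Commute e t2 := mem_centralizer_singleton_iff.1 (mem_inf.1 he).2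
      exact (((h1.inv_left.mul_left h2).mul_left h3).mul_left (h1.inv_left.mul_left h2).inv_left).eq
    · rw [map_mul, map_mul, map_mul, map_inv, map_inv, map_mul, map_inv, hee, ← hgb, es, mul_inv_rev, inv_inv,
        show (P (qa, qb))⁻¹ * gb * (yb ^ i * D.zb ^ k) * (gb⁻¹ * P (qa, qb)) =
          (P (qa, qb))⁻¹ * ((gb * yb ^ i * gb⁻¹) * (gb * D.zb ^ k * gb⁻¹)) * P (qa, qb) by group,
        ← conj_pow, ← conj_pow, e1, e2, ← map_pow, ← map_pow, ← map_mul, ← map_inv, ← map_mul, ← map_mul]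
      refine ⟨_, ⟨?_, ?_⟩, rfl⟩
      · simp only [SetLike.mem_coe, Prod.fst_mul, Prod.fst_inv, Prod.pow_fst, h11, h12, conj_pow]
        rw [show qa⁻¹ * (qa * (x0 ^ (i1 : ℕ)) ^ i * qa⁻¹ * (qa * (x0 ^ (i2 : ℕ)) ^ k * qa⁻¹)) * qa =
          (x0 ^ (i1 : ℕ)) ^ i * (x0 ^ (i2 : ℕ)) ^ k by group]
        exact mul_mem (pow_mem (pow_mem (mem_zpowers _) _) _) (pow_mem (pow_mem (mem_zpowers _) _) _)
      · simp only [SetLike.mem_coe, Prod.snd_mul, Prod.snd_inv, Prod.pow_snd, h21, h22, conj_pow]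
        rw [show qb⁻¹ * (qb * (a1 ^ (k1 : ℕ)) ^ i * qb⁻¹ * (qb * (a1 ^ (k2 : ℕ)) ^ k * qb⁻¹)) * qb =
          (a1 ^ (k1 : ℕ)) ^ i * (a1 ^ (k2 : ℕ)) ^ k by group]
        exact mul_mem (pow_mem (pow_mem (mem_zpowers _) _) _) (pow_mem (pow_mem (mem_zpowers _) _) _)
  -- the element exchanging the points
  obtain ⟨s, hs, hsn⟩ := hfrat c ⟨mem_centralizer_singleton_iff.2 hcd, mem_centralizer_singleton_iff.2 hct⟩
  have hST : L2 ⊔ Ly ≤ C ⊓ centralizer ({t2} : Set G) := sup_le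
    (fun l hl => ⟨hLC hl, mem_centralizer_singleton_iff.2 (D.L2_t2 hl).symm⟩)
    (fun b hb => ⟨hLyC hb, mem_centralizer_singleton_iff.2 (hLyr b hb)⟩)
  have hsC := hST hs
  have hyA : y ∈ A := mem_inf.2 ⟨D.side.y_mem, mem_centralizer_singleton_iff.2 hyt⟩
  -- `s` centralises `Z`
  have hsz : s ∈ centralizer (Z : Set G) := by
    have hnY : L2 ≤ normalizer (Ly : Set G) := fun l hl => Subgroup.mem_normalizer_fintype fun b hb => by
      rw [SetLike.mem_coe, hcomm l hl b hb, mul_inv_cancel_right]; exact hb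
    have hs' := hs
    rw [← SetLike.mem_coe, sup_comm, Subgroup.coe_mul_of_right_le_normalizer_left Ly L2 hnY, Set.mem_mul] at hs'
    obtain ⟨m, hm, l, hl, rfl⟩ := hs'
    set sC : ↥C := ⟨m * l, hsC.1⟩
    have esC : pr d sC = P ((π2 ⟨l, hl⟩).1, (πy ⟨m, hm⟩).1) := by
      rw [show sC = ⟨m, hLyC hm⟩ * ⟨l, hLC hl⟩ from rfl, map_mul, hπ2 ⟨l, hl⟩, hπy ⟨m, hm⟩, ← map_mul,
        Prod.mk_mul_mk, one_mul, mul_one]
    have h1 := (mem_normalizer_iff.1 hsn y).1 hyA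
    obtain ⟨i, k, hic, hie⟩ := hArel _ h1
    obtain ⟨kk, hkk⟩ : ∃ kk : Fin 3, c * y * c⁻¹ = z ^ (kk : ℕ) := by
      rcases zp_cases D.set.Z_card D.z_mem D.z_ne hcy with e | e | e
      · exact ⟨0, by rw [e]; exact (pow_zero z).symm⟩
      · exact ⟨1, by rw [e]; exact (pow_one z).symm⟩
      · exact ⟨2, by rw [e]; exact (eq_inv_of_mul_eq_one_left (by
          rw [← pow_succ]; exact D.set.Z_cube D.z_mem)).symm⟩
    have hkk0 : (kk : ℕ) ≠ 0 := fun e => D.side.pt.ne_one (conj_eq_one_iff.1 (by rw [hkk, e, pow_zero]))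
    set b := a1 ^ (kk : ℕ) with hb
    set qy := (πy ⟨m, hm⟩).1 with hqy
    set ql := (π2 ⟨l, hl⟩).1 with hql
    have hb3 : b ^ 3 = 1 := by rw [hb, ← pow_mul, mul_comm, pow_mul, ha13, one_pow]
    have hb1 : b ≠ 1 := fun e => by
      have h := Nat.le_of_dvd (Nat.pos_of_ne_zero hkk0) (orderOf_eq_prime ha13 ha1 ▸ orderOf_dvd_of_pow_eq_one e)
      omega
    have e3 : P ((ql, qy)⁻¹ * (1, b) * (ql, qy)) = P (x0 ^ i, a1 ^ k) := by
      have e4 : (⟨_, hic⟩ : ↥C) = sC⁻¹ * zC ^ (kk : ℕ) * sC := Subtype.ext (by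
        show (m * l)⁻¹ * c * y * ((m * l)⁻¹ * c)⁻¹ = _
        push_cast
        rw [← hkk, show (sC : G) = m * l from rfl]
        group)
      rw [e4, map_mul, map_mul, map_inv, map_pow, esC] at hie
      rw [map_mul, map_mul, map_inv, hb, hzpow]
      refine (show _ = yb ^ i * D.zb ^ k from hie).trans ?_
      rw [hybP, ← hzpow, ← map_pow, ← map_mul]
      simp
    have h5 := hPinj _ _ ?_ ?_ e3
    rotate_left
    · simp
    · show (x0 ^ i) ^ 3 = 1
      rw [← pow_mul, mul_comm, pow_mul, hx03, one_pow]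
    have h6 := congrArg Prod.snd h5
    simp only [Prod.snd_mul, Prod.snd_inv] at h6
    have hq : qy⁻¹ = 1 ∨ qy⁻¹ = negOne := by
      refine slq_norm b hb3 hb1 _ (slq_inv _ (πy ⟨m, hm⟩).2) ?_
      have hc3 : (a1 ^ k) ^ 3 = 1 := by rw [← pow_mul, mul_comm, pow_mul, ha13, one_pow]
      obtain ⟨i', hi'⟩ := sl_cent_three b hb3 hb1 (a1 ^ k) hc3
        (Or.inl (by rw [hb]; exact ((Commute.refl a1).pow_pow k (kk : ℕ)).eq))
      exact ⟨i', Or.inl (by rw [inv_inv, h6, hi'])⟩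
    have hsc : pr d sC * D.zb = D.zb * pr d sC := by
      rw [esC, hza, ← map_mul, ← map_mul]
      refine congrArg P ?_
      have hqc : qy * a1 = a1 * qy := by
        rcases hq with h | h
        · rw [inv_eq_one.1 h, one_mul, mul_one]
        · have : qy = negOne := by
            rw [← inv_inv qy, h]; exact inv_eq_of_mul_eq_one_right sl_neg.1
          rw [this, sl_neg_comm]
      exact Prod.ext (by simp) hqc
    obtain ⟨a', ha', haC⟩ := D.cent_zb hsc
    have h7 := mul_mem haC ((zpowers_le.2 (D.set.Q_le (F.pair.le1 D.flag1.mem))) (pr_eq ha'))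
    rwa [mul_inv_cancel_left] at h7
  set n := s⁻¹ * c with hn
  have hnY : cj n⁻¹ L2 = Ly := by
    have hsN : s ∈ normalizer (L2 : Set G) :=
      D.norm_L2 (centralizer_le_normalizer _ hsz) (mem_centralizer_singleton_iff.1 hsC.2)
    ext b
    rw [hLy, mem_cj, mem_cj, inv_inv, inv_inv, hn,
      show s⁻¹ * c * b * (s⁻¹ * c)⁻¹ = s⁻¹ * (c * b * c⁻¹) * s⁻¹⁻¹ by group]
    exact (mem_normalizer_iff.1 (inv_mem hsN) _).symm
  refine ⟨n,
    { nd := ((show Commute s d from mem_centralizer_singleton_iff.1 hsC.1).inv_left.mul_left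
        (show Commute c d from hcd)).eq
      nt := ((show Commute s t2 from mem_centralizer_singleton_iff.1 hsC.2).inv_left.mul_left
        (show Commute c t2 from hct)).eq
      nA := hsn
      ny := ?_
      comm := hnY.symm ▸ hcomm
      sig := hnY.symm ▸ hsig
      frat := hnY.symm ▸ hfrat
      off := ?_ }⟩
  · have h8 := D.set.conj_Z (inv_mem hsz) hcy
    rw [show s⁻¹ * (c * y * c⁻¹) * s⁻¹⁻¹ = n * y * n⁻¹ by rw [hn]; group] at h8
    exact h8 ▸ hcy
  · intro w hw hwz hwy g hg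
    obtain ⟨hgw, hgC, hgt⟩ := hg
    obtain ⟨i, k, hwc, hwe⟩ := hArel w hw
    obtain ⟨kw, hkw⟩ := mem_zpowers_iff.1 (pr_eq (a := yC ^ i * zC ^ k) (b := ⟨w, hwc⟩)
      (by rw [map_mul, map_pow, map_pow]; exact hwe.symm))
    push_cast at hkw
    have hwv : w = y ^ i * z ^ k * d ^ kw := by rw [hkw, mul_inv_cancel_left]
    have hi3 : x0 ^ i ≠ 1 := by
      intro e
      have h0 := orderOf_eq_prime hx03 hx0 ▸ orderOf_dvd_of_pow_eq_one e
      obtain ⟨t, rfl⟩ := h0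
      refine hwz ?_
      rw [hwv, pow_mul, D.side.y_cube, one_pow, one_mul]
      exact mul_mem_sup (pow_mem (mem_zpowers z) k) (zpow_mem (mem_zpowers d) kw)
    have hk3 : a1 ^ k ≠ 1 := by
      intro e
      have h0 := orderOf_eq_prime ha13 ha1 ▸ orderOf_dvd_of_pow_eq_one e
      obtain ⟨t, rfl⟩ := h0
      refine hwy ?_
      rw [hwv, pow_mul z, D.set.Z_cube D.z_mem, one_pow, mul_one]
      exact mul_mem_sup (pow_mem (mem_zpowers y) i) (zpow_mem (mem_zpowers d) kw)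
    set gC : ↥C := ⟨g, hgC⟩
    have hgr := hrcomm gC (mem_centralizer_singleton_iff.1 hgt)
    refine Subgroup.mem_normalizer_fintype fun e he => ?_
    have hgt' : Commute g t2 := mem_centralizer_singleton_iff.1 hgt
    refine hTA (gC * ⟨e, hAC he⟩ * gC⁻¹) ((hgt'.mul_left (show Commute e t2 from
      mem_centralizer_singleton_iff.1 (mem_inf.1 he).2)).mul_left hgt'.inv_left).eq ?_
    set eC : ↥C := ⟨e, hAC he⟩
    set v := pr d (gC * eC * gC⁻¹) with hv
    have hvc : v * pr d ⟨w, hwc⟩ = pr d ⟨w, hwc⟩ * v := by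
      rw [hv, ← map_mul, ← map_mul]
      refine congrArg _ (Subtype.ext ?_)
      have h1 : Commute g w := mem_centralizer_singleton_iff.1 hgw
      have h2 : Commute e w := D.side.comm (mem_inf.1 he).1 (mem_inf.1 hw).1
      exact ((h1.mul_left h2).mul_left h1.inv_left).eq
    obtain ⟨⟨p, q⟩, hp, hq, hpq⟩ := hcube v
      (hrcomm _ ((hgt'.mul_left (show Commute e t2 from
        mem_centralizer_singleton_iff.1 (mem_inf.1 he).2)).mul_left hgt'.inv_left).eq)
      (by rw [hv, ← map_pow, show (gC * eC * gC⁻¹) ^ 3 = 1 from Subtype.ext (by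
        push_cast; rw [conj_pow, D.side.exp (mem_inf.1 he).1, mul_one, mul_inv_cancel]), map_one])
    simp only at hp hq
    rw [hpq, hwe, hybP, ← hzpow, ← map_pow, ← map_mul] at hvc
    have hwe' : ((x0, 1) : SL3 × SL3) ^ i * (1, a1 ^ k) = (x0 ^ i, a1 ^ k) := by simp
    rw [hwe'] at hvc
    have hcx := hPcomm _ _ hvc
    have h31 : (x0 ^ i) ^ 3 = 1 := by rw [← pow_mul, mul_comm, pow_mul, hx03, one_pow]
    have h32 : (a1 ^ k) ^ 3 = 1 := by rw [← pow_mul, mul_comm, pow_mul, ha13, one_pow]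
    obtain ⟨i', rfl⟩ := sl_cent_three _ h31 hi3 p hp (hcx.imp And.left And.left)
    obtain ⟨k', rfl⟩ := sl_cent_three _ h32 hk3 q hq (hcx.imp And.right And.right)
    rw [hpq]
    exact ⟨_, ⟨pow_mem (pow_mem (mem_zpowers _) _) _, pow_mem (pow_mem (mem_zpowers _) _) _⟩, rfl⟩

end Cfsg.Agent.UThreeLocal.Cand
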