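import Cfsg.Agent.Lib.UThreeLocal.Cand.AxisKill
import Cfsg.Agent.Lib.SelfNine.OctMain
import Cfsg.Agent.Lib.SelfNine.OctSym

/-!
# The centralizer of the first axis in `C(r)` normalises `A`

With all signed permutations induced the quotient by `⟨c, r⟩` would otherwise be the symmetric group of degree
six, which the centralizer of the involution `σ` excludes.
-/

set_option autoImplicit false
set_option linter.unusedSectionVars false
set_option linter.style.haveILetI false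
set_option linter.unusedVariables false
set_option maxRecDepth 100000
set_option synthInstance.maxSize 10000

namespace Cfsg.Agent.UThreeLocal.Cand

open Subgroup
open scoped commutatorElement
open Cfsg.Agent.NineSym
open Cfsg.Agent.SpThreeCent (Loc)

universe u

theorem sixInv_cases : ∀ s : Equiv.Perm (Fin 6), s * s = 1 → s ≠ 1 → ∃ g : Equiv.Perm (Fin 6),
    g * s = Equiv.swap 0 1 * g ∨ g * s = Equiv.swap 0 1 * Equiv.swap 2 3 * g ∨
    g * s = Equiv.swap 0 1 * Equiv.swap 2 3 * Equiv.swap 4 5 * g := by decide +kernel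

theorem sixTwo_none : ∀ x : Equiv.Perm (Fin 6), x * x * x = 1 →
    x * (Equiv.swap 0 1 * Equiv.swap 2 3) = Equiv.swap 0 1 * Equiv.swap 2 3 * x → x = 1 := by decide +kernel

/-- The witnesses. -/
def sixA : Fin 2 → Equiv.Perm (Fin 6) :=
  ![Equiv.swap 2 3 * Equiv.swap 3 4, Equiv.swap 0 2 * Equiv.swap 2 4 * (Equiv.swap 1 3 * Equiv.swap 3 5)]

/-- The witnesses. -/
def sixB : Fin 2 → Equiv.Perm (Fin 6) :=
  ![Equiv.swap 3 4 * Equiv.swap 4 5, Equiv.swap 0 3 * Equiv.swap 3 4 * (Equiv.swap 1 2 * Equiv.swap 2 5)]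

/-- The witnesses. -/
def sixS : Fin 2 → Equiv.Perm (Fin 6) :=
  ![Equiv.swap 0 1, Equiv.swap 0 1 * Equiv.swap 2 3 * Equiv.swap 4 5]

theorem sixWit : ∀ i : Fin 2, sixA i ^ 3 = 1 ∧ sixB i ^ 3 = 1 ∧ sixA i * sixS i = sixS i * sixA i ∧
    sixB i * sixS i = sixS i * sixB i ∧ sixA i * sixB i ≠ sixB i * sixA i := by decide +kernel

/-- An involution of `S₆` commuting with a three-element commutes with two that do not commute. -/
theorem six_noncomm {s x : Equiv.Perm (Fin 6)} (hs : s * s = 1) (hs1 : s ≠ 1) (hx : x ^ 3 = 1) (hx1 : x ≠ 1)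
    (hxs : x * s = s * x) : ∃ a b : Equiv.Perm (Fin 6), a ^ 3 = 1 ∧ b ^ 3 = 1 ∧ a * s = s * a ∧ b * s = s * b ∧
      a * b ≠ b * a := by
  obtain ⟨g, hg⟩ := sixInv_cases s hs hs1
  have key : ∀ i : Fin 2, g * s = sixS i * g → ∃ a b : Equiv.Perm (Fin 6),
      a ^ 3 = 1 ∧ b ^ 3 = 1 ∧ a * s = s * a ∧ b * s = s * b ∧ a * b ≠ b * a := by
    intro i hi
    obtain ⟨h1, h2, h3, h4, h5⟩ := sixWit i
    set f := (MulAut.conj g⁻¹).toMonoidHom with hf
    have hfi : Function.Injective f := (MulAut.conj g⁻¹).injective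
    have hsf : s = f (sixS i) := by
      show s = g⁻¹ * sixS i * g⁻¹⁻¹
      rw [inv_inv, mul_assoc, ← hi, inv_mul_cancel_left]
    refine ⟨f (sixA i), f (sixB i), by rw [← map_pow, h1, map_one], by rw [← map_pow, h2, map_one],
      by rw [hsf, ← map_mul, ← map_mul, h3], by rw [hsf, ← map_mul, ← map_mul, h4], fun e => h5 (hfi ?_)⟩
    rw [map_mul, map_mul]; exact e
  rcases hg with e | e | e
  · exact key 0 e
  · exfalso
    set f := (MulAut.conj g).toMonoidHom with hf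
    have hsf : f s = Equiv.swap 0 1 * Equiv.swap 2 3 := by
      show g * s * g⁻¹ = _
      rw [e, mul_inv_cancel_right]
    have h1 : f x * f x * f x = 1 := by rw [← map_mul, ← map_mul, ← pow_two, ← pow_succ, hx, map_one]
    have h2 := sixTwo_none _ h1 (by rw [← hsf, ← map_mul, ← map_mul, hxs])
    exact hx1 ((MulAut.conj g).injective (h2.trans (map_one _).symm))
  · exact key 1 e

theorem oct_words : ∀ w : Wt, Wok true true w → wact w (1, 0, 0) = (1, 0, 0) →
    ∃ (i : Fin 4) (j : Fin 2), (thrW * swW) ^ (i : ℕ) * thrW ^ (j : ℕ) = w := by decide +kernel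

theorem oct_words_fix : ∀ (i : Fin 4) (j : Fin 2),
    wact ((thrW * swW) ^ (i : ℕ) * thrW ^ (j : ℕ)) (1, 0, 0) = (1, 0, 0) := by decide +kernel

theorem oct_words_inj : ∀ (i i' : Fin 4) (j j' : Fin 2),
    (thrW * swW) ^ (i : ℕ) * thrW ^ (j : ℕ) = (thrW * swW) ^ (i' : ℕ) * thrW ^ (j' : ℕ) → i = i' ∧ j = j' := by
  decide +kernel

theorem plane_std : ∀ v : V3, ∃ i j : Fin 3,
    v.2 = ((i : ℕ) • ((0, 1, 0) : V3) + (j : ℕ) • ((0, 0, 1) : V3)).2 := by decide +kernel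

theorem oct_facts : (Wok true true thrW ∧ wact thrW (1, 0, 0) = (1, 0, 0) ∧ thrW * thrW = 1) ∧
    (Wok true true swW ∧ wact swW (1, 0, 0) = (1, 0, 0) ∧ swW * swW = 1) ∧
    (thrW * swW) ^ 4 = 1 ∧ thrW * (thrW * swW) ^ 9 = swW ∧
    (Wok true true sigW ∧ wact sigW (1, 0, 0) = (1, 0, 0) ∧ sigW * sigW = 1) := by decide +kernel

variable {G : Type u} [Group G] [Finite G] {Z Q Q1 Q2 L1 L2 E : Subgroup G} {t1 t2 z y d a2 n b : G} {ψ : V3 → G}
  (D : Dat Z Q Q1 Q2 L1 L2 E t1 t2 z y d a2) (U : Duo Z L2 E t2 z y d n)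
  (C : Crd Z Q1 (E ⊓ centralizer ({t2} : Set G)) y d b n ψ) {ci : Bool} {φ : Mn → NB t2 (Rd L2 b n)}
  (L : Loc (qv D U C (pv 0)) (qQ D U C) (qA D U C) ci true φ) (hact : ∀ w, Act D U C w ↔ Wok ci true w)
include L hact

/-- The symmetric group of degree six does not occur. -/
theorem axis_not_six (hci : ci = true) {P : Sylow 3 (QU t2 (ψ (1, 0, 0)))}
    (hP : ∀ x, x ∈ (P : Subgroup (QU t2 (ψ (1, 0, 0)))) ↔ ∃ v, pe D U C L hact v = x) (hti : SelfNine.NineTI P)
    (hn : ∀ g : ↥(WW t2 (ψ (1, 0, 0))), pu _ _ g ∈ normalizer ((P : Subgroup (QU t2 (ψ (1, 0, 0)))) : Set (QU t2 (ψ (1, 0, 0)))) ↔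
      (g : G) ∈ normalizer ((E ⊓ centralizer ({t2} : Set G) : Subgroup G) : Set G))
    (e : QU t2 (ψ (1, 0, 0)) ≃* Equiv.Perm (Fin 6)) : False := by
  obtain ⟨hok, hfix, hw2⟩ := oct_facts.2.2.2.2
  obtain ⟨σ, hσ2, hσt, hσE, hσ⟩ := exists_inv D U C L hact (hci ▸ hok) hw2
  have hσA : ∀ v, σ * ψ v * σ⁻¹ = ψ (wact sigW v) := fun v => by
    rw [← chi_left D U C, hσ, chi_left D U C]
  have hσW : σ ∈ WW t2 (ψ (1, 0, 0)) := mem_inf.2
    ⟨mem_centralizer_singleton_iff.2 (mul_inv_eq_iff_eq_mul.1 (by rw [hσA, hfix])),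
      mem_centralizer_singleton_iff.2 hσt⟩
  set σb := pu t2 (ψ (1, 0, 0)) ⟨σ, hσW⟩ with hσb
  have hacts : Acts D U C L hact σb sigW := fun v => by
    rw [hσb]; unfold pe
    rw [← map_inv, ← map_mul, ← map_mul]
    exact congrArg _ (Subtype.ext (hσA v))
  have hσb2 : σb * σb = 1 := by
    rw [hσb, ← map_mul, show (⟨σ, hσW⟩ : ↥(WW t2 (ψ (1, 0, 0)))) * ⟨σ, hσW⟩ = 1 from Subtype.ext hσ2, map_one]
  have hσb1 : σb ≠ 1 := fun h1 => by
    have := hacts (0, 1, 0)
    rw [h1, one_mul, inv_one, mul_one, pe_eq_iff] at this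
    exact (by decide +kernel : ((0, 1, 0) : V3).2 ≠ (wact sigW (0, 1, 0)).2) this
  set xb := pe D U C L hact (0, 0, 1) with hxb
  have hxb1 : xb ≠ 1 := fun h1 => by
    rw [hxb, ← pe_zero D U C L hact, pe_eq_iff] at h1
    exact (by decide +kernel : ((0, 0, 1) : V3).2 ≠ (0 : V3).2) h1
  have hxs : xb * σb = σb * xb := by
    have h1 := hacts (0, 0, 1)
    rw [show wact sigW (0, 0, 1) = (0, 0, 1) from by decide +kernel] at h1
    exact (mul_inv_eq_iff_eq_mul.1 h1).symm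
  obtain ⟨a, c, ha, hc, has, hcs, hne⟩ := six_noncomm (s := e σb) (x := e xb)
    (by rw [← map_mul, hσb2, map_one]) (fun h => hσb1 (e.injective (h.trans (map_one e).symm)))
    (by rw [← map_pow, hti.exp _ ((hP _).2 ⟨_, rfl⟩), map_one])
    (fun h => hxb1 (e.injective (h.trans (map_one e).symm)))
    (by rw [← map_mul, ← map_mul, hxs])
  have key : ∀ a : Equiv.Perm (Fin 6), a ^ 3 = 1 → a * e σb = e σb * a →
      e.symm a ∈ (P : Subgroup (QU t2 (ψ (1, 0, 0)))) := by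
    intro a ha has
    set ab := e.symm a with hab
    have hab3 : ab ^ 3 = 1 := by rw [hab, ← map_pow, ha, map_one]
    have habs : ab * σb = σb * ab := e.injective (by rw [map_mul, map_mul, hab, MulEquiv.apply_symm_apply, has])
    obtain ⟨⟨y0, hy0⟩, hy⟩ := QuotientGroup.mk'_surjective _ ab
    have hy' : pu t2 (ψ (1, 0, 0)) ⟨y0, hy0⟩ = ab := hy
    -- `y` commutes with `σ`
    obtain ⟨k, hk⟩ : ∃ k, k = σ⁻¹ * (y0 * σ * y0⁻¹) := ⟨_, rfl⟩
    have hkK : k ∈ KK t2 (ψ (1, 0, 0)) := by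
      rw [hk]
      have h1 : pu t2 (ψ (1, 0, 0)) ⟨σ, hσW⟩ =
          pu t2 (ψ (1, 0, 0)) (⟨y0, hy0⟩ * ⟨σ, hσW⟩ * ⟨y0, hy0⟩⁻¹) := by
        rw [map_mul, map_mul, map_inv, hy', ← hσb, habs, mul_inv_cancel_right]
      exact pu_eq h1
    have hky : y0 * k = k * y0 := KK_central hy0 hkK
    have hks : σ * k = k * σ := KK_central hσW hkK
    have hconj : y0 * σ * y0⁻¹ = σ * k := by rw [hk, mul_inv_cancel_left]
    have hk2 : k * k = 1 := by
      have h1 : y0 * σ * y0⁻¹ * (y0 * σ * y0⁻¹) = 1 := by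
        rw [show y0 * σ * y0⁻¹ * (y0 * σ * y0⁻¹) = y0 * (σ * σ) * y0⁻¹ by group, hσ2, mul_one, mul_inv_cancel]
      rw [hconj] at h1
      rwa [mul_assoc σ k, ← mul_assoc k σ k, ← hks, mul_assoc σ k k, ← mul_assoc, hσ2, one_mul] at h1
    have hy3 : y0 ^ 3 * σ * (y0 ^ 3)⁻¹ = σ := by
      have h1 : y0 ^ 3 ∈ KK t2 (ψ (1, 0, 0)) := by
        have h2 : pu t2 (ψ (1, 0, 0)) (⟨y0, hy0⟩ ^ 3) = 1 := by rw [map_pow, hy', hab3]
        exact pu_eq_one.1 h2
      rw [← KK_central hσW h1, mul_inv_cancel_right]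
    have hk3 : k * (k * k) = 1 := by
      have hc' : ∀ w, y0 * (w * k) * y0⁻¹ = y0 * w * y0⁻¹ * k := fun w => by
        rw [show y0 * (w * k) * y0⁻¹ = y0 * w * y0⁻¹ * (y0 * k * y0⁻¹) by group, hky, mul_inv_cancel_right]
      rw [show y0 ^ 3 * σ * (y0 ^ 3)⁻¹ = y0 * (y0 * (y0 * σ * y0⁻¹) * y0⁻¹) * y0⁻¹ by rw [pow_succ, pow_two]; group,
        hconj, hc', hconj, hc', hc', hconj, mul_assoc, mul_assoc] at hy3
      exact mul_eq_left.1 hy3
    have hk1 : k = 1 := by rwa [hk2, mul_one] at hk3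
    rw [hk1, mul_one] at hconj
    have hyt := mem_centralizer_singleton_iff.1 (mem_inf.1 hy0).2
    have hyE := axis_kill D U C L hact hci hσ hσ2 hσt (show y0 ∈ WW σ (ψ (1, 0, 0)) from mem_inf.2
      ⟨(mem_inf.1 hy0).1, mem_centralizer_singleton_iff.2 (mul_inv_eq_iff_eq_mul.1 hconj)⟩)
    refine SelfNine.mem_of_mem_normalizer ?_ hab3
    rw [← hy']
    exact (hn ⟨y0, hy0⟩).2 (norm_A_of_E D U C hyE hyt)
  refine hne ?_
  have := hti.comm _ (key a ha has) _ (key c hc hcs)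
  rw [← map_mul, ← map_mul] at this
  exact e.symm.injective this

/-- THEOREM: the centralizer of the first axis in `C(r)` normalises `A`. -/
theorem cent_axis :
    WW t2 (ψ (1, 0, 0)) ≤ normalizer ((E ⊓ centralizer ({t2} : Set G) : Subgroup G) : Set G) := by
  classical
  cases hci : ci with
  | false => exact axis_false D U C L hact hci
  | true =>
  obtain ⟨P, hP, hti, hn⟩ := exists_sylA D U C L hact
  obtain ⟨⟨a1, a2', a3⟩, ⟨b1, b2, b3⟩, hw4, hw9, -⟩ := oct_facts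
  obtain ⟨r, hr2, hr⟩ := exists_invol_acts D U C L hact hP hn hti (hci ▸ a1) a2' a3
  obtain ⟨c0, hc02, hc0⟩ := exists_invol_acts D U C L hact hP hn hti (hci ▸ b1) b2 b3
  set u := r * c0 with hu
  have hua : Acts D U C L hact u (thrW * swW) := acts_mul D U C L hact hr hc0
  have h12 : u ^ 12 = 1 := by
    rw [show 12 = 4 * 3 from rfl, pow_mul]
    exact hti.exp _ (cent_sylA D U C L hact hP hn (hw4 ▸ acts_pow D U C L hact hua 4))
  have hri : r⁻¹ = r := inv_eq_of_mul_eq_one_left hr2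
  have hru : r * u * r⁻¹ = u⁻¹ := by
    rw [hu, hri, mul_inv_rev, hri, inv_eq_of_mul_eq_one_left hc02, ← mul_assoc r r, hr2, one_mul]
  set c := r * u ^ 9 with hcdef
  have hrc : r * c = u ^ 9 := by rw [hcdef, ← mul_assoc, hr2, one_mul]
  have hc2 : c * c = 1 := by
    have h1 : r * u ^ 9 * r⁻¹ = (u ^ 9)⁻¹ := by rw [← conj_pow, hru, inv_pow]
    rw [hri] at h1
    rw [hcdef, ← mul_assoc, h1, inv_mul_cancel]
  have hc : Acts D U C L hact c swW := hw9 ▸ acts_mul D U C L hact hr (acts_pow D U C L hact hua 9)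
  have hfix' : ∀ {x : QU t2 (ψ (1, 0, 0))} {w : Wt}, x⁻¹ = x → Acts D U C L hact x w → ∀ v,
      x * pe D U C L hact v * x = pe D U C L hact (wact w v) := fun hi h v => by
    have := h v; rwa [hi] at this
  set N := normalizer ((P : Subgroup (QU t2 (ψ (1, 0, 0)))) : Set (QU t2 (ψ (1, 0, 0)))) with hN
  let word : Fin 4 × Fin 2 → QU t2 (ψ (1, 0, 0)) := fun q => (r * c) ^ (q.1 : ℕ) * r ^ (q.2 : ℕ)
  have hword : ∀ q, Acts D U C L hact (word q) ((thrW * swW) ^ (q.1 : ℕ) * thrW ^ (q.2 : ℕ)) := fun q =>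
    acts_mul D U C L hact (acts_pow D U C L hact (acts_mul D U C L hact hr hc) _) (acts_pow D U C L hact hr _)
  have hwordN : ∀ q, word q ∈ N := fun q => Subgroup.mem_normalizer_fintype fun x hx => by
    obtain ⟨v, rfl⟩ := (hP x).1 hx
    rw [SetLike.mem_coe, hword q v]
    exact (hP _).2 ⟨_, rfl⟩
  have hnor : ∀ g ∈ N, ∃ q, ∃ p ∈ (P : Subgroup (QU t2 (ψ (1, 0, 0)))), g = word q * p := fun g hg => by
    obtain ⟨w, hok, hfix, hw, -⟩ := norm_acts D U C L hact hn hg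
    obtain ⟨i, j, hij⟩ := oct_words w (hci ▸ hok) hfix
    refine ⟨(i, j), (word (i, j))⁻¹ * g, cent_sylA D U C L hact hP hn (fun v => ?_), by group⟩
    have h1 := hword (i, j) v
    rw [hij, ← hw] at h1
    rw [wact_one, show (word (i, j))⁻¹ * g * pe D U C L hact v * ((word (i, j))⁻¹ * g)⁻¹ =
      (word (i, j))⁻¹ * (g * pe D U C L hact v * g⁻¹) * word (i, j) by group, ← h1]
    group
  have D8 : SelfNine.OctData P (pe D U C L hact (0, 1, 0)) (pe D U C L hact (0, 0, 1)) r c :=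
    { ti := hti
      m1 := (hP _).2 ⟨_, rfl⟩
      m2 := (hP _).2 ⟨_, rfl⟩
      gen := fun q hq => by
        obtain ⟨v, rfl⟩ := (hP q).1 hq
        obtain ⟨i, j, e⟩ := plane_std v
        exact ⟨i, j, by rw [← pe_nsmul, ← pe_nsmul, ← pe_add]; exact pe_congr D U C L hact e⟩
      r2 := hr2
      c2 := hc2
      rc4 := by rw [hrc, ← pow_mul, show 9 * 4 = 12 * 3 from rfl, pow_mul, h12, one_pow]
      r1 := by rw [hfix' hri hr]; exact pe_congr D U C L hact (by decide +kernel)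
      r1' := by rw [hfix' hri hr, ← pe_neg]; exact pe_congr D U C L hact (by decide +kernel)
      c1 := by rw [hfix' (inv_eq_of_mul_eq_one_left hc2) hc]; exact pe_congr D U C L hact (by decide +kernel)
      nor := fun g hg => by
        obtain ⟨q, p, hp, e⟩ := hnor g hg
        exact ⟨q.1, q.2, p, hp, e⟩ }
  have h72 : Nat.card N = 72 := by
    let f : (Fin 4 × Fin 2) × (P : Subgroup (QU t2 (ψ (1, 0, 0)))) → N := fun q =>
      ⟨word q.1 * q.2, mul_mem (hwordN q.1) (le_normalizer q.2.2)⟩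
    have hbij : Function.Bijective f := by
      constructor
      · rintro ⟨q, p⟩ ⟨q', p'⟩ e
        have e' : word q * (p : QU t2 (ψ (1, 0, 0))) = word q' * p' := congrArg Subtype.val e
        have hact' : ∀ q (p : (P : Subgroup (QU t2 (ψ (1, 0, 0))))),
            Acts D U C L hact (word q * p) ((thrW * swW) ^ (q.1 : ℕ) * thrW ^ (q.2 : ℕ) * 1) := fun q p =>
          acts_mul D U C L hact (hword q) fun v => by
            rw [wact_one, hti.comm _ p.2 _ ((hP _).2 ⟨v, rfl⟩), mul_inv_cancel_right]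
        have h := acts_det D U C L hact (e' ▸ hact' q p) (hact' q' p') (by rw [mul_one]; exact oct_words_fix _ _)
          (by rw [mul_one]; exact oct_words_fix _ _)
        rw [mul_one, mul_one] at h
        obtain ⟨h1, h2⟩ := oct_words_inj _ _ _ _ h
        obtain rfl : q = q' := Prod.ext h1 h2
        exact Prod.ext rfl (Subtype.ext (mul_left_cancel e'))
      · intro g
        obtain ⟨q, p, hp, e⟩ := hnor g g.2
        exact ⟨(q, ⟨p, hp⟩), Subtype.ext e.symm⟩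
    rw [← Nat.card_eq_of_bijective f hbij, Nat.card_prod, Nat.card_prod, hti.card]
    simp
  rcases D8.main h72 with h | ⟨hord, lam, hl1, hl2, huniq⟩
  · intro g hg
    refine (hn ⟨g, hg⟩).1 ?_
    show _ ∈ N
    rw [Subgroup.eq_top_of_card_eq N (h72.trans h.symm)]
    exact mem_top _
  · exfalso
    obtain ⟨e⟩ := D8.sym6 h72 (le_antisymm (fun x hx => cent_sylA D U C L hact hP hn fun v => by
        rw [wact_one, ← mem_centralizer_iff.1 hx _ ((hP _).2 ⟨v, rfl⟩), mul_inv_cancel_right])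
      (fun x hx => mem_centralizer_iff.2 fun w hw => hti.comm w hw x hx)) hord lam hl1 hl2 huniq
    exact axis_not_six D U C L hact hci hP hti hn e

end Cfsg.Agent.UThreeLocal.Cand
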