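import Cfsg.Agent.Lib.UThreeLocal.Cand.Top

/-!
# The ten points of `E`

`N(A)` normalises `E`; the points of `E` off `A` are the six elements `x_i ± a₂`, and the centralizer of a
coordinate axis and a point of `E` normalises `E`.
-/

set_option autoImplicit false
set_option linter.unusedSectionVars false
set_option linter.style.haveILetI false
set_option linter.unusedVariables false
set_option linter.unusedSimpArgs false
set_option maxRecDepth 100000
set_option synthInstance.maxSize 10000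

namespace Cfsg.Agent.UThreeLocal.Cand

open Subgroup
open scoped commutatorElement
open Cfsg.Agent.NineSym
open Cfsg.Agent.PSpAmalgam (SL3 negOne)

universe u

/-- Exponent vectors on `E`. -/
abbrev V4 : Type := V3 × ZMod 3

/-- Exactly one coordinate is nonzero. -/
def axis (v : V3) : Prop :=
  (v.1 ≠ 0 ∧ v.2.1 = 0 ∧ v.2.2 = 0) ∨ (v.1 = 0 ∧ v.2.1 ≠ 0 ∧ v.2.2 = 0) ∨ (v.1 = 0 ∧ v.2.1 = 0 ∧ v.2.2 ≠ 0)

instance : DecidablePred axis := fun v => inferInstanceAs (Decidable (_ ∨ _ ∨ _))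

/-- The ten lines of points. -/
def ten (u : V4) : Prop := (u.2 = 0 ∧ full u.1) ∨ (u.2 ≠ 0 ∧ axis u.1)

instance : DecidablePred ten := fun u => inferInstanceAs (Decidable (_ ∨ _))

theorem v3_types : ∀ v : V3, v = 0 ∨ axis v ∨
    (∃ w : Wt, w.e = false ∧ (wact w v = (1, 1, 1) ∨ wact w v = -(1, 1, 1) ∨ wact w v = (0, 1, -1))) := by
  decide +kernel

theorem full_to_z : ∀ v : V3, full v → ∃ w : Wt, w.e = false ∧
    (wact w v = (1, 1, 1) ∨ wact w v = -(1, 1, 1)) ∧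
    -(wact w (1, 0, 0)).1 - (wact w (1, 0, 0)).2.1 - (wact w (1, 0, 0)).2.2 ≠ 0 := by decide +kernel

theorem axis_base : ∀ v : V3, axis v → ∃ w : Wt, w.e = false ∧ wact w v = (1, 0, 0) := by decide +kernel

theorem plane_sum : ∀ v : V3,
    v = (-v.1 + v.2.1 + v.2.2) • ((1, 1, 1) : V3) + (-v.1 - v.2.1 - v.2.2) • ((1, -1, -1) : V3) +
      (v.2.2 - v.2.1) • ((0, 1, -1) : V3) := by decide +kernel

theorem hyper_ten : ∀ k : ZMod 3, k ≠ 0 → ∀ v : V3, ten (v, k * v.1) → v ≠ 0 →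
    (v = (1, 0, 0) ∨ v = -(1, 0, 0)) := by decide +kernel

theorem hyper_full : ∀ k : ZMod 3, k ≠ 0 → ∀ v : V3, ¬ (k * v.1 = 0 ∧ full v) := by decide +kernel

theorem axis_facts : ∀ v : V3, axis v → v.1 = 0 →
    axis (0, v.2.2, v.2.1) ∧
    (∃ w : Wt, w.e = false ∧ wact w (0, 1, -1) = (1, 0, 0) + ((0, v.2.2, v.2.1) : V3)) ∧
    (∃ w : Wt, w.e = false ∧ wact w (0, 1, -1) = (1, 0, 0) - ((0, v.2.2, v.2.1) : V3)) := by decide +kernel

theorem axis_one : ∀ v : V3, axis v → v.1 ≠ 0 → v = (1, 0, 0) ∨ v = -(1, 0, 0) := by decide +kernel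

theorem plane_forced : ∀ (v : V3) (k a b : ZMod 3), axis v → v.1 = 0 → k ≠ 0 → (a ≠ 0 ∨ b ≠ 0) →
    (∀ i j : ZMod 3, ¬ ten (((0, a, b) : V3) + i • v + j • ((1, 0, 0) : V3), i * k)) →
    ((0, a, b) : V3) = (0, v.2.2, v.2.1) ∨ ((0, a, b) : V3) = -(0, v.2.2, v.2.1) := by decide +kernel

theorem comb_inj : ∀ (v : V3) (k : ZMod 3) (q q' : V3), axis v → v.1 = 0 → k ≠ 0 →
    q.1 • v + q.2.1 • ((1, 0, 0) : V3) + q.2.2 • ((0, v.2.2, v.2.1) : V3) =
      q'.1 • v + q'.2.1 • ((1, 0, 0) : V3) + q'.2.2 • ((0, v.2.2, v.2.1) : V3) →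
    q.1 * k = q'.1 * k → q = q' := by decide +kernel

theorem z3_mul : ∀ a c : ZMod 3, a ≠ 0 → c ≠ 0 → a * c ≠ 0 := by decide

theorem z3_facts : ∀ k : ZMod 3, k + k + k = 0 ∧ (k ≠ 0 → k * k = 1) ∧ (k + k = 0 → k = 0) := by decide

theorem slq_abel : ∀ a : SL3, a ^ 3 = 1 → a ≠ 1 → ∃ q, IsQ q ∧ a * (q * a * q⁻¹) ≠ q * a * q⁻¹ * a := by
  decide +kernel

variable {G : Type u} [Group G]

/-- The element of `E` with given exponents. -/
def chi (ψ : V3 → G) (a2 : G) (u : V4) : G := ψ u.1 * pw a2 u.2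

variable [Finite G] {Z Q Q1 Q2 L1 L2 E : Subgroup G} {t1 t2 z y d a2 n b : G} {ψ : V3 → G}

theorem Dat.exists_side_at (D : Dat Z Q Q1 Q2 L1 L2 E t1 t2 z y d a2) {p : G} (hp : p ∈ E) (hpt : IsPt Z p) :
    ∃ (g : G) (R R' M M' : Subgroup G) (s s' y' : G),
      Side (cj g Z) (cj g Q) R R' M M' E s s' y' ∧ p ∈ cj g Z := by
  have S := D.side
  by_cases hpZ : p ∈ Z
  · refine ⟨1, Q1, Q2, L1, L2, t1, t2, y, ?_, ?_⟩ <;> rw [cj_one]
    · rw [cj_one]; exact S
    · exact hpZ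
  obtain ⟨hpC, hE⟩ := S.frame.E_eq_of_pt S.pt S.y_cent S.y_not (S.E_eq ▸ hp) hpt hpZ
  obtain ⟨g, hpg, -, -, -, hzside, -, -⟩ := S.frame.pt_side hpt hpC hpZ
  obtain ⟨z, hz, hz1⟩ := S.frame.set.exists_z
  obtain ⟨hzC, hzZ', -, hzpt⟩ := hzside z hz hz1
  have hW := S.frame.other_side hpt hpC hpZ hz hz1 hpg
  have hsmall : Frame.Small (cj g Z) := by
    intro P hP hPC
    have := S.small (cj g⁻¹ P) (hP.of_equiv (P.equivMapOfInjective _ (MulAut.conj g⁻¹).injective)) (by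
      intro x hx
      rw [mem_cj, inv_inv] at hx
      have h1 := hPC hx
      rwa [cj_centralizer, conj_mem_cj] at h1)
    rwa [card_cj] at this
  refine ⟨g, cj g Q1, cj g Q2, cj g L1, cj g L2, g * t1 * g⁻¹, g * t2 * g⁻¹, z,
    ⟨S.frame.conj g, hsmall, hzpt, hzC, hzZ', ?_⟩, hpg⟩
  rw [zpowers_eq_of_prime S.frame.set.Z_card hz hz1, ← hW, hE, S.E_eq]

/-- A point with a conjugate of `d` in its radical does not have `N(E)` containing their common
centralizer. -/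
theorem Dat.not_cent_flag (D : Dat Z Q Q1 Q2 L1 L2 E t1 t2 z y d a2) {q h g : G} (hq : q ∈ E) (hqpt : IsPt Z q)
    (hh : h ∈ normalizer (E : Set G)) (hqg : q ∈ cj g Z) (hdg : h * d * h⁻¹ ∈ cj g Q) :
    ¬ centralizer ({q} : Set G) ⊓ centralizer ({h * d * h⁻¹} : Set G) ≤ normalizer (E : Set G) := by
  intro hle
  classical
  have F := D.frame
  have hq' : h⁻¹ * q * h ∈ E := by
    have := (mem_normalizer_iff.1 (inv_mem hh) q).1 hq
    rwa [inv_inv] at this
  have hqpt' : IsPt Z (h⁻¹ * q * h) := by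
    have := hqpt.conj h⁻¹
    rwa [inv_inv] at this
  obtain ⟨c, hcd, hcz⟩ := D.pt_conj (g := h⁻¹ * g) hq' hqpt'
    (by rw [mem_cj] at hqg ⊢; convert hqg using 1; group)
    (by rw [mem_cj] at hdg ⊢; convert hdg using 1; group)
  set E' := cj c E with hE'
  have hcz1 : c * (h⁻¹ * q * h) * c⁻¹ ≠ 1 := fun e => hqpt'.ne_one (conj_eq_one_iff.1 e)
  -- `E'` lies in `C(Z) ∩ C(d)` and is normalised by it
  have hE'le : E' ≤ centralizer (Z : Set G) ⊓ centralizer ({d} : Set G) := by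
    rintro _ ⟨e, he, rfl⟩
    show c * e * c⁻¹ ∈ _
    refine mem_inf.2 ⟨mem_centralizer_iff.2 fun w hw => ?_, mem_centralizer_singleton_iff.2 ?_⟩
    · obtain ⟨m, rfl⟩ := mem_zpowers_iff.1 ((zpowers_eq_of_prime D.set.Z_card hcz hcz1).ge hw)
      exact (((show Commute (h⁻¹ * q * h) e from D.side.comm hq' he).map (MulAut.conj c).toMonoidHom).zpow_left m).eq
    · have h1 : Commute c d := hcd
      exact ((h1.mul_left (show Commute e d from D.side.comm he D.d_E)).mul_left h1.inv_left).eq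
  have hnorm : centralizer (Z : Set G) ⊓ centralizer ({d} : Set G) ≤ normalizer (E' : Set G) := by
    intro x hx
    obtain ⟨hxZ, hxd⟩ := mem_inf.1 hx
    set x1 := h * (c⁻¹ * x * c) * h⁻¹ with hx1
    have hx1n : x1 ∈ normalizer (E : Set G) := hle (mem_inf.2
      ⟨mem_centralizer_singleton_iff.2 (by
        have h1 : Commute x (c * (h⁻¹ * q * h) * c⁻¹) := (mem_centralizer_iff.1 hxZ _ hcz).symm
        have h2 := h1.map (MulAut.conj (h * c⁻¹)).toMonoidHom
        simp only [MulEquiv.coe_toMonoidHom, MulAut.conj_apply] at h2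
        rw [show h * c⁻¹ * x * (h * c⁻¹)⁻¹ = x1 by rw [hx1]; group,
          show h * c⁻¹ * (c * (h⁻¹ * q * h) * c⁻¹) * (h * c⁻¹)⁻¹ = q by group] at h2
        exact h2.eq),
        mem_centralizer_singleton_iff.2 (by
          have h1 : Commute c d := hcd
          have h2 : Commute (c⁻¹ * x * c) d :=
            (h1.inv_left.mul_left (mem_centralizer_singleton_iff.1 hxd)).mul_left h1
          exact (h2.map (MulAut.conj h).toMonoidHom).eq)⟩)
    have h3 : c⁻¹ * x * c ∈ normalizer (E : Set G) := by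
      have := mul_mem (mul_mem (inv_mem hh) hx1n) hh
      rwa [show h⁻¹ * x1 * h = c⁻¹ * x * c by rw [hx1]; group] at this
    rw [hE', cj_normalizer, mem_cj]
    exact h3
  -- its image in `SL₂(3)` is trivial
  set K := centralizer (Z : Set G) ⊓ centralizer ({d} : Set G) with hK
  have hKN : K ≤ normalizer (Q2 : Set G) := fun x hx =>
    D.norm_Q2_of_d (mem_inf.1 hx).1 (mem_centralizer_singleton_iff.1 (mem_inf.1 hx).2)
  obtain ⟨π, hπ⟩ := exists_sl_action F D.z_mem D.z_ne (K := K) inf_le_left hKN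
  have hLK : L2 ≤ K := fun l hl => mem_inf.2 ⟨F.L2_le hl, mem_centralizer_singleton_iff.2 (D.L2_d hl)⟩
  obtain ⟨π2, hπ2⟩ : ∃ π2 : ↥L2 → {p : SL3 // IsQ p}, Function.Surjective π2 ∧
      ∀ l : ↥L2, (π2 l).1 = π ⟨l, hLK l.2⟩ := by
    refine ⟨fun l => ⟨π ⟨l, hLK l.2⟩, (sl_eight _).2.1 (by
      rw [← map_pow, show (⟨(l : G), hLK l.2⟩ : ↥K) ^ 8 = 1 from Subtype.ext (D.L2_pow l.2), map_one])⟩, ?_,
      fun l => rfl⟩
    refine Function.Bijective.surjective ((Nat.bijective_iff_injective_and_card _).2 ⟨fun a a' e => ?_, by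
      rw [F.L2_card, Nat.card_eq_fintype_card, slq_card]⟩)
    have e' : π ⟨a, hLK a.2⟩ = π ⟨a', hLK a'.2⟩ := congrArg Subtype.val e
    have h1 : π ⟨(a : G) * (a' : G)⁻¹, mul_mem (hLK a.2) (inv_mem (hLK a'.2))⟩ = 1 := by
      rw [show (⟨(a : G) * (a' : G)⁻¹, _⟩ : ↥K) = ⟨a, hLK a.2⟩ * ⟨a', hLK a'.2⟩⁻¹ from rfl, map_mul, map_inv,
        e', mul_inv_cancel]
    exact Subtype.ext (mul_inv_eq_one.1 (D.L2_triv (mul_mem a.2 (inv_mem a'.2)) ((hπ _).1 h1)))
  have hsub : E' ≤ Fx Q d := by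
    intro e he
    have heK := hE'le he
    have h1 : π ⟨e, heK⟩ = 1 := by
      by_contra hne
      have h3 : π ⟨e, heK⟩ ^ 3 = 1 := by
        rw [← map_pow, show (⟨e, heK⟩ : ↥K) ^ 3 = 1 from Subtype.ext (by
          obtain ⟨e0, he0, rfl⟩ := he
          show (c * e0 * c⁻¹) ^ 3 = 1
          rw [conj_pow, D.side.exp he0, mul_one, mul_inv_cancel]), map_one]
      obtain ⟨p, hp, hne'⟩ := slq_abel _ h3 hne
      obtain ⟨l, hl⟩ := hπ2.1 ⟨p, hp⟩
      have hlp : π ⟨l, hLK l.2⟩ = p := by rw [← hπ2.2, hl]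
      refine hne' ?_
      rw [← hlp, ← map_inv, ← map_mul, ← map_mul, ← map_mul, ← map_mul]
      refine congrArg π (Subtype.ext ?_)
      have hle' : (l : G) * e * (l : G)⁻¹ ∈ E' := (mem_normalizer_iff.1 (hnorm (hLK l.2)) e).1 he
      obtain ⟨e0, he0, e0eq⟩ := he
      obtain ⟨e1, he1, e1eq⟩ := hle'
      show e * ((l : G) * e * (l : G)⁻¹) = (l : G) * e * (l : G)⁻¹ * e
      rw [← e1eq, ← e0eq, ← map_mul, ← map_mul, D.side.comm he0 he1]
    obtain ⟨l, hl, v, hv, i, hev⟩ := D.cent_d (mem_inf.1 heK).1 (mem_centralizer_singleton_iff.1 (mem_inf.1 heK).2)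
    have hvK : v ∈ K := mem_inf.2 ⟨D.set.Q_le hv.1, hv.2⟩
    have hyK : y ∈ K := mem_inf.2
      ⟨D.side.y_cent, mem_centralizer_singleton_iff.2 (D.side.comm D.side.y_mem D.d_E)⟩
    rw [show (⟨e, heK⟩ : ↥K) = ⟨l, hLK hl⟩ * (⟨v, hvK⟩ * ⟨y, hyK⟩ ^ (i : ℕ)) from Subtype.ext hev, map_mul,
      map_mul, map_pow, (hπ ⟨v, hvK⟩).2 (F.triv_Q hv.1 F.pair.le2), one_mul] at h1
    have hl8 : π ⟨l, hLK hl⟩ ^ 8 = 1 := by
      rw [← map_pow, show (⟨l, hLK hl⟩ : ↥K) ^ 8 = 1 from Subtype.ext (D.L2_pow hl), map_one]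
    have hy3 : π ⟨y, hyK⟩ ^ 3 = 1 := by
      rw [← map_pow, show (⟨y, hyK⟩ : ↥K) ^ 3 = 1 from Subtype.ext D.side.y_cube, map_one]
    have hl1 : π ⟨l, hLK hl⟩ = 1 := by
      have h4 : π ⟨l, hLK hl⟩ ^ 3 = 1 := by
        rw [eq_inv_of_mul_eq_one_left h1, inv_pow, ← pow_mul, mul_comm, pow_mul, hy3, one_pow, inv_one]
      have := pow_gcd_eq_one.2 ⟨hl8, h4⟩
      rwa [show Nat.gcd 8 3 = 1 from rfl, pow_one] at this
    rw [hl1, one_mul] at h1
    have hi : (i : ℕ) = 0 := by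
      rcases (by omega : (i : ℕ) = 0 ∨ (i : ℕ) = 1 ∨ (i : ℕ) = 2) with h0 | h0 | h0
      · exact h0
      · rw [h0, pow_one] at h1; exact absurd ((hπ _).1 h1) D.side.nontriv.2
      · rw [h0] at h1
        refine absurd ((hπ ⟨y, hyK⟩).1 ?_) D.side.nontriv.2
        calc π ⟨y, hyK⟩ = π ⟨y, hyK⟩ * π ⟨y, hyK⟩ ^ 2 := by rw [h1, mul_one]
          _ = 1 := by rw [← pow_succ', hy3]
    rw [hev, D.L2_triv hl ((hπ ⟨l, hLK hl⟩).1 hl1), one_mul, hi, pow_zero, mul_one]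
    exact hv
  have heq : E' = Fx Q d := Subgroup.eq_of_le_of_card_ge hsub (by rw [D.card_Fxd, hE', card_cj, D.side.card_E])
  obtain ⟨v, hv, hne⟩ := F.pair.symm.exists_noncomm D.set D.flag2.mem D.flag2.notZ
  refine hne ?_
  obtain ⟨e0, he0, e0eq⟩ := heq.ge (D.Q2_le_Fxd D.flag2.mem)
  obtain ⟨e1, he1, e1eq⟩ := heq.ge (D.Q2_le_Fxd hv)
  rw [← e1eq, ← e0eq, ← map_mul, ← map_mul, D.side.comm he0 he1]

variable (D : Dat Z Q Q1 Q2 L1 L2 E t1 t2 z y d a2) (U : Duo Z L2 E t2 z y d n)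
  (C : Crd Z Q1 (E ⊓ centralizer ({t2} : Set G)) y d b n ψ)
include D U C

theorem a2_E : a2 ∈ E := D.side.W_le D.a2_W

theorem t2_norm_E : t2 ∈ normalizer (E : Set G) :=
  D.side.norm_of_notQ D.side.y_mem D.side.y_notQ D.t2_cent D.y_t2

/-- Elements of exponent three centralising `A` lie in `E`. -/
theorem cent_A {g : G} (hg : ∀ v, g * ψ v = ψ v * g) (h3 : g ^ 3 = 1) : g ∈ E := by
  have F := D.frame
  have hmem : ∀ a ∈ E ⊓ centralizer ({t2} : Set G), g * a = a * g := fun a ha => by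
    obtain ⟨v, rfl⟩ := (C.mem a).1 ha; exact hg v
  have hgC : g ∈ centralizer (Z : Set G) := D.mem_CZ (hmem z (zd_A D U C).1)
  have hgy : g * y = y * g := by rw [← C.p1]; exact hg _
  obtain ⟨l, hl, q, hq, i, e⟩ := D.cent_d hgC (hmem d (zd_A D U C).2)
  set K := centralizer (Z : Set G) ⊓ centralizer ({d} : Set G) with hK
  have hKN : K ≤ normalizer (Q2 : Set G) := fun x hx =>
    D.norm_Q2_of_d (mem_inf.1 hx).1 (mem_centralizer_singleton_iff.1 (mem_inf.1 hx).2)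
  obtain ⟨π, hπ⟩ := exists_sl_action F D.z_mem D.z_ne (K := K) inf_le_left hKN
  have hlK : l ∈ K := mem_inf.2 ⟨F.L2_le hl, mem_centralizer_singleton_iff.2 (D.L2_d hl)⟩
  have hqK : q ∈ K := mem_inf.2 ⟨D.set.Q_le hq.1, hq.2⟩
  have hyK : y ∈ K := mem_inf.2 ⟨D.side.y_cent, mem_centralizer_singleton_iff.2 (D.side.comm D.side.y_mem D.d_E)⟩
  have hlq : Commute (l * q) y := by
    have h1 : Commute (g * (y ^ (i : ℕ))⁻¹) y :=
      (show Commute g y from hgy).mul_left ((Commute.refl y).pow_left _).inv_left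
    rwa [e, show l * (q * y ^ (i : ℕ)) * (y ^ (i : ℕ))⁻¹ = l * q by group] at h1
  have hc : π ⟨l, hlK⟩ * π ⟨y, hyK⟩ = π ⟨y, hyK⟩ * π ⟨l, hlK⟩ := by
    have h1 : π (⟨l, hlK⟩ * ⟨q, hqK⟩) = π ⟨l, hlK⟩ := by
      rw [map_mul, (hπ ⟨q, hqK⟩).2 (F.triv_Q hq.1 F.pair.le2), mul_one]
    rw [← h1, ← map_mul, ← map_mul]
    exact congrArg π (Subtype.ext hlq.eq)
  have hy3 : π ⟨y, hyK⟩ ^ 3 = 1 := by
    rw [← map_pow, show (⟨y, hyK⟩ : ↥K) ^ 3 = 1 from Subtype.ext D.side.y_cube, map_one]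
  have hy1 : π ⟨y, hyK⟩ ≠ 1 := fun e' => D.side.nontriv.2 ((hπ _).1 e')
  have hlQ : IsQ (π ⟨l, hlK⟩) := (sl_eight _).2.1 (by
    rw [← map_pow, show (⟨l, hlK⟩ : ↥K) ^ 8 = 1 from Subtype.ext (D.L2_pow hl), map_one])
  have hll : l * l = 1 := by
    refine D.L2_triv (mul_mem hl hl) ((hπ (⟨l, hlK⟩ * ⟨l, hlK⟩)).1 ?_)
    rw [map_mul]
    rcases slq_norm _ hy3 hy1 _ hlQ ⟨1, Or.inl (by rw [hc, mul_inv_cancel_right]; exact (pow_one _).symm)⟩
      with e' | e' <;> rw [e']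
    · exact one_mul 1
    · exact sl_neg.1
  have hlt : l = 1 ∨ l = t2 := D.L2_invol hl hll
  have hly : Commute l y := by
    rcases hlt with e' | e' <;> rw [e']
    · exact Commute.one_left y
    · exact D.y_t2
  have hqy : Commute q y := by
    have := hly.inv_left.mul_left hlq
    rwa [inv_mul_cancel_left] at this
  have hqE : q * y ^ (i : ℕ) ∈ E :=
    mul_mem (D.side.W_le (mem_inf.2 ⟨hq.1, mem_centralizer_singleton_iff.2 hqy.eq⟩)) (pow_mem D.side.y_mem _)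
  rcases hlt with e' | e'
  · rw [e, e', one_mul]; exact hqE
  · exfalso
    rw [e'] at e
    set ee := q * y ^ (i : ℕ) with hee
    have hf : t2 * ee * t2 ∈ E := by
      have := (mem_normalizer_iff.1 (t2_norm_E D U C) ee).1 hqE
      rwa [inv_eq_of_mul_eq_one_left D.t2_sq] at this
    rw [e, pow_succ, pow_two, show t2 * ee * (t2 * ee) * (t2 * ee) = (t2 * ee * t2) * ee * (t2 * ee) by group] at h3
    have hte : t2 * ee ∈ E := by
      rw [eq_inv_of_mul_eq_one_right h3]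
      exact inv_mem (mul_mem hf hqE)
    have ht : t2 ∈ E := by
      rw [show t2 = t2 * ee * ee⁻¹ by group]
      exact mul_mem hte (inv_mem hqE)
    have h3t := D.side.exp ht
    rw [pow_succ, pow_two, D.t2_sq, one_mul] at h3t
    exact D.t2_ne h3t

/-- `N(A) ≤ N(E)`. -/
theorem norm_A_le_norm_E :
    normalizer ((E ⊓ centralizer ({t2} : Set G) : Subgroup G) : Set G) ≤ normalizer (E : Set G) := fun g hg =>
  Subgroup.mem_normalizer_fintype fun e he => cent_A D U C (fun v => by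
    obtain ⟨v', hv'⟩ := (C.mem _).1 ((mem_normalizer_iff.1 (inv_mem hg) _).1 (C.mem' v))
    rw [inv_inv] at hv'
    have h1 : e * ψ v' = ψ v' * e := D.side.comm he (mem_inf.1 (C.mem' v')).1
    rw [hv'] at h1
    calc g * e * g⁻¹ * ψ v = g * (e * (g⁻¹ * ψ v * g)) * g⁻¹ := by group
      _ = ψ v * (g * e * g⁻¹) := by rw [h1]; group)
    (by rw [conj_pow, D.side.exp he, mul_one, mul_inv_cancel])

theorem chi_mem (u : V4) : chi ψ a2 u ∈ E := mul_mem (mem_inf.1 (C.mem' u.1)).1 (pw_mem (a2_E D U C) _)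

theorem chi_add (u v : V4) : chi ψ a2 (u + v) = chi ψ a2 u * chi ψ a2 v := by
  show ψ (u.1 + v.1) * pw a2 (u.2 + v.2) = _
  rw [C.add, pw_add (D.side.exp (a2_E D U C))]
  have h1 : Commute (ψ v.1) (pw a2 u.2) := D.side.comm (mem_inf.1 (C.mem' v.1)).1 (pw_mem (a2_E D U C) _)
  show ψ u.1 * ψ v.1 * (pw a2 u.2 * pw a2 v.2) = ψ u.1 * pw a2 u.2 * (ψ v.1 * pw a2 v.2)
  calc ψ u.1 * ψ v.1 * (pw a2 u.2 * pw a2 v.2) = ψ u.1 * (ψ v.1 * pw a2 u.2) * pw a2 v.2 := by group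
    _ = _ := by rw [h1.eq]; group

theorem chi_zero : chi ψ a2 0 = 1 := by
  show ψ 0 * pw a2 0 = 1
  rw [C.zero, pw_zero, one_mul]

theorem chi_neg (u : V4) : chi ψ a2 (-u) = (chi ψ a2 u)⁻¹ :=
  eq_inv_of_mul_eq_one_left (by rw [← chi_add D U C, neg_add_cancel, chi_zero D U C])

theorem chi_left (v : V3) : chi ψ a2 (v, 0) = ψ v := by
  show ψ v * pw a2 0 = ψ v
  rw [pw_zero, mul_one]

theorem chi_t2 (u : V4) : t2 * chi ψ a2 u * t2⁻¹ = chi ψ a2 (u.1, -u.2) := by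
  show t2 * (ψ u.1 * pw a2 u.2) * t2⁻¹ = ψ u.1 * pw a2 (-u.2)
  have h1 : t2 * ψ u.1 * t2⁻¹ = ψ u.1 := by
    rw [← mem_centralizer_singleton_iff.1 (mem_inf.1 (C.mem' u.1)).2, mul_inv_cancel_right]
  have h3 := D.side.exp (a2_E D U C)
  rw [show t2 * (ψ u.1 * pw a2 u.2) * t2⁻¹ = (t2 * ψ u.1 * t2⁻¹) * (t2 * pw a2 u.2 * t2⁻¹) by group, h1, conj_pw,
    D.a2_inv, ← pw_neg_one h3, pw_mul h3, neg_one_mul]

theorem chi_inj : Function.Injective (chi ψ a2) := by
  have h0 : ∀ u, chi ψ a2 u = 1 → u = 0 := by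
    intro u hu
    have h1 := chi_t2 D U C u
    rw [hu, mul_one, mul_inv_cancel] at h1
    have h2 : chi ψ a2 (u - (u.1, -u.2)) = 1 := by rw [sub_eq_add_neg, chi_add D U C, chi_neg D U C, ← h1, hu]; simp
    have hk : u.2 = 0 := by
      by_contra hne
      have h3 : pw a2 (u.2 + u.2) = 1 := by
        have : chi ψ a2 (u - (u.1, -u.2)) = pw a2 (u.2 + u.2) := by
          show ψ _ * pw a2 _ = _
          simp [C.zero]
        rw [← this, h2]
      have h4 : u.2 + u.2 ≠ 0 := fun e => hne ((z3_facts u.2).2.2 e)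
      exact D.flag2.notZ (mem_of_pw (D.side.exp (a2_E D U C)) h4 (h3 ▸ one_mem Z))
    refine Prod.ext ?_ hk
    refine C.inj ?_
    show ψ u.1 = ψ (0 : V3)
    rw [C.zero]
    have h5 : ψ u.1 * pw a2 u.2 = 1 := hu
    rwa [hk, pw_zero, mul_one] at h5
  intro u v e
  refine sub_eq_zero.1 (h0 _ ?_)
  rw [sub_eq_add_neg, chi_add D U C, chi_neg D U C, e, mul_inv_cancel]

theorem chi_surj {e : G} (he : e ∈ E) : ∃ u, chi ψ a2 u = e := by
  have hb : Function.Bijective (fun u : V4 => (⟨chi ψ a2 u, chi_mem D U C u⟩ : ↥E)) :=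
    (Nat.bijective_iff_injective_and_card _).2 ⟨fun u v e => chi_inj D U C (congrArg Subtype.val e), by
      rw [D.side.card_E]; simp⟩
  obtain ⟨u, hu⟩ := hb.2 ⟨e, he⟩
  exact ⟨u, congrArg Subtype.val hu⟩

/-- An element of `N(A) ∩ C(r)` acts on `E` by a signed permutation and a sign. -/
theorem act_chi {w : Wt} {g : G}
    (hg : g ∈ normalizer ((E ⊓ centralizer ({t2} : Set G) : Subgroup G) : Set G) ⊓ centralizer ({t2} : Set G))
    (hw : ∀ v, g * ψ v * g⁻¹ = ψ (wact w v)) :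
    ∃ s : ZMod 3, s ≠ 0 ∧ ∀ u : V4, g * chi ψ a2 u * g⁻¹ = chi ψ a2 (wact w u.1, s * u.2) := by
  obtain ⟨hgA, hgt⟩ := mem_inf.1 hg
  have hgt' : Commute g t2 := mem_centralizer_singleton_iff.1 hgt
  obtain ⟨x, hx⟩ := chi_surj D U C ((mem_normalizer_iff.1 (norm_A_le_norm_E D U C hgA) a2).1 (a2_E D U C))
  have hinv : t2 * (g * a2 * g⁻¹) * t2⁻¹ = (g * a2 * g⁻¹)⁻¹ := by
    calc t2 * (g * a2 * g⁻¹) * t2⁻¹ = (t2 * g) * a2 * (t2 * g)⁻¹ := by group
      _ = g * (t2 * a2 * t2⁻¹) * g⁻¹ := by rw [← hgt'.eq]; group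
      _ = _ := by rw [D.a2_inv, conj_inv]
  rw [← hx, chi_t2 D U C, ← chi_neg D U C] at hinv
  have h1 : x.1 = 0 := by
    have := congrArg Prod.fst (chi_inj D U C hinv)
    exact (by decide +kernel : ∀ v : V3, v = -v → v = 0) _ this
  have hxs : g * a2 * g⁻¹ = pw a2 x.2 := by
    rw [← hx]
    show ψ x.1 * pw a2 x.2 = _
    rw [h1, C.zero, one_mul]
  refine ⟨x.2, fun e => ?_, fun u => ?_⟩
  · rw [e, pw_zero] at hxs
    exact D.flag2.notZ ((conj_eq_one_iff.1 hxs).symm ▸ one_mem Z)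
  · show g * (ψ u.1 * pw a2 u.2) * g⁻¹ = ψ (wact w u.1) * pw a2 (x.2 * u.2)
    rw [show g * (ψ u.1 * pw a2 u.2) * g⁻¹ = (g * ψ u.1 * g⁻¹) * (g * pw a2 u.2 * g⁻¹) by group, hw, conj_pw,
      hxs, pw_mul (D.side.exp (a2_E D U C))]

variable {ci : Bool} (hact : ∀ w, Act D U C w ↔ Wok ci true w)
include hact

theorem act_pos {w : Wt} (hw : w.e = false) : Act D U C w :=
  (hact w).2 ⟨fun h => by rw [hw] at h; exact Bool.noConfusion h, fun _ => rfl⟩

/-- THEOREM: the points of `E`. -/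
theorem pt_chi (u : V4) : IsPt Z (chi ψ a2 u) ↔ ten u := by
  obtain ⟨v, k⟩ := u
  by_cases hk : k = 0
  · subst hk
    rw [chi_left D U C, C.pt]
    exact ⟨fun h => Or.inl ⟨rfl, h⟩, fun h => (h.resolve_right fun h' => h'.1 rfl).2⟩
  have key : ∀ v : V3, ∀ k : ZMod 3, k ≠ 0 → ¬ axis v → ¬ IsPt Z (chi ψ a2 (v, k)) := by
    intro v k hk hv hp
    have hQ : ∀ v' : V3, ψ v' ∈ Q → ∀ k' : ZMod 3, k' ≠ 0 → ¬ IsPt Z (chi ψ a2 (v', k')) := by
      intro v' hv' k' hk' hp'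
      have hm : chi ψ a2 (v', k') ∈ Z :=
        D.set.pt_mem hp' (mul_mem hv' (pw_mem (D.frame.pair.le2 D.flag2.mem) _))
      rcases zp_cases D.set.Z_card C.p0 (C.ne_one v_ne.1) hm with e | e | e
      · exact hp'.ne_one e
      · rw [← chi_left D U C] at e
        exact hk' (congrArg Prod.snd (chi_inj D U C e))
      · rw [← C.neg, ← chi_left D U C] at e
        exact hk' (congrArg Prod.snd (chi_inj D U C e))
    have hzQ : ψ (1, 1, 1) ∈ Q := D.set.Z_le C.p0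
    have hdQ : ψ (0, 1, -1) ∈ Q := (zpowers_le.2 (D.frame.pair.le1 D.flag1.mem)) C.dline
    rcases v3_types v with e | e | ⟨w, hw, hwv⟩
    · subst e; exact hQ 0 (by rw [C.zero]; exact one_mem Q) k hk hp
    · exact hv e
    · obtain ⟨g, hg, hgw⟩ := act_pos D U C hact hw
      obtain ⟨s, hs, hgu⟩ := act_chi D U C hg hgw
      have h1 := hp.conj g
      rw [hgu] at h1
      refine hQ _ ?_ _ (z3_mul _ _ hs hk) h1
      rcases hwv with e | e | e <;> rw [e]
      exacts [hzQ, by rw [C.neg]; exact inv_mem hzQ, hdQ]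
  refine ⟨fun hp => Or.inr ⟨hk, by_contra fun hv => key v k hk hv hp⟩, fun h => ?_⟩
  have hv : axis v := (h.resolve_left fun h' => hk h'.1).2
  have hbase : ∀ k : ZMod 3, k ≠ 0 → IsPt Z (chi ψ a2 ((1, 0, 0), k)) := by
    intro k hk
    let f : V3 → G := fun v => chi ψ a2 (v, k * v.1)
    have fadd : ∀ v w, f (v + w) = f v * f w := fun v w => by
      show chi ψ a2 (v + w, k * (v.1 + w.1)) = _
      rw [← chi_add D U C, mul_add]
      rfl
    have f0 : f 0 = 1 := by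
      show chi ψ a2 (0, k * 0) = 1
      rw [mul_zero]; exact chi_zero D U C
    let M : Subgroup G :=
      { carrier := Set.range f
        one_mem' := ⟨0, f0⟩
        mul_mem' := by rintro _ _ ⟨v, rfl⟩ ⟨w, rfl⟩; exact ⟨v + w, fadd v w⟩
        inv_mem' := by
          rintro _ ⟨v, rfl⟩
          exact ⟨-v, eq_inv_of_mul_eq_one_left (by rw [← fadd, neg_add_cancel, f0])⟩ }
    have hMc : Nat.card ↥M = 27 := by
      rw [← Nat.card_congr (Equiv.ofBijective (fun v : V3 => (⟨f v, v, rfl⟩ : ↥M))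
        ⟨fun v w e => congrArg Prod.fst (chi_inj D U C (congrArg Subtype.val e)), fun x => by
          obtain ⟨v, hv⟩ := x.2; exact ⟨v, Subtype.ext hv⟩⟩)]
      simp
    obtain ⟨p, ⟨v, rfl⟩, hp⟩ := D.frame.hyper D.side.pt D.side.y_cent D.side.y_not
      (show M ≤ Fx Q y ⊔ zpowers y by rintro _ ⟨v, rfl⟩; exact D.side.E_eq ▸ chi_mem D U C _) hMc
    have hv0 : v ≠ 0 := fun e => hp.ne_one (e ▸ f0)
    have hten : ten (v, k * v.1) := by
      by_cases h0 : k * v.1 = 0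
      · refine Or.inl ⟨h0, ?_⟩
        have h1 : IsPt Z (chi ψ a2 (v, k * v.1)) := hp
        rwa [h0, chi_left D U C, C.pt] at h1
      · exact Or.inr ⟨h0, by_contra fun hv => key v _ h0 hv hp⟩
    have hp' : IsPt Z (chi ψ a2 (v, k * v.1)) := hp
    rcases hyper_ten k hk v hten hv0 with e | e <;> subst e
    · simpa using hp'
    · have e : chi ψ a2 ((1, 0, 0), k) = (chi ψ a2 (-(1, 0, 0), k * (-(1, 0, 0) : V3).1))⁻¹ := by
        rw [← chi_neg D U C]
        exact congrArg _ (by simp [Prod.ext_iff])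
      rw [e]; exact IsPt.inv' hp'
  obtain ⟨w, hw, hwv⟩ := axis_base v hv
  obtain ⟨g, hg, hgw⟩ := act_pos D U C hact hw
  obtain ⟨s, hs, hgu⟩ := act_chi D U C hg hgw
  have h1 := hgu (v, k)
  rw [hwv] at h1
  have h2 := (hbase (s * k) (z3_mul _ _ hs hk)).conj g⁻¹
  rw [← h1, inv_inv, show g⁻¹ * (g * chi ψ a2 (v, k) * g⁻¹) * g = chi ψ a2 (v, k) by group] at h2
  exact h2

/-- The first axis and a point of `A`. -/
theorem cent_x1_full {v : V3} (hv : full v) :
    centralizer ({ψ (1, 0, 0)} : Set G) ⊓ centralizer ({ψ v} : Set G) ≤ normalizer (E : Set G) := by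
  intro x hx
  obtain ⟨hxc, hxv⟩ := mem_inf.1 hx
  obtain ⟨w, hw, hwv, hwc⟩ := full_to_z v hv
  obtain ⟨g, hg, hgw⟩ := act_pos D U C hact hw
  have hgE := norm_A_le_norm_E D U C (mem_inf.1 hg).1
  set x' := g * x * g⁻¹ with hx'
  have hcom : ∀ u, x * ψ u = ψ u * x → x' * ψ (wact w u) = ψ (wact w u) * x' := fun u hu => by
    rw [← hgw, hx', conj_mul, conj_mul, hu]
  have hxz : x' ∈ centralizer (Z : Set G) := by
    have h1 := hcom v (mem_centralizer_singleton_iff.1 hxv)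
    have h2 : x' * ψ (1, 1, 1) = ψ (1, 1, 1) * x' := by
      rcases hwv with e | e <;> rw [e] at h1
      · exact h1
      · rw [C.neg] at h1
        exact (Commute.inv_right_iff.1 h1).eq
    refine mem_centralizer_iff.2 fun u hu => ?_
    obtain ⟨m, rfl⟩ := mem_zpowers_iff.1 ((zpowers_eq_of_prime D.set.Z_card C.p0 (C.ne_one v_ne.1)).ge hu)
    exact ((show Commute (ψ (1, 1, 1)) x' from h2.symm).zpow_left m).eq
  set u := wact w (1, 0, 0) with hu
  have huQ : ψ u ∉ Q := fun hm => by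
    refine D.side.y_notQ ?_
    set m := -u.1 - u.2.1 - u.2.2 with hm'
    have hd : ψ (m • ((1, -1, -1) : V3)) ∈ Q := by
      have e : ψ u = ψ ((-u.1 + u.2.1 + u.2.2) • ((1, 1, 1) : V3)) * ψ (m • ((1, -1, -1) : V3)) *
          ψ ((u.2.2 - u.2.1) • ((0, 1, -1) : V3)) := by
        rw [← C.add, ← C.add, ← plane_sum u]
      have hQ : ∀ (k : ZMod 3) (v' : V3), ψ v' ∈ Q → ψ (k • v') ∈ Q := fun k v' hv' =>
        (zpowers_le.2 hv') (C.smul_mem k v')
      rw [e] at hm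
      exact (mul_mem_cancel_left (hQ _ _ (D.set.Z_le C.p0))).1
        ((mul_mem_cancel_right (hQ _ _ ((zpowers_le.2 (D.frame.pair.le1 D.flag1.mem)) C.dline))).1 hm)
    rcases pw_facts.2.2.2 m with e | e | e
    · exact absurd e hwc
    · rwa [e, one_smul, C.p1] at hd
    · rw [e, neg_one_smul, C.neg, C.p1] at hd
      exact inv_mem_iff.1 hd
  have hn := D.side.norm_of_notQ (mem_inf.1 (C.mem' u)).1 huQ hxz
    (hcom _ (mem_centralizer_singleton_iff.1 hxc))
  have := mul_mem (mul_mem (inv_mem hgE) hn) hgE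
  rwa [hx', show g⁻¹ * (g * x * g⁻¹) * g = x by group] at this

/-- The first axis and a point of `E` off `A`. -/
theorem cent_x1_off {v : V3} {k : ZMod 3} (hv : axis v) (hk : k ≠ 0) :
    centralizer ({ψ (1, 0, 0)} : Set G) ⊓ centralizer ({chi ψ a2 (v, k)} : Set G) ≤ normalizer (E : Set G) := by
  classical
  set c := ψ (1, 0, 0) with hcdef
  set p := chi ψ a2 (v, k) with hpdef
  have hpt : IsPt Z p := (pt_chi D U C hact _).2 (Or.inr ⟨hk, hv⟩)
  have hpE : p ∈ E := chi_mem D U C _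
  have hcE : c ∈ E := (mem_inf.1 (C.mem' _)).1
  obtain ⟨g, R, R', M, M', s, s', y', T, hpg⟩ := D.exists_side_at hpE hpt
  have hpC : centralizer ({p} : Set G) ≤ centralizer ((cj g Z : Subgroup G) : Set G) := fun x hx =>
    mem_centralizer_iff.2 fun w hw => by
      obtain ⟨m, rfl⟩ := mem_zpowers_iff.1 ((zpowers_eq_of_prime T.frame.set.Z_card hpg hpt.ne_one).ge hw)
      exact ((show Commute p x from (mem_centralizer_singleton_iff.1 hx).symm).zpow_left m).eq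
  intro x hx
  obtain ⟨hxc, hxp⟩ := mem_inf.1 hx
  have hxc' := mem_centralizer_singleton_iff.1 hxc
  by_cases hcQ : c ∉ cj g Q
  · exact T.norm_of_notQ hcE hcQ (hpC hxp) hxc'
  rw [not_not] at hcQ
  set Q' := cj g Q with hQ'
  have hpQ : p ∈ Q' := T.frame.set.Z_le hpg
  -- points of `E` in the radical of `p`
  have honly : ∀ u : V4, chi ψ a2 u ∈ Q' → ten u → u = (v, k) ∨ u = -(v, k) := by
    intro u hu hten
    have h1 := T.frame.set.pt_mem ((IsPt.cj_iff g).2 ((pt_chi D U C hact u).2 hten)) hu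
    rcases zp_cases T.frame.set.Z_card hpg hpt.ne_one h1 with e | e | e
    · exact absurd e ((pt_chi D U C hact u).2 hten).ne_one
    · exact Or.inl (chi_inj D U C e)
    · rw [hpdef, ← chi_neg D U C] at e
      exact Or.inr (chi_inj D U C e)
  have hc4 : chi ψ a2 ((1, 0, 0), 0) = c := chi_left D U C _
  have hcomb : ∀ (u : V4) (i j : ZMod 3), chi ψ a2 u ∈ Q' →
      chi ψ a2 (u.1 + i • v + j • ((1, 0, 0) : V3), u.2 + i * k) ∈ Q' := by
    intro u i j hu
    have e : ((u.1 + i • v + j • ((1, 0, 0) : V3), u.2 + i * k) : V4) = u + (i • v, i * k) + (j • (1, 0, 0), 0) := by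
      simp [Prod.ext_iff]
    rw [e, chi_add D U C, chi_add D U C]
    refine mul_mem (mul_mem hu ?_) ?_
    · rcases pw_facts.2.2.2 i with h | h | h <;> subst h
      · rw [zero_smul, zero_mul]; exact (chi_zero D U C).symm ▸ one_mem _
      · rw [one_smul, one_mul]; exact hpQ
      · rw [neg_one_smul, neg_one_mul, show ((-v, -k) : V4) = -(v, k) from rfl, chi_neg D U C]
        exact inv_mem hpQ
    · rcases pw_facts.2.2.2 j with h | h | h <;> subst h
      · rw [zero_smul]; exact (chi_zero D U C).symm ▸ one_mem _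
      · rw [one_smul, hc4]; exact hcQ
      · rw [neg_one_smul, show ((-(1, 0, 0), 0) : V4) = -((1, 0, 0), 0) from by simp [Prod.ext_iff],
          chi_neg D U C, hc4]
        exact inv_mem hcQ
  by_cases hv1 : v.1 ≠ 0
  · exfalso
    have h1 : ∃ j : ZMod 3, v + j • ((1, 0, 0) : V3) = -v := by
      rcases axis_one v hv hv1 with e | e <;> subst e
      · exact ⟨1, by decide +kernel⟩
      · exact ⟨-1, by decide +kernel⟩
    obtain ⟨j, hj⟩ := h1
    have h2 := hcomb (v, k) 0 j hpQ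
    simp only [zero_smul, add_zero, zero_mul] at h2
    rw [hj] at h2
    have hax : axis (-v) := (by decide +kernel : ∀ v : V3, axis v → axis (-v)) v hv
    rcases honly _ h2 (Or.inr ⟨hk, hax⟩) with e | e
    · exact (by decide +kernel : ∀ v : V3, axis v → -v ≠ v) v hv (congrArg Prod.fst e)
    · exact (by decide +kernel : ∀ k : ZMod 3, k ≠ 0 → k ≠ -k) k hk (congrArg Prod.snd e)
  rw [not_not] at hv1
  set o : V3 := (0, v.2.2, v.2.1) with ho
  -- the other axis lies in the radical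
  have hoQ : ψ o ∈ Q' := by
    set S := E ⊓ Q' with hS
    obtain ⟨u, hu, hnot⟩ : ∃ u : V4, chi ψ a2 u ∈ Q' ∧
        ∀ i j : ZMod 3, u ≠ (i • v + j • ((1, 0, 0) : V3), i * k) := by
      by_contra hno
      push Not at hno
      have hsub : ((Fx Q' y' : Subgroup G) : Set G) ⊆ Set.range
          (fun q : ZMod 3 × ZMod 3 => chi ψ a2 (q.1 • v + q.2 • ((1, 0, 0) : V3), q.1 * k)) := by
        intro w hw
        obtain ⟨u, rfl⟩ := chi_surj D U C (T.W_le hw)
        obtain ⟨i, j, e⟩ := hno u (mem_inf.1 hw).1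
        exact ⟨(i, j), by rw [e]⟩
      have h9 : Nat.card ↥(Fx Q' y') ≤ 9 := by
        rw [← SetLike.coe_sort_coe, Nat.card_coe_set_eq]
        refine (Set.ncard_le_ncard hsub).trans ?_
        rw [← Set.image_univ]
        refine (Set.ncard_image_le).trans ?_
        simp [Set.ncard_univ]
      rw [T.card_W] at h9
      omega
    have h1 := hcomb u (-(u.2 * k)) 0 hu
    set u' : V3 := u.1 + (-(u.2 * k)) • v + (0 : ZMod 3) • ((1, 0, 0) : V3) with hu'
    have e2 : u.2 + -(u.2 * k) * k = 0 := by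
      rw [neg_mul, mul_assoc, (z3_facts k).2.1 hk, mul_one, add_neg_cancel]
    rw [e2] at h1
    have h2 := hcomb (u', 0) 0 (-u'.1) h1
    have e3 : u' + (0 : ZMod 3) • v + (-u'.1) • ((1, 0, 0) : V3) = (0, u'.2.1, u'.2.2) := by
      simp [Prod.ext_iff]
    simp only [zero_mul, add_zero] at h2
    rw [e3] at h2
    have hab : u'.2.1 ≠ 0 ∨ u'.2.2 ≠ 0 := by
      by_contra hno
      push Not at hno
      refine hnot (u.2 * k) u'.1 (Prod.ext ?_ ?_)
      · have e4 : u' = u'.1 • ((1, 0, 0) : V3) := by simp [Prod.ext_iff, hno.1, hno.2]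
        have e5 : u.1 = (u.2 * k) • v + u' := by rw [hu', zero_smul, add_zero, neg_smul]; abel
        show u.1 = _
        rw [e5]
        nth_rw 1 [e4]
      · show u.2 = u.2 * k * k
        rw [mul_assoc, (z3_facts k).2.1 hk, mul_one]
    have h3 := plane_forced v k u'.2.1 u'.2.2 hv hv1 hk hab fun i j hten => by
      have hmem := hcomb ((0, u'.2.1, u'.2.2), 0) i j h2
      simp only [zero_add] at hmem
      have e6 := honly _ hmem hten
      have := (by decide +kernel : ∀ (v : V3) (k a b i j : ZMod 3), v.1 = 0 → (a ≠ 0 ∨ b ≠ 0) → axis v → k ≠ 0 →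
        ¬ ((((0, a, b) : V3) + i • v + j • ((1, 0, 0) : V3), i * k) = (v, k)) ∧
        ¬ ((((0, a, b) : V3) + i • v + j • ((1, 0, 0) : V3), i * k) = -(v, k))) v k _ _ i j hv1 hab hv hk
      exact e6.elim this.1 this.2
    rw [← ho] at h3
    rcases h3 with e | e <;> rw [e] at h2
    · rwa [chi_left D U C] at h2
    · rw [chi_left D U C, C.neg] at h2; exact inv_mem_iff.1 h2
  -- the flags
  obtain ⟨a1', a2', f1, f2, -⟩ := T.exists_flags
  obtain ⟨-, ⟨wp, hwp, ewp⟩, ⟨wm, hwm, ewm⟩⟩ := axis_facts v hv hv1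
  have hcZ : c ∉ cj g Z := by
    intro hm
    rcases zp_cases T.frame.set.Z_card hpg hpt.ne_one hm with e | e | e
    · exact C.ne_one (by decide +kernel) e
    · rw [hpdef, ← hc4] at e
      exact hk (congrArg Prod.snd (chi_inj D U C e)).symm
    · rw [hpdef, ← hc4, ← chi_neg D U C] at e
      exact hk (neg_eq_zero.1 (congrArg Prod.snd (chi_inj D U C e)).symm)
  have hnotflag : ∀ w : Wt, w.e = false → ψ (wact w (0, 1, -1)) ∈ Q' →
      ¬ centralizer ({p} : Set G) ⊓ centralizer ({ψ (wact w (0, 1, -1))} : Set G) ≤ normalizer (E : Set G) := by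
    intro w hw hwQ hle
    obtain ⟨h, hh, hhw⟩ := act_pos D U C hact hw
    have hd0 : d ∈ zpowers (ψ (0, 1, -1)) := by
      rw [zpowers_eq_of_prime (by rw [Nat.card_zpowers, orderOf_eq_prime D.d_cube D.d_ne]) C.dline
        (C.ne_one v_ne.2)]
      exact mem_zpowers d
    obtain ⟨m, hm⟩ := mem_zpowers_iff.1 hd0
    have hdw : h * d * h⁻¹ = ψ (wact w (0, 1, -1)) ^ m := by rw [← hhw, conj_zpow, hm]
    refine D.not_cent_flag hpE hpt (norm_A_le_norm_E D U C (mem_inf.1 hh).1) hpg (hdw ▸ zpow_mem hwQ m) ?_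
    intro y hy
    obtain ⟨hyp, hyd⟩ := mem_inf.1 hy
    refine hle (mem_inf.2 ⟨hyp, mem_centralizer_singleton_iff.2 ?_⟩)
    obtain ⟨m', hm'⟩ := mem_zpowers_iff.1 C.dline
    have e : ψ (wact w (0, 1, -1)) = (h * d * h⁻¹) ^ m' := by rw [conj_zpow, hm', hhw]
    rw [e]
    exact ((show Commute y (h * d * h⁻¹) from mem_centralizer_singleton_iff.1 hyd).zpow_right m').eq
  have hflag : ∀ {R R' M M' : Subgroup G} {s s' a1' a2' : G}, Side (cj g Z) (cj g Q) R R' M M' E s s' y' →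
      Flag (cj g Z) R (zpowers y') a1' → Flag (cj g Z) R' (zpowers y') a2' →
      c ∈ cj g Z ⊔ zpowers a1' → False := by
    intro R R' M M' s s' a1' a2' T f1 f2 hc1
    have hle1 : cj g Z ⊔ zpowers a1' ≤ R := sup_le T.frame.pair.Z1 (zpowers_le.2 f1.mem)
    have hle2 : cj g Z ⊔ zpowers a2' ≤ R' := sup_le T.frame.pair.Z2 (zpowers_le.2 f2.mem)
    have ho1 : ψ o ∉ cj g Z ⊔ zpowers a1' := by
      intro ho'
      set A1 := cj g Z ⊔ zpowers a1' with hA1
      have hcmb : ∀ q : V3, chi ψ a2 (q.1 • v + q.2.1 • ((1, 0, 0) : V3) + q.2.2 • o, q.1 * k) ∈ A1 := by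
        intro q
        have hs : ∀ (i : ZMod 3) (u : V4), chi ψ a2 u ∈ A1 → chi ψ a2 (i • u) ∈ A1 := by
          intro i u hu
          rcases pw_facts.2.2.2 i with e | e | e <;> subst e
          · rw [zero_smul, chi_zero D U C]; exact one_mem _
          · rwa [one_smul]
          · rw [neg_one_smul, chi_neg D U C]; exact inv_mem hu
        have e : ((q.1 • v + q.2.1 • ((1, 0, 0) : V3) + q.2.2 • o, q.1 * k) : V4) =
            q.1 • (v, k) + q.2.1 • (((1, 0, 0) : V3), 0) + q.2.2 • (o, 0) := by simp [Prod.ext_iff]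
        rw [e, chi_add D U C, chi_add D U C]
        exact mul_mem (mul_mem (hs _ _ (mem_sup_left hpg)) (hs _ _ (by rw [hc4]; exact hc1)))
          (hs _ _ (by rw [chi_left D U C]; exact ho'))
      have h27 : 27 ≤ Nat.card ↥A1 := by
        refine le_of_eq_of_le (by simp : 27 = Nat.card V3) (Nat.card_le_card_of_injective
          (fun q : V3 => (⟨_, hcmb q⟩ : ↥A1)) fun q q' e => ?_)
        have e' := chi_inj D U C (congrArg Subtype.val e)
        exact comb_inj v k q q' hv hv1 hk (congrArg Prod.fst e') (congrArg Prod.snd e')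
      rw [T.frame.card_flag f1] at h27
      omega
    have hno : ∀ w : Wt, w.e = false → ψ (wact w (0, 1, -1)) ∈ Q' →
        ψ (wact w (0, 1, -1)) ∉ cj g Z ⊔ zpowers a1' → ψ (wact w (0, 1, -1)) ∈ cj g Z ⊔ zpowers a2' := by
      intro w hw hwQ h1
      by_contra h2
      refine hnotflag w hw hwQ fun u hu => ?_
      exact T.norm_of_off f1 f2 (mem_inf.1 (C.mem' _)).1 h1 h2 (hpC (mem_inf.1 hu).1)
        (mem_centralizer_singleton_iff.1 (mem_inf.1 hu).2)
    have hp1 : ψ (wact wp (0, 1, -1)) ∈ cj g Z ⊔ zpowers a2' := by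
      refine hno wp hwp (by rw [ewp, C.add]; exact mul_mem hcQ hoQ) fun h => ho1 ?_
      rwa [ewp, C.add, ← hcdef, mul_mem_cancel_left hc1] at h
    have hm1 : ψ (wact wm (0, 1, -1)) ∈ cj g Z ⊔ zpowers a2' := by
      refine hno wm hwm (by rw [ewm, sub_eq_add_neg, C.add, C.neg]; exact mul_mem hcQ (inv_mem hoQ))
        fun h => ho1 ?_
      rwa [ewm, sub_eq_add_neg, C.add, C.neg, ← hcdef, mul_mem_cancel_left hc1, inv_mem_iff] at h
    have h3 := mul_mem hp1 hm1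
    rw [← C.add, ewp, ewm, show (1, 0, 0) + o + ((1, 0, 0) - o) = -((1, 0, 0) : V3) by
      rw [add_add_sub_cancel]; decide +kernel, C.neg, inv_mem_iff] at h3
    exact hcZ (T.frame.not_swap_both (hle1 hc1) (hle2 h3))
  by_cases hc1 : c ∈ cj g Z ⊔ zpowers a1'
  · exact (hflag T f1 f2 hc1).elim
  by_cases hc2 : c ∈ cj g Z ⊔ zpowers a2'
  · exact (hflag T.symm f2 f1 hc2).elim
  exact T.norm_of_off f1 f2 hcE hc1 hc2 (hpC hxp) hxc'

end Cfsg.Agent.UThreeLocal.Cand
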