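import Cfsg.Agent.Lib.UThreeLocal.Cand.Nine
import Cfsg.Agent.Lib.UThreeLocal.Cand.Ten
import Cfsg.Agent.Lib.NineSym.Cent2
import Cfsg.Agent.Lib.NineSym.Invol

/-!
# The centralizer of a coordinate axis in `C(r)`: the Sylow subgroup

`C(c) ∩ C(r)`, `c` the first axis, modulo `⟨c, r⟩` has the image of `A` as a Sylow subgroup containing the
centralizer of each of its nontrivial elements up to its normalizer.
-/

set_option autoImplicit false
set_option linter.unusedSectionVars false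
set_option linter.style.haveILetI false
set_option linter.unusedVariables false
set_option maxRecDepth 100000
set_option synthInstance.maxSize 10000

namespace Cfsg.Agent.UThreeLocal.Cand

open Subgroup
open scoped commutatorElement
open Cfsg.Agent.NineSym
open Cfsg.Agent.SpThreeCent (Loc)

universe u

/-- The swap of the last two coordinates. -/
def swW : Wt := ⟨false, 0, 5⟩

theorem pair_types : ∀ v : V3, v.2 ≠ 0 → ∃ j : ZMod 3, full (v + j • ((1, 0, 0) : V3)) ∨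
    ∃ (w : Wt) (u0 : V3), w.e = false ∧ wact w (0, 1, -1) = v + j • ((1, 0, 0) : V3) ∧
      wact w u0 = (1, 0, 0) ∧ u0.1 + u0.2.1 + u0.2.2 ≠ 0 ∧ -u0.1 + u0.2.1 + u0.2.2 ≠ 0 := by decide +kernel

theorem stab_three : ∀ w : Wt, wact w (1, 0, 0) = (1, 0, 0) →
    (∀ v, wact w (wact w (wact w v)) = v) → ∀ v, wact w v = v := by decide +kernel

theorem stab_four : ∀ w : Wt, wact w (1, 0, 0) = (1, 0, 0) → ∀ v, wact w (wact w (wact w (wact w v))) = v := by
  decide +kernel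

theorem stab_det : ∀ w w' : Wt, wact w (1, 0, 0) = (1, 0, 0) → wact w' (1, 0, 0) = (1, 0, 0) →
    (wact w (0, 1, 0)).2 = (wact w' (0, 1, 0)).2 → (wact w (0, 0, 1)).2 = (wact w' (0, 0, 1)).2 → w = w' := by
  decide +kernel

theorem stab_false : ∀ w : Wt, Wok false true w → wact w (1, 0, 0) = (1, 0, 0) →
    w = 1 ∨ w = swW ∨ w = nWA ∨ w = swW * nWA := by decide +kernel

theorem plane_gen : ∀ v : V3, ∃ i j : Fin 3,
    v.2 = ((i : ℕ) • ((0, 1, 1) : V3) + (j : ℕ) • ((0, 1, -1) : V3)).2 := by decide +kernel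

theorem eq_smul_x1 : ∀ v : V3, v.2 = 0 → v = v.1 • ((1, 0, 0) : V3) := by decide +kernel

theorem zpow_cases_two {G : Type*} [Group G] {t x : G} (ht : t * t = 1) (hx : x ∈ zpowers t) :
    x = 1 ∨ x = t := by
  obtain ⟨k, rfl⟩ := mem_zpowers_iff.1 hx
  rcases Int.even_or_odd k with ⟨m, rfl⟩ | ⟨m, rfl⟩
  · left; rw [zpow_add, ← (Commute.refl t).mul_zpow, ht, one_zpow]
  · right
    rw [two_mul, zpow_add, zpow_add, ← (Commute.refl t).mul_zpow, ht, one_zpow, one_mul, zpow_one]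

/-- Two involutions with product of order dividing six give two commuting ones. -/
theorem klein_fix {X : Type*} [Group X] {r s : X} (hr : r * r = 1) (hs : s * s = 1) (h : (r * s) ^ 6 = 1) :
    r * (r * s) ^ 3 * (r * (r * s) ^ 3) = 1 ∧ r * (r * (r * s) ^ 3) = r * (r * s) ^ 3 * r := by
  have hri : r⁻¹ = r := inv_eq_of_mul_eq_one_left hr
  have hsi : s⁻¹ = s := inv_eq_of_mul_eq_one_left hs
  have h1 : r * (r * s) * r⁻¹ = (r * s)⁻¹ := by rw [hri, mul_inv_rev, hri, hsi, ← mul_assoc r r s, hr, one_mul]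
  have h2 : r * (r * s) ^ 3 * r⁻¹ = (r * s) ^ 3 := by
    rw [← conj_pow, h1, inv_pow]
    exact inv_eq_of_mul_eq_one_left (by rw [← pow_add, h])
  have h3 : r * (r * s) ^ 3 = (r * s) ^ 3 * r := mul_inv_eq_iff_eq_mul.1 h2
  refine ⟨?_, ?_⟩
  · rw [h3, mul_assoc, ← mul_assoc r _ r, h3, mul_assoc _ r r, hr, mul_one, ← pow_add, h]
  · rw [mul_assoc r ((r * s) ^ 3) r, ← h3]

theorem cube_of_pow {G : Type*} [Group G] {g : G} (h : g ^ 24 = 1) {k : ℕ} (hk : g ^ 3 ^ k = 1) : g ^ 3 = 1 := by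
  have h1 : (g ^ 3) ^ 8 = 1 := by rw [← pow_mul]; exact h
  have h2 : (g ^ 3) ^ 3 ^ k = 1 := by rw [← pow_mul, mul_comm, pow_mul, hk, one_pow]
  have h3 := pow_gcd_eq_one.2 ⟨h1, h2⟩
  rwa [(Nat.Coprime.pow_right k (by norm_num : Nat.Coprime 8 3)).gcd_eq_one, pow_one] at h3

variable {G : Type u} [Group G] [Finite G] {Z Q Q1 Q2 L1 L2 E : Subgroup G} {t1 t2 z y d a2 n b : G} {ψ : V3 → G}
  (D : Dat Z Q Q1 Q2 L1 L2 E t1 t2 z y d a2) (U : Duo Z L2 E t2 z y d n)
  (C : Crd Z Q1 (E ⊓ centralizer ({t2} : Set G)) y d b n ψ)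
include D U C

theorem z_line : z ∈ zpowers (ψ (1, 1, 1)) := (C.Z_eq D.set.Z_card).le D.z_mem

theorem d_line : d ∈ zpowers (ψ (0, 1, -1)) := by
  haveI : Fact (Nat.Prime 3) := ⟨Nat.prime_three⟩
  rw [zpowers_eq_of_prime (by rw [Nat.card_zpowers, orderOf_eq_prime D.d_cube D.d_ne]) C.dline
    (C.ne_one v_ne.2)]
  exact mem_zpowers d

/-- Off a plane. -/
theorem off_span (F : V3 →+ ZMod 3) {p q u : V3} (hp : F p = 0) (hq : F q = 0) (hu : F u ≠ 0) :
    ψ u ∉ zpowers (ψ p) ⊔ zpowers (ψ q) := by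
  intro h
  let H : Subgroup G :=
    { carrier := {x | ∃ v, ψ v = x ∧ F v = 0}
      one_mem' := ⟨0, C.zero, map_zero F⟩
      mul_mem' := by
        rintro _ _ ⟨v, rfl, hv⟩ ⟨w, rfl, hw⟩
        exact ⟨v + w, C.add v w, by rw [map_add, hv, hw, add_zero]⟩
      inv_mem' := by
        rintro _ ⟨v, rfl, hv⟩
        exact ⟨-v, C.neg v, by rw [map_neg, hv, neg_zero]⟩ }
  obtain ⟨v, hv, h0⟩ := (sup_le (zpowers_le.2 (show ψ p ∈ H from ⟨p, rfl, hp⟩))
    (zpowers_le.2 (show ψ q ∈ H from ⟨q, rfl, hq⟩))) h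
  rw [C.inj hv] at h0
  exact hu h0

theorem comm_smul {x : G} (hxc : x * ψ (1, 0, 0) = ψ (1, 0, 0) * x) (j : ZMod 3) :
    x * ψ (j • ((1, 0, 0) : V3)) = ψ (j • ((1, 0, 0) : V3)) * x := by
  obtain ⟨m, hm⟩ := mem_zpowers_iff.1 (C.smul_mem j ((1, 0, 0) : V3))
  rw [← hm]
  exact ((show Commute x (ψ (1, 0, 0)) from hxc).zpow_right m).eq

theorem norm_A_of_E {x : G} (hx : x ∈ normalizer (E : Set G)) (hxt : x * t2 = t2 * x) :
    x ∈ normalizer ((E ⊓ centralizer ({t2} : Set G) : Subgroup G) : Set G) :=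
  Subgroup.mem_normalizer_fintype fun a ha => mem_inf.2 ⟨(mem_normalizer_iff.1 hx a).1 (mem_inf.1 ha).1,
    mem_centralizer_singleton_iff.2 (((show Commute x t2 from hxt).mul_left
      (mem_centralizer_singleton_iff.1 (mem_inf.1 ha).2)).mul_left (Commute.inv_left hxt)).eq⟩

/-- Elements of exponent three in `N(A) ∩ C(c) ∩ C(r)` lie in `A`. -/
theorem mem_A_of_cube {g : G} (hg : g ∈ normalizer ((E ⊓ centralizer ({t2} : Set G) : Subgroup G) : Set G))
    (hgt : g * t2 = t2 * g) (hgc : g * ψ (1, 0, 0) = ψ (1, 0, 0) * g) (h3 : g ^ 3 = 1) :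
    g ∈ E ⊓ centralizer ({t2} : Set G) := by
  obtain ⟨w, hw⟩ := exists_wact D U C hg
  have hfix : wact w (1, 0, 0) = (1, 0, 0) := C.inj (by rw [← hw, hgc, mul_inv_cancel_right])
  have htriv := stab_three w hfix fun v => C.inj (by
    rw [← hw, ← hw, ← hw, show g * (g * (g * ψ v * g⁻¹) * g⁻¹) * g⁻¹ = g * g * g * ψ v * (g * g * g)⁻¹ by group, ← pow_two,
      ← pow_succ, h3]
    group)
  exact mem_inf.2 ⟨cent_A D U C (fun v => mul_inv_eq_iff_eq_mul.1 (by rw [hw, htriv])) h3,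
    mem_centralizer_singleton_iff.2 hgt⟩

variable {ci : Bool} {φ : Mn → NB t2 (Rd L2 b n)}
  (L : Loc (qv D U C (pv 0)) (qQ D U C) (qA D U C) ci true φ) (hact : ∀ w, Act D U C w ↔ Wok ci true w)
include L hact

/-- `C(A) ∩ C(r) = A⟨r⟩`. -/
theorem cent_A_cases {g : G} (hg : ∀ v, g * ψ v = ψ v * g) (hgt : g * t2 = t2 * g) :
    g ∈ E ⊓ centralizer ({t2} : Set G) ∨ g * t2 ∈ E ⊓ centralizer ({t2} : Set G) := by
  have hgC : g ∈ centralizer ((E ⊓ centralizer ({t2} : Set G) : Subgroup G) : Set G) :=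
    mem_centralizer_iff.2 fun a ha => by
      obtain ⟨v, rfl⟩ := (C.mem a).1 ha
      exact (hg v).symm
  set gN : ↥(NN t2 (Rd L2 b n)) :=
    ⟨g, nA_NN D U C (mem_inf.2 ⟨centralizer_le_normalizer _ hgC, mem_centralizer_singleton_iff.2 hgt⟩)⟩ with hgN
  obtain ⟨v, hv⟩ := (mem_qA D U C _).1 (L.self (pn _ _ gN) fun j hj => by
    obtain ⟨u, rfl⟩ := (mem_qA D U C j).1 hj
    unfold qv
    rw [← map_mul, ← map_mul]
    exact congrArg _ (Subtype.ext (hg u)))
  have hR : (ψ v)⁻¹ * g ∈ Rd L2 b n := pn_eq hv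
  have hρ := Rd_cent_A D U C (mem_inf.2 ⟨hR, mem_centralizer_iff.2 fun a ha => by
    obtain ⟨u, rfl⟩ := (C.mem a).1 ha
    exact (((C.comm v u).inv_left.mul_left (hg u)).eq).symm⟩)
  rcases zpow_cases_two D.t2_sq hρ with e | e
  · left
    rw [← inv_mul_eq_one.1 e]
    exact C.mem' v
  · right
    rw [show g = ψ v * t2 by rw [← e, mul_inv_cancel_left], mul_assoc, D.t2_sq, mul_one]
    exact C.mem' v

theorem cent_A_pow {g : G} (hg : ∀ v, g * ψ v = ψ v * g) (hgt : g * t2 = t2 * g) : g ^ 6 = 1 := by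
  have ht : t2 ^ 6 = 1 := by rw [show 6 = 2 * 3 from rfl, pow_mul, pow_two, D.t2_sq, one_pow]
  rcases cent_A_cases D U C L hact hg hgt with h | h
  · rw [show 6 = 3 * 2 from rfl, pow_mul, D.side.exp (mem_inf.1 h).1, one_pow]
  · have h1 : (g * t2) ^ 6 = 1 := by rw [show 6 = 3 * 2 from rfl, pow_mul, D.side.exp (mem_inf.1 h).1, one_pow]
    rwa [(show Commute g t2 from hgt).mul_pow, ht, mul_one] at h1

/-- Two elements of `A` off `⟨c⟩`. -/
theorem pairA {v : V3} (hv : v.2 ≠ 0) {x : G} (hxc : x * ψ (1, 0, 0) = ψ (1, 0, 0) * x)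
    (hxv : x * ψ v = ψ v * x) (hxt : x * t2 = t2 * x) :
    x ∈ normalizer ((E ⊓ centralizer ({t2} : Set G) : Subgroup G) : Set G) := by
  obtain ⟨j, hj⟩ := pair_types v hv
  have hxj : x * ψ (v + j • ((1, 0, 0) : V3)) = ψ (v + j • ((1, 0, 0) : V3)) * x := by
    rw [C.add]
    exact (Commute.mul_right hxv (comm_smul D U C hxc j)).eq
  rcases hj with hf | ⟨w, u0, hw, hwd, hwu, h1, h2⟩
  · exact norm_A_of_E D U C (cent_x1_full D U C hact hf (mem_inf.2
      ⟨mem_centralizer_singleton_iff.2 hxc, mem_centralizer_singleton_iff.2 hxj⟩)) hxt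
  · obtain ⟨g, hg, hgw⟩ := act_pos D U C hact hw
    obtain ⟨hgA, hgt⟩ := mem_inf.1 hg
    set x' := g⁻¹ * x * g with hx'
    have hback : ∀ u, x * ψ (wact w u) = ψ (wact w u) * x → x' * ψ u = ψ u * x' := fun u hu => by
      rw [← hgw] at hu
      calc x' * ψ u = g⁻¹ * (x * (g * ψ u * g⁻¹)) * g := by rw [hx']; group
        _ = _ := by rw [hu, hx']; group
    have hxd : x' * d = d * x' := by
      obtain ⟨m, hm⟩ := mem_zpowers_iff.1 (d_line D U C)
      rw [← hm]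
      exact ((show Commute x' (ψ (0, 1, -1)) from hback _ (by rw [hwd]; exact hxj)).zpow_right m).eq
    have hxt' : x' * t2 = t2 * x' := by
      have hgt' : Commute g t2 := mem_centralizer_singleton_iff.1 hgt
      exact ((hgt'.inv_left.mul_left hxt).mul_left hgt').eq
    let F1 : V3 →+ ZMod 3 := AddMonoidHom.mk' (fun u => u.1 + u.2.1 + u.2.2) fun u u' => by
      show u.1 + u'.1 + (u.2.1 + u'.2.1) + (u.2.2 + u'.2.2) = _
      ring
    let F2 : V3 →+ ZMod 3 := AddMonoidHom.mk' (fun u => -u.1 + u.2.1 + u.2.2) fun u u' => by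
      show -(u.1 + u'.1) + (u.2.1 + u'.2.1) + (u.2.2 + u'.2.2) = _
      ring
    have hdl : zpowers d ≤ zpowers (ψ (0, 1, -1)) := zpowers_le.2 (d_line D U C)
    have hn := U.off (ψ u0) (C.mem' u0)
      (fun hm => off_span D U C F1 (show F1 (1, 1, 1) = 0 by decide) (show F1 (0, 1, -1) = 0 by decide) h1
        (sup_le_sup (zpowers_le.2 (z_line D U C)) hdl hm))
      (fun hm => off_span D U C F2 (show F2 (1, -1, -1) = 0 by decide) (show F2 (0, 1, -1) = 0 by decide) h2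
        (sup_le_sup (zpowers_le.2 (C.p1.symm ▸ mem_zpowers _)) hdl hm))
      (mem_inf.2 ⟨mem_centralizer_singleton_iff.2 (hback _ (by rw [hwu]; exact hxc)),
        mem_inf.2 ⟨mem_centralizer_singleton_iff.2 hxd, mem_centralizer_singleton_iff.2 hxt'⟩⟩)
    have := mul_mem (mul_mem hgA hn) (inv_mem hgA)
    rwa [hx', show g * (g⁻¹ * x * g) * g⁻¹ = x by group] at this

/-- The hypotheses on `A` in `C(c) ∩ C(r)`. -/
theorem packA : Pack t2 (ψ (1, 0, 0)) (E ⊓ centralizer ({t2} : Set G)) := by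
  have hcomm : ∀ a ∈ E ⊓ centralizer ({t2} : Set G), ∀ a' ∈ E ⊓ centralizer ({t2} : Set G), a * a' = a' * a :=
    fun a ha a' ha' => D.side.comm (mem_inf.1 ha).1 (mem_inf.1 ha').1
  have hle : E ⊓ centralizer ({t2} : Set G) ≤ WW t2 (ψ (1, 0, 0)) := fun a ha => mem_inf.2
    ⟨mem_centralizer_singleton_iff.2 (hcomm a ha _ (C.mem' _)), (mem_inf.1 ha).2⟩
  refine ⟨D.t2_sq, D.t2_ne, C.ne_one (by decide +kernel), C.mem' _, ?_, hcomm,
    fun a ha => D.side.exp (mem_inf.1 ha).1, hle, ?_, ?_⟩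
  · rw [← Nat.card_congr (Equiv.ofBijective (fun v : V3 => (⟨ψ v, C.mem' v⟩ : ↥(E ⊓ centralizer ({t2} : Set G))))
      ⟨fun v w e => C.inj (congrArg Subtype.val e), fun x => by
        obtain ⟨v, hv⟩ := (C.mem x).1 x.2; exact ⟨v, Subtype.ext hv⟩⟩)]
    simp
  · intro u hu huc g hg hgu
    obtain ⟨v, rfl⟩ := (C.mem u).1 hu
    have hv : v.2 ≠ 0 := fun e => huc (by rw [eq_smul_x1 v e]; exact C.smul_mem _ _)
    obtain ⟨hgc, hgt⟩ := mem_inf.1 hg
    have hgc' : Commute g (ψ (1, 0, 0)) := mem_centralizer_singleton_iff.1 hgc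
    have hgt' : Commute g t2 := mem_centralizer_singleton_iff.1 hgt
    refine Subgroup.mem_normalizer_fintype fun m hm => ?_
    set m' := g * m * g⁻¹ with hm'
    have hmc : Commute m' (ψ (1, 0, 0)) := (hgc'.mul_left (hcomm m hm _ (C.mem' _))).mul_left hgc'.inv_left
    have hmt : Commute m' t2 :=
      (hgt'.mul_left (mem_centralizer_singleton_iff.1 (mem_inf.1 hm).2)).mul_left hgt'.inv_left
    have hmv : Commute m' (ψ v) := by
      have h1 : Commute m' (g * ψ v * g⁻¹) :=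
        (show Commute m (ψ v) from hcomm m hm _ hu).map (MulAut.conj g).toMonoidHom
      obtain ⟨i, hi⟩ := mem_zpowers_iff.1 hgu
      have h2 : Commute m' ((ψ v)⁻¹ * (g * ψ v * g⁻¹)) := hi ▸ hmc.zpow_right i
      have h3 := h1.mul_right h2.inv_right
      rwa [show g * ψ v * g⁻¹ * ((ψ v)⁻¹ * (g * ψ v * g⁻¹))⁻¹ = ψ v by group] at h3
    exact mem_A_of_cube D U C (pairA D U C L hact hv hmc.eq hmv.eq hmt.eq) hmt.eq hmc.eq
      (by rw [hm', conj_pow, D.side.exp (mem_inf.1 hm).1, mul_one, mul_inv_cancel])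
  · rintro g hg hgA ⟨k, hk⟩
    obtain ⟨hgc, hgt⟩ := mem_inf.1 hg
    have hgt' : Commute g t2 := mem_centralizer_singleton_iff.1 hgt
    obtain ⟨w, hw⟩ := exists_wact D U C hgA
    have hfix : wact w (1, 0, 0) = (1, 0, 0) :=
      C.inj (by rw [← hw, mem_centralizer_singleton_iff.1 hgc, mul_inv_cancel_right])
    have h4 : ∀ v, g ^ 4 * ψ v = ψ v * g ^ 4 := fun v => mul_inv_eq_iff_eq_mul.1 (by
      conv_rhs => rw [← stab_four w hfix v, ← hw, ← hw, ← hw, ← hw]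
      simp only [pow_succ, pow_zero, one_mul]
      group)
    have h24 : g ^ 24 = 1 := by
      rw [show 24 = 4 * 6 from rfl, pow_mul]
      exact cent_A_pow D U C L hact h4 (hgt'.pow_left 4).eq
    exact mem_A_of_cube D U C hgA hgt'.eq (mem_centralizer_singleton_iff.1 hgc) (cube_of_pow h24 hk)

/-- The image of an element of `A`. -/
def pe (v : V3) : QU t2 (ψ (1, 0, 0)) := pu _ _ ⟨ψ v, (packA D U C L hact).le (C.mem' v)⟩

/-- `x` acts on the image of `A` as `w`. -/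
def Acts (x : QU t2 (ψ (1, 0, 0))) (w : Wt) : Prop :=
  ∀ v, x * pe D U C L hact v * x⁻¹ = pe D U C L hact (wact w v)

theorem pe_add (v w : V3) : pe D U C L hact (v + w) = pe D U C L hact v * pe D U C L hact w := by
  unfold pe
  rw [← map_mul]
  exact congrArg _ (Subtype.ext (C.add v w))

theorem pe_zero : pe D U C L hact 0 = 1 := pu_eq_one.2 (by show ψ 0 ∈ _; rw [C.zero]; exact one_mem _)

theorem pe_neg (v : V3) : pe D U C L hact (-v) = (pe D U C L hact v)⁻¹ :=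
  eq_inv_of_mul_eq_one_left (by rw [← pe_add, neg_add_cancel, pe_zero])

theorem pe_nsmul (i : ℕ) (v : V3) : pe D U C L hact (i • v) = pe D U C L hact v ^ i := by
  induction i with
  | zero => rw [zero_smul, pow_zero, pe_zero]
  | succ i ih => rw [succ_nsmul, pe_add, ih, pow_succ]

theorem pe_eq_iff {v w : V3} : pe D U C L hact v = pe D U C L hact w ↔ v.2 = w.2 := by
  constructor
  · intro e
    have h1 := (packA D U C L hact).congr_mem (C.mem' v) (g := ψ w) (C.cube w)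
      (mem_centralizer_singleton_iff.1 (mem_inf.1 (C.mem' w)).2) (pu_eq e)
    rw [← C.neg, ← C.add] at h1
    obtain ⟨i, hi⟩ := mem_zpowers_iff.1 h1
    let F : V3 →+ ZMod 3 := AddMonoidHom.mk' (fun u => u.2.1) fun _ _ => rfl
    let F' : V3 →+ ZMod 3 := AddMonoidHom.mk' (fun u => u.2.2) fun _ _ => rfl
    have hzero : ∀ F : V3 →+ ZMod 3, F (1, 0, 0) = 0 → F (-v + w) = 0 := fun F hF => by
      by_contra hne
      exact off_span D U C F hF hF hne (mem_sup_left (hi ▸ zpow_mem (mem_zpowers _) i))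
    have a1 := hzero F rfl
    have a2 := hzero F' rfl
    exact Prod.ext (neg_add_eq_zero.1 a1) (neg_add_eq_zero.1 a2)
  · intro e
    have h0 : w = v + (w.1 - v.1) • ((1, 0, 0) : V3) :=
      Prod.ext (by simp) (by rw [Prod.snd_add, Prod.smul_snd]; simp [e])
    rw [h0, pe_add]
    exact (mul_eq_left.2 (pu_eq_one.2 (mem_sup_left (C.smul_mem _ _)))).symm

theorem pe_congr {v w : V3} (e : v.2 = w.2) : pe D U C L hact v = pe D U C L hact w :=
  (pe_eq_iff D U C L hact).2 e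

theorem acts_one : Acts D U C L hact 1 1 := fun v => by rw [wact_one]; simp

theorem acts_mul {x x' : QU t2 (ψ (1, 0, 0))} {w w' : Wt} (h : Acts D U C L hact x w)
    (h' : Acts D U C L hact x' w') : Acts D U C L hact (x * x') (w * w') := fun v => by
  rw [wact_mul, ← h, ← h']; group

theorem acts_pow {x : QU t2 (ψ (1, 0, 0))} {w : Wt} (h : Acts D U C L hact x w) :
    ∀ i : ℕ, Acts D U C L hact (x ^ i) (w ^ i)
  | 0 => by rw [pow_zero, pow_zero]; exact acts_one D U C L hact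
  | i + 1 => by rw [pow_succ, pow_succ]; exact acts_mul D U C L hact (acts_pow h i) h

theorem acts_det {x : QU t2 (ψ (1, 0, 0))} {w w' : Wt} (h : Acts D U C L hact x w) (h' : Acts D U C L hact x w')
    (hw : wact w (1, 0, 0) = (1, 0, 0)) (hw' : wact w' (1, 0, 0) = (1, 0, 0)) : w = w' :=
  stab_det w w' hw hw' ((pe_eq_iff D U C L hact).1 ((h _).symm.trans (h' _)))
    ((pe_eq_iff D U C L hact).1 ((h _).symm.trans (h' _)))

/-- The Sylow subgroup. -/
theorem exists_sylA : ∃ P : Sylow 3 (QU t2 (ψ (1, 0, 0))),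
    (∀ x, x ∈ (P : Subgroup (QU t2 (ψ (1, 0, 0)))) ↔ ∃ v, pe D U C L hact v = x) ∧ SelfNine.NineTI P ∧
    (∀ g : ↥(WW t2 (ψ (1, 0, 0))), pu _ _ g ∈ normalizer ((P : Subgroup (QU t2 (ψ (1, 0, 0)))) : Set (QU t2 (ψ (1, 0, 0)))) ↔
      (g : G) ∈ normalizer ((E ⊓ centralizer ({t2} : Set G) : Subgroup G) : Set G)) := by
  obtain ⟨P, hP, hti, hn⟩ := (packA D U C L hact).exists_nine
  refine ⟨P, fun x => ?_, hti, hn⟩
  rw [hP]
  constructor
  · rintro ⟨a, ha, rfl⟩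
    obtain ⟨v, hv⟩ := (C.mem _).1 ha
    exact ⟨v, congrArg _ (Subtype.ext hv)⟩
  · rintro ⟨v, rfl⟩
    exact ⟨_, C.mem' v, rfl⟩

/-- A signed permutation fixing the axis is induced in the normalizer. -/
theorem exists_acts {P : Sylow 3 (QU t2 (ψ (1, 0, 0)))}
    (hn : ∀ g : ↥(WW t2 (ψ (1, 0, 0))), pu _ _ g ∈ normalizer ((P : Subgroup (QU t2 (ψ (1, 0, 0)))) : Set (QU t2 (ψ (1, 0, 0)))) ↔
      (g : G) ∈ normalizer ((E ⊓ centralizer ({t2} : Set G) : Subgroup G) : Set G))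
    {w : Wt} (hw : Wok ci true w) (hfix : wact w (1, 0, 0) = (1, 0, 0)) :
    ∃ x, x ∈ normalizer ((P : Subgroup (QU t2 (ψ (1, 0, 0)))) : Set (QU t2 (ψ (1, 0, 0)))) ∧
      Acts D U C L hact x w := by
  obtain ⟨g, hg, hgw⟩ := (hact w).2 hw
  have hgW : g ∈ WW t2 (ψ (1, 0, 0)) := mem_inf.2
    ⟨mem_centralizer_singleton_iff.2 (mul_inv_eq_iff_eq_mul.1 (by rw [hgw, hfix])), (mem_inf.1 hg).2⟩
  refine ⟨pu _ _ ⟨g, hgW⟩, (hn _).2 (mem_inf.1 hg).1, fun v => ?_⟩
  unfold pe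
  rw [← map_inv, ← map_mul, ← map_mul]
  exact congrArg _ (Subtype.ext (hgw v))

/-- The action of the normalizer. -/
theorem norm_acts {P : Sylow 3 (QU t2 (ψ (1, 0, 0)))}
    (hn : ∀ g : ↥(WW t2 (ψ (1, 0, 0))), pu _ _ g ∈ normalizer ((P : Subgroup (QU t2 (ψ (1, 0, 0)))) : Set (QU t2 (ψ (1, 0, 0)))) ↔
      (g : G) ∈ normalizer ((E ⊓ centralizer ({t2} : Set G) : Subgroup G) : Set G))
    {x : QU t2 (ψ (1, 0, 0))}
    (hx : x ∈ normalizer ((P : Subgroup (QU t2 (ψ (1, 0, 0)))) : Set (QU t2 (ψ (1, 0, 0))))) :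
    ∃ w, Wok ci true w ∧ wact w (1, 0, 0) = (1, 0, 0) ∧ Acts D U C L hact x w ∧
      (w = 1 → ∃ v, pe D U C L hact v = x) := by
  obtain ⟨g, rfl⟩ := QuotientGroup.mk'_surjective _ x
  have hgA := (hn g).1 hx
  obtain ⟨hgc, hgt⟩ := mem_inf.1 g.2
  obtain ⟨w, hw⟩ := exists_wact D U C hgA
  refine ⟨w, (hact w).1 ⟨g, mem_inf.2 ⟨hgA, hgt⟩, hw⟩,
    C.inj (by rw [← hw, mem_centralizer_singleton_iff.1 hgc, mul_inv_cancel_right]), fun v => ?_, fun e => ?_⟩
  · unfold pe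
    rw [← map_inv, ← map_mul, ← map_mul]
    exact congrArg _ (Subtype.ext (hw v))
  subst e
  have hgt' := mem_centralizer_singleton_iff.1 hgt
  rcases cent_A_cases D U C L hact (fun v => mul_inv_eq_iff_eq_mul.1 (by rw [hw, wact_one])) hgt' with h | h
  · obtain ⟨v, hv⟩ := (C.mem _).1 h
    exact ⟨v, congrArg _ (Subtype.ext hv)⟩
  · obtain ⟨v, hv⟩ := (C.mem _).1 h
    refine ⟨v, QuotientGroup.eq.2 (mem_subgroupOf.2 ?_)⟩
    show (ψ v)⁻¹ * (g : G) ∈ _
    rw [hv, mul_inv_rev, inv_mul_cancel_right]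
    exact inv_mem (mem_sup_right (mem_zpowers _))

/-- The centralizer of the Sylow subgroup. -/
theorem cent_sylA {P : Sylow 3 (QU t2 (ψ (1, 0, 0)))}
    (hP : ∀ x, x ∈ (P : Subgroup (QU t2 (ψ (1, 0, 0)))) ↔ ∃ v, pe D U C L hact v = x)
    (hn : ∀ g : ↥(WW t2 (ψ (1, 0, 0))), pu _ _ g ∈ normalizer ((P : Subgroup (QU t2 (ψ (1, 0, 0)))) : Set (QU t2 (ψ (1, 0, 0)))) ↔
      (g : G) ∈ normalizer ((E ⊓ centralizer ({t2} : Set G) : Subgroup G) : Set G))
    {x : QU t2 (ψ (1, 0, 0))} (hx : Acts D U C L hact x 1) : x ∈ (P : Subgroup (QU t2 (ψ (1, 0, 0)))) := by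
  have hxN : x ∈ normalizer ((P : Subgroup (QU t2 (ψ (1, 0, 0)))) : Set (QU t2 (ψ (1, 0, 0)))) :=
    Subgroup.mem_normalizer_fintype fun q hq => by
      obtain ⟨v, rfl⟩ := (hP q).1 hq
      rw [SetLike.mem_coe, hx v]
      exact (hP _).2 ⟨_, rfl⟩
  obtain ⟨w, -, hfix, hw, hmem⟩ := norm_acts D U C L hact hn hxN
  exact (hP x).2 (hmem (acts_det D U C L hact hw hx hfix (wact_one _)))

/-- An involutory signed permutation fixing the axis is induced by an involution. -/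
theorem exists_invol_acts {P : Sylow 3 (QU t2 (ψ (1, 0, 0)))}
    (hP : ∀ x, x ∈ (P : Subgroup (QU t2 (ψ (1, 0, 0)))) ↔ ∃ v, pe D U C L hact v = x)
    (hn : ∀ g : ↥(WW t2 (ψ (1, 0, 0))), pu _ _ g ∈ normalizer ((P : Subgroup (QU t2 (ψ (1, 0, 0)))) : Set (QU t2 (ψ (1, 0, 0)))) ↔
      (g : G) ∈ normalizer ((E ⊓ centralizer ({t2} : Set G) : Subgroup G) : Set G))
    (hti : SelfNine.NineTI P) {w : Wt} (hw : Wok ci true w) (hfix : wact w (1, 0, 0) = (1, 0, 0))
    (h2 : w * w = 1) : ∃ x, x * x = 1 ∧ Acts D U C L hact x w := by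
  obtain ⟨x, -, hxw⟩ := exists_acts D U C L hact hn hw hfix
  have h3 := hti.exp _ (cent_sylA D U C L hact hP hn (h2 ▸ acts_mul D U C L hact hxw hxw))
  refine ⟨x ^ 3, by rw [← pow_two, ← pow_mul, show 3 * 2 = 2 * 3 from rfl, pow_mul, pow_two, h3], ?_⟩
  have h := acts_pow D U C L hact hxw 3
  rwa [pow_succ w, pow_two w, h2, one_mul] at h

/-- THEOREM: without an inverting signed permutation `C(c) ∩ C(r)` normalises `A`. -/
theorem axis_false (hci : ci = false) :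
    WW t2 (ψ (1, 0, 0)) ≤ normalizer ((E ⊓ centralizer ({t2} : Set G) : Subgroup G) : Set G) := by
  subst hci
  obtain ⟨P, hP, hti, hn⟩ := exists_sylA D U C L hact
  have hW := (by decide +kernel : (Wok false true swW ∧ wact swW (1, 0, 0) = (1, 0, 0) ∧ swW * swW = 1) ∧
    (Wok false true nWA ∧ wact nWA (1, 0, 0) = (1, 0, 0) ∧ nWA * nWA = 1) ∧
    (swW * nWA) * (swW * nWA) = 1 ∧ swW * (swW * nWA) ^ 3 = nWA)
  obtain ⟨⟨a1, a2', a3⟩, ⟨b1, b2, b3⟩, hrs, hs'⟩ := hW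
  obtain ⟨r, hr2, hr⟩ := exists_invol_acts D U C L hact hP hn hti a1 a2' a3
  obtain ⟨s0, hs02, hs0⟩ := exists_invol_acts D U C L hact hP hn hti b1 b2 b3
  have hu := acts_mul D U C L hact hr hs0
  have h6 : (r * s0) ^ 6 = 1 := by
    rw [show 6 = 2 * 3 from rfl, pow_mul, pow_two,
      hti.exp _ (cent_sylA D U C L hact hP hn (hrs ▸ acts_mul D U C L hact hu hu))]
  obtain ⟨hs2, hcomm⟩ := klein_fix hr2 hs02 h6
  set s := r * (r * s0) ^ 3 with hsdef
  have hs : Acts D U C L hact s nWA := hs' ▸ acts_mul D U C L hact hr (acts_pow D U C L hact hu 3)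
  have hri : r⁻¹ = r := inv_eq_of_mul_eq_one_left hr2
  have hsi : s⁻¹ = s := inv_eq_of_mul_eq_one_left hs2
  have hfix' : ∀ {x : QU t2 (ψ (1, 0, 0))} {w : Wt}, x⁻¹ = x → Acts D U C L hact x w → ∀ v,
      x * pe D U C L hact v * x = pe D U C L hact (wact w v) := fun hi h v => by
    have := h v; rwa [hi] at this
  have hnorm := klein_normal (P := P) (e1 := pe D U C L hact (0, 1, 1)) (e2 := pe D U C L hact (0, 1, -1))
    (r := r) (s := s)
    { ti := hti
      m1 := (hP _).2 ⟨_, rfl⟩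
      m2 := (hP _).2 ⟨_, rfl⟩
      gen := fun q hq => by
        obtain ⟨v, rfl⟩ := (hP q).1 hq
        obtain ⟨i, j, e⟩ := plane_gen v
        exact ⟨i, j, by rw [← pe_nsmul, ← pe_nsmul, ← pe_add]; exact pe_congr D U C L hact e⟩
      r2 := hr2
      s2 := hs2
      rs := hcomm
      r1 := by rw [hfix' hri hr]; exact pe_congr D U C L hact (by decide +kernel)
      r1' := by rw [hfix' hri hr, ← pe_neg]; exact pe_congr D U C L hact (by decide +kernel)
      s1 := by rw [hfix' hsi hs, ← pe_neg]; exact pe_congr D U C L hact (by decide +kernel)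
      s1' := by rw [hfix' hsi hs]; exact pe_congr D U C L hact (by decide +kernel)
      nor := fun g hg => by
        obtain ⟨w, hok, hfix, hw, -⟩ := norm_acts D U C L hact hn hg
        have key : ∀ (k : QU t2 (ψ (1, 0, 0))), Acts D U C L hact k w →
            ∃ p ∈ (P : Subgroup (QU t2 (ψ (1, 0, 0)))), g = k * p := fun k hk =>
          ⟨k⁻¹ * g, cent_sylA D U C L hact hP hn (fun v => by
            rw [wact_one, show k⁻¹ * g * pe D U C L hact v * (k⁻¹ * g)⁻¹ =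
              k⁻¹ * (g * pe D U C L hact v * g⁻¹) * k by group, hw, ← hk]
            group), by group⟩
        rcases stab_false w hok hfix with e | e | e | e
        · exact ⟨1, Or.inl rfl, key 1 (e ▸ acts_one D U C L hact)⟩
        · exact ⟨r, Or.inr (Or.inl rfl), key r (e ▸ hr)⟩
        · exact ⟨s, Or.inr (Or.inr (Or.inl rfl)), key s (e ▸ hs)⟩
        · exact ⟨r * s, Or.inr (Or.inr (Or.inr rfl)), key _ (e ▸ acts_mul D U C L hact hr hs)⟩ }
  intro g hg
  refine (hn ⟨g, hg⟩).1 ?_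
  rw [normalizer_eq_top_iff.2 hnorm]
  exact mem_top _

end Cfsg.Agent.UThreeLocal.Cand
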