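import Cfsg.Agent.Lib.UThreeLocal.Cand.AxisBase
import Cfsg.Agent.Lib.UThreeLocal.Cand.Quot

/-!
# An involution centralising the first axis

When all signed permutations are induced, an involution `σ` inverts the second axis only; the centralizer of
`c` and `σ` normalises `E`.
-/

set_option autoImplicit false
set_option linter.unusedSectionVars false
set_option linter.style.haveILetI false
set_option linter.unusedVariables false
set_option linter.unusedSimpArgs false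
set_option maxRecDepth 100000
set_option synthInstance.maxSize 10000

namespace Cfsg.Agent.UThreeLocal.Cand

open Subgroup
open scoped commutatorElement
open Cfsg.Agent.NineSym
open Cfsg.Agent.SpThreeCent (Loc)

universe u

/-- The signed permutation inverting the second coordinate. -/
def sigW : Wt := ⟨true, 2, 0⟩

/-- The signed permutation inverting the third coordinate. -/
def thrW : Wt := ⟨true, 3, 0⟩

/-- The hyperplane fixed by `sigW`. -/
def emb (q : V3) : V4 := ((q.1, 0, q.2.1), q.2.2)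

theorem emb_facts : (∀ u : V4, (wact sigW u.1, u.2) = u → ∃ q, emb q = u) ∧
    (∀ q, (wact sigW (emb q).1, (emb q).2) = emb q) ∧
    (∀ u : V4, (wact sigW u.1, u.2) = -u → u = ((0, u.1.2.1, 0), 0)) := by decide +kernel

theorem emb_add (p q : V3) : emb (p + q) = emb p + emb q := by simp [emb, Prod.ext_iff]

theorem emb_sub (p q : V3) : emb (p - q) = emb p - emb q := by simp [emb, Prod.ext_iff]

theorem emb_inj : Function.Injective emb := fun p q e => by
  simp only [emb, Prod.ext_iff] at e ⊢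
  exact ⟨e.1.1, e.1.2.2, e.2⟩

theorem m_diag : ∀ p q : V3, ten (emb ((1, 0, 0) + q)) → ten (emb ((1, 0, 0) - q)) → ten (emb (p + q)) →
    ten (emb (p - q)) → p.2 ≠ 0 → ∃ i j : ZMod 3, i ≠ 0 ∧ j ≠ 0 ∧ p = (0, i, 0) ∧ q = (0, 0, j) := by
  decide +kernel

theorem x2_forced : ∀ q : V4, q.1.2.1 ≠ 0 → ten (q + ((0, 0, 0), 1)) → ten (q - ((0, 0, 0), 1)) →
    q = ((0, q.1.2.1, 0), 0) := by decide +kernel

theorem ten_facts : ten ((1, 0, 0), 1) ∧ ten ((1, 0, 0), -1) ∧ ten ((0, 0, 1), 1) ∧ ten ((0, 0, 1), -1) ∧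
    ten ((0, 1, 0), 1) ∧ ten ((0, 1, 0), -1) := by decide +kernel

theorem x3_free : ∃ (w : Wt) (u0 : V3), w.e = false ∧ wact w (0, 1, -1) = (1, 0, 1) ∧
    wact w u0 = (1, 0, 0) ∧ u0.1 + u0.2.1 + u0.2.2 ≠ 0 ∧
    ∀ i j : ZMod 3, ¬ full (i • u0 + j • ((0, 1, -1) : V3)) := by decide +kernel

theorem real_w : ∃ w : Wt, Wok true true w ∧ wact w (1, 1, 1) = -(1, 1, 1) ∧ wact w (0, 1, -1) = (0, 1, -1) := by
  decide +kernel

theorem x3_comb : ∀ a b : ZMod 3, b ≠ 0 →
    ∃ i j : ZMod 3, ((1, 0, 1) : V3) = i • ((a, 0, b) : V3) + j • ((1, 0, 0) : V3) := by decide +kernel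

theorem axis_shift : ∀ a b : ZMod 3, ∃ j : ZMod 3, axis (((a, 0, b) : V3) + j • ((1, 0, 0) : V3)) := by
  decide +kernel

theorem z3_cube : ∀ s : ZMod 3, s ≠ 0 → s * (s * s) = 1 → s = 1 := by decide

theorem z3_sign : ∀ s : ZMod 3, s ≠ 0 → s = 1 ∨ s = -1 := by decide

variable {G : Type u} [Group G] [Finite G] {Z Q Q1 Q2 L1 L2 E : Subgroup G} {t1 t2 z y d a2 n b : G} {ψ : V3 → G}
  (D : Dat Z Q Q1 Q2 L1 L2 E t1 t2 z y d a2) (U : Duo Z L2 E t2 z y d n)
  (C : Crd Z Q1 (E ⊓ centralizer ({t2} : Set G)) y d b n ψ)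
include D U C

theorem mem_span_two {p q : V3} {x : G} (hx : x ∈ zpowers (ψ p) ⊔ zpowers (ψ q)) :
    ∃ i j : ZMod 3, x = ψ (i • p + j • q) := by
  let H : Subgroup G :=
    { carrier := {x | ∃ i j : ZMod 3, x = ψ (i • p + j • q)}
      one_mem' := ⟨0, 0, by simp [C.zero]⟩
      mul_mem' := by
        rintro _ _ ⟨i, j, rfl⟩ ⟨i', j', rfl⟩
        exact ⟨i + i', j + j', by rw [← C.add, add_smul, add_smul]; congr 1; abel⟩
      inv_mem' := by
        rintro _ ⟨i, j, rfl⟩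
        exact ⟨-i, -j, by rw [← C.neg, neg_smul, neg_smul]; congr 1; abel⟩ }
  exact (sup_le (zpowers_le.2 (show ψ p ∈ H from ⟨1, 0, by simp⟩))
    (zpowers_le.2 (show ψ q ∈ H from ⟨0, 1, by simp⟩))) hx

theorem comm_comb {x : G} {v : V3} (hxc : x * ψ (1, 0, 0) = ψ (1, 0, 0) * x) (hxv : x * ψ v = ψ v * x)
    (i j : ZMod 3) :
    x * ψ (i • v + j • ((1, 0, 0) : V3)) = ψ (i • v + j • ((1, 0, 0) : V3)) * x := by
  obtain ⟨m, hm⟩ := mem_zpowers_iff.1 (C.smul_mem i v)
  rw [C.add, ← hm]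
  exact (Commute.mul_right ((show Commute x (ψ v) from hxv).zpow_right m) (comm_smul D U C hxc j)).eq

/-- The action of an element of `N(E)`. -/
theorem exists_lin {x : G} (hx : x ∈ normalizer (E : Set G)) :
    ∃ F : V4 →+ V4, ∀ u, x * chi ψ a2 u * x⁻¹ = chi ψ a2 (F u) := by
  choose f hf using fun u => chi_surj D U C ((mem_normalizer_iff.1 hx _).1 (chi_mem D U C u))
  exact ⟨AddMonoidHom.mk' f fun u v => chi_inj D U C (by
    rw [hf, chi_add D U C, chi_add D U C, hf, hf]; group), fun u => (hf u).symm⟩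

/-- Elements centralising `E` lie in `E`. -/
theorem cent_E {x : G} (hx : ∀ u, x * chi ψ a2 u = chi ψ a2 u * x) : x ∈ E := by
  have h : ∀ e ∈ E, x * e = e * x := fun e he => by
    obtain ⟨u, rfl⟩ := chi_surj D U C he; exact hx u
  exact D.side.cent_W (D.mem_CZ (h z D.z_E)) fun w hw => h w (D.side.W_le hw)

variable {ci : Bool} {φ : Mn → NB t2 (Rd L2 b n)}
  (L : Loc (qv D U C (pv 0)) (qQ D U C) (qA D U C) ci true φ) (hact : ∀ w, Act D U C w ↔ Wok ci true w)
include L hact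

/-- An involution inducing a given involutory signed permutation and fixing `a₂`. -/
theorem exists_inv {w : Wt} (hw : Wok ci true w) (h2 : w * w = 1) :
    ∃ σ : G, σ * σ = 1 ∧ σ * t2 = t2 * σ ∧ σ ∈ normalizer (E : Set G) ∧
      ∀ u, σ * chi ψ a2 u * σ⁻¹ = chi ψ a2 (wact w u.1, u.2) := by
  obtain ⟨g, hg, hgw⟩ := (hact w).2 hw
  obtain ⟨s, hs, hgu⟩ := act_chi D U C hg hgw
  have hgt : Commute g t2 := mem_centralizer_singleton_iff.1 (mem_inf.1 hg).2
  have hww : ∀ v, wact w (wact w v) = v := fun v => by rw [← wact_mul, h2, wact_one]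
  have hss : ∀ k : ZMod 3, s * (s * k) = k := fun k => by rw [← mul_assoc, (z3_facts s).2.1 hs, one_mul]
  have hg2u : ∀ u, g ^ 2 * chi ψ a2 u = chi ψ a2 u * g ^ 2 := fun u => mul_inv_eq_iff_eq_mul.1 (by
    rw [show g ^ 2 * chi ψ a2 u * (g ^ 2)⁻¹ = g * (g * chi ψ a2 u * g⁻¹) * g⁻¹ by rw [pow_two]; group, hgu, hgu,
      hww, hss])
  have h6 : g ^ 6 = 1 := by
    rcases cent_A_cases D U C L hact (fun v => by rw [← chi_left D U C]; exact hg2u _) (hgt.pow_left 2).eq with h | h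
    · rw [show 6 = 2 * 3 from rfl, pow_mul]; exact D.side.exp (mem_inf.1 h).1
    · exfalso
      have h1 : Commute (g ^ 2 * t2) (chi ψ a2 ((0 : V3), 1)) := D.side.comm (mem_inf.1 h).1 (chi_mem D U C _)
      have h2 : Commute t2 (chi ψ a2 ((0 : V3), 1)) := by
        have := (show Commute (g ^ 2) (chi ψ a2 ((0 : V3), 1)) from hg2u _).inv_left.mul_left h1
        rwa [inv_mul_cancel_left] at this
      have h3 := chi_t2 D U C ((0 : V3), 1)
      rw [h2.eq, mul_inv_cancel_right] at h3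
      exact (by decide : (1 : ZMod 3) ≠ -1) (congrArg Prod.snd (chi_inj D U C h3))
  have hg3 : ∀ u, g ^ 3 * chi ψ a2 u * (g ^ 3)⁻¹ = chi ψ a2 (wact w u.1, s * u.2) := fun u => by
    rw [show g ^ 3 * chi ψ a2 u * (g ^ 3)⁻¹ = g * (g * (g * chi ψ a2 u * g⁻¹) * g⁻¹) * g⁻¹ by
      rw [pow_succ, pow_two]; group, hgu, hgu, hgu, hww, hss]
  have hgE : g ^ 3 ∈ normalizer (E : Set G) := pow_mem (norm_A_le_norm_E D U C (mem_inf.1 hg).1) 3
  have hsq : g ^ 3 * g ^ 3 = 1 := by rw [← pow_add, h6]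
  rcases z3_sign s hs with e | e
  · exact ⟨g ^ 3, hsq, (hgt.pow_left 3).eq, hgE, fun u => by rw [hg3, e, one_mul]⟩
  · refine ⟨g ^ 3 * t2, ?_, ((hgt.pow_left 3).mul_left (Commute.refl t2)).eq,
      mul_mem hgE (t2_norm_E D U C), fun u => ?_⟩
    · rw [mul_assoc, ← mul_assoc t2, ← (hgt.pow_left 3).eq, mul_assoc (g ^ 3) t2, D.t2_sq, mul_one, hsq]
    · rw [show g ^ 3 * t2 * chi ψ a2 u * (g ^ 3 * t2)⁻¹ = g ^ 3 * (t2 * chi ψ a2 u * t2⁻¹) * (g ^ 3)⁻¹ by group,
        chi_t2 D U C, hg3, e, neg_mul_neg, one_mul]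

variable (hci : ci = true) {σ : G} (hσ : ∀ u, σ * chi ψ a2 u * σ⁻¹ = chi ψ a2 (wact sigW u.1, u.2))
include hci hσ

theorem mem_M_iff {x : G} :
    x ∈ E ⊓ centralizer ({σ} : Set G) ↔ ∃ q, chi ψ a2 (emb q) = x := by
  constructor
  · intro hx
    obtain ⟨u, rfl⟩ := chi_surj D U C (mem_inf.1 hx).1
    have h1 := hσ u
    rw [← mem_centralizer_singleton_iff.1 (mem_inf.1 hx).2, mul_inv_cancel_right] at h1
    obtain ⟨q, hq⟩ := emb_facts.1 u (chi_inj D U C h1).symm
    exact ⟨q, by rw [hq]⟩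
  · rintro ⟨q, rfl⟩
    refine mem_inf.2 ⟨chi_mem D U C _, mem_centralizer_singleton_iff.2 ?_⟩
    have h1 := hσ (emb q)
    rw [emb_facts.2.1] at h1
    exact (mul_inv_eq_iff_eq_mul.1 h1).symm

/-- The first axis and an element of the hyperplane. -/
theorem pairE {q : V3} (hq : q.2 ≠ 0) {x : G} (hxc : x * ψ (1, 0, 0) = ψ (1, 0, 0) * x)
    (hxq : x * chi ψ a2 (emb q) = chi ψ a2 (emb q) * x) : x ∈ normalizer (E : Set G) := by
  obtain ⟨a, c, k⟩ := q
  by_cases hk : k = 0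
  · subst hk
    have hc : c ≠ 0 := fun e => hq (by rw [e]; rfl)
    obtain ⟨i, j, hij⟩ := x3_comb a c hc
    have hxv : x * ψ (a, 0, c) = ψ (a, 0, c) * x := by rw [← chi_left D U C]; exact hxq
    have hx13 : x * ψ (1, 0, 1) = ψ (1, 0, 1) * x := by rw [hij]; exact comm_comb D U C hxc hxv i j
    obtain ⟨w, u0, hw, hwd, hwu, hu0, hfree⟩ := x3_free
    obtain ⟨g, hg, hgw⟩ := act_pos D U C hact hw
    have hgE := norm_A_le_norm_E D U C (mem_inf.1 hg).1
    set x' := g⁻¹ * x * g with hx'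
    have hback : ∀ u, x * ψ (wact w u) = ψ (wact w u) * x → x' * ψ u = ψ u * x' := fun u hu => by
      rw [← hgw] at hu
      calc x' * ψ u = g⁻¹ * (x * (g * ψ u * g⁻¹)) * g := by rw [hx']; group
        _ = _ := by rw [hu, hx']; group
    obtain ⟨m, hm⟩ := mem_zpowers_iff.1 (d_line D U C)
    have hxd : x' * d = d * x' := by
      rw [← hm]
      exact ((show Commute x' (ψ (0, 1, -1)) from hback _ (by rw [hwd]; exact hx13)).zpow_right m).eq
    have hreal : ∃ g : G, g * d = d * g ∧ g * z * g⁻¹ = z⁻¹ := by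
      obtain ⟨w', hw', hwp, hwl⟩ := real_w
      obtain ⟨g', -, hg'⟩ := (hact w').2 (hci ▸ hw')
      obtain ⟨m', hm'⟩ := mem_zpowers_iff.1 (z_line D U C)
      refine ⟨g', mul_inv_eq_iff_eq_mul.1 ?_, ?_⟩
      · rw [← hm, ← conj_zpow, hg', hwl]
      · rw [← hm', ← conj_zpow, hg', hwp, C.neg, inv_zpow]
    let F1 : V3 →+ ZMod 3 := AddMonoidHom.mk' (fun u => u.1 + u.2.1 + u.2.2) fun u u' => by
      show u.1 + u'.1 + (u.2.1 + u'.2.1) + (u.2.2 + u'.2.2) = _
      ring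
    have hcd : ψ u0 ∉ zpowers d := fun h => off_span D U C F1 (show F1 (0, 1, -1) = 0 by decide)
      (show F1 (0, 1, -1) = 0 by decide) hu0 (mem_sup_left (zpowers_le.2 (d_line D U C) h))
    have hn := D.cent_free hreal (mem_inf.1 (C.mem' u0)).1 hcd (fun p hp hpt => by
      obtain ⟨i', j', rfl⟩ := mem_span_two D U C
        (sup_le_sup le_rfl (zpowers_le.2 (d_line D U C)) hp)
      exact hfree i' j' ((C.pt _).1 hpt))
      (mem_inf.2 ⟨mem_centralizer_singleton_iff.2 (hback _ (by rw [hwu]; exact hxc)),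
        mem_centralizer_singleton_iff.2 hxd⟩)
    have := mul_mem (mul_mem hgE hn) (inv_mem hgE)
    rwa [hx', show g * (g⁻¹ * x * g) * g⁻¹ = x by group] at this
  · obtain ⟨j, hj⟩ := axis_shift a c
    refine cent_x1_off D U C hact hj hk (mem_inf.2 ⟨mem_centralizer_singleton_iff.2 hxc,
      mem_centralizer_singleton_iff.2 ?_⟩)
    have e : chi ψ a2 (((a, 0, c) : V3) + j • ((1, 0, 0) : V3), k) =
        chi ψ a2 (emb (a, c, k)) * ψ (j • ((1, 0, 0) : V3)) := by
      rw [← chi_left D U C (j • ((1, 0, 0) : V3)), ← chi_add D U C]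
      exact congrArg _ (by simp [emb])
    rw [e]
    exact (Commute.mul_right hxq (comm_smul D U C hxc j)).eq

/-- The action of an element of `N(E)` centralising `c` and `σ`. -/
theorem diag_of_norm {x : G} (hx : x ∈ normalizer (E : Set G)) (hxc : x * ψ (1, 0, 0) = ψ (1, 0, 0) * x)
    (hxs : x * σ = σ * x) : ∃ s i j : ZMod 3, s ≠ 0 ∧ i ≠ 0 ∧ j ≠ 0 ∧
      ∀ u, x * chi ψ a2 u * x⁻¹ = chi ψ a2 ((u.1.1, s * u.1.2.1, i * u.1.2.2), j * u.2) := by
  obtain ⟨F, hF⟩ := exists_lin D U C hx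
  have hinj : Function.Injective F := fun u v e => by
    refine chi_inj D U C ?_
    have := (hF u).trans ((congrArg (chi ψ a2) e).trans (hF v).symm)
    exact mul_left_cancel (mul_right_cancel this)
  have hten : ∀ u, ten u → ten (F u) := fun u hu => by
    rw [← pt_chi D U C hact, ← hF]
    exact ((pt_chi D U C hact u).2 hu).conj x
  have hsg : ∀ u, F (wact sigW u.1, u.2) = (wact sigW (F u).1, (F u).2) := fun u => chi_inj D U C (by
    rw [← hF, ← hσ, ← hσ, ← hF]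
    calc x * (σ * chi ψ a2 u * σ⁻¹) * x⁻¹ = (x * σ) * chi ψ a2 u * (x * σ)⁻¹ := by group
      _ = (σ * x) * chi ψ a2 u * (σ * x)⁻¹ := by rw [hxs]
      _ = _ := by group)
  have hfix : ∀ q, ∃ p, F (emb q) = emb p := fun q => by
    have := hsg (emb q)
    rw [emb_facts.2.1] at this
    obtain ⟨p, hp⟩ := emb_facts.1 _ this.symm
    exact ⟨p, hp.symm⟩
  have h1 : F ((1, 0, 0), 0) = ((1, 0, 0), 0) := chi_inj D U C (by
    rw [← hF, chi_left D U C, hxc, mul_inv_cancel_right])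
  have h2 : F ((0, 1, 0), 0) = ((0, (F ((0, 1, 0), 0)).1.2.1, 0), 0) := emb_facts.2.2 _ (by
    rw [← hsg, ← map_neg]
    exact congrArg F (by decide +kernel))
  obtain ⟨p, hp⟩ := hfix (0, 1, 0)
  obtain ⟨q, hq⟩ := hfix (0, 0, 1)
  have e1 : F (emb (1, 0, 0)) = emb (1, 0, 0) := h1
  have hp2 : p.2 ≠ 0 := fun e => by
    have h3 : F (emb (0, 1, 0)) = F (p.1 • emb (1, 0, 0)) := by
      rw [ZMod.map_smul, e1, hp]
      conv_lhs => rw [eq_smul_x1 p e]
      simp [emb]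
    have := congrArg (fun u : V4 => u.1.2.2) (hinj h3)
    simp [emb] at this
  have hT : ∀ u v p' q', F (emb u) = emb p' → F (emb v) = emb q' →
      (ten (emb (u + v)) → ten (emb (p' + q'))) ∧ (ten (emb (u - v)) → ten (emb (p' - q'))) :=
    fun u v p' q' hu hv => ⟨fun h => by have := hten _ h; rwa [emb_add, map_add, hu, hv, ← emb_add] at this,
      fun h => by have := hten _ h; rwa [emb_sub, map_sub, hu, hv, ← emb_sub] at this⟩
  obtain ⟨i, j, hi, hj, rfl, rfl⟩ := m_diag p q ((hT _ _ _ _ e1 hq).1 (by decide +kernel))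
    ((hT _ _ _ _ e1 hq).2 (by decide +kernel)) ((hT _ _ _ _ hp hq).1 (by decide +kernel))
    ((hT _ _ _ _ hp hq).2 (by decide +kernel)) hp2
  set s := (F ((0, 1, 0), 0)).1.2.1 with hs
  refine ⟨s, i, j, fun e => ?_, hi, hj, fun u => ?_⟩
  · rw [e] at h2
    have h0 : F ((0, 1, 0), 0) = F 0 := by rw [h2, map_zero]; rfl
    exact (by decide : (1 : ZMod 3) ≠ 0) (congrArg (fun u : V4 => u.1.2.1) (hinj h0))
  · rw [hF]
    refine congrArg _ ?_
    have e : u = u.1.1 • (((1, 0, 0) : V3), (0 : ZMod 3)) + u.1.2.1 • (((0, 1, 0) : V3), (0 : ZMod 3)) +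
        u.1.2.2 • emb (0, 1, 0) + u.2 • emb (0, 0, 1) := by simp [emb, Prod.ext_iff]
    conv_lhs => rw [e]
    rw [map_add, map_add, map_add, ZMod.map_smul, ZMod.map_smul, ZMod.map_smul, ZMod.map_smul, h1, h2, hp, hq]
    simp [emb, Prod.ext_iff, mul_comm]

/-- An element centralising `M` and normalising `E` has exponent three only inside `E`. -/
theorem mem_E_of_centM {x : G} (hx : x ∈ normalizer (E : Set G))
    (hxM : ∀ q, x * chi ψ a2 (emb q) = chi ψ a2 (emb q) * x) (h3 : x ^ 3 = 1) : x ∈ E := by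
  obtain ⟨F, hF⟩ := exists_lin D U C hx
  have hfix : ∀ q, F (emb q) = emb q := fun q => chi_inj D U C (by rw [← hF, hxM, mul_inv_cancel_right])
  have hten : ∀ u, ten u → ten (F u) := fun u hu => by
    rw [← pt_chi D U C hact, ← hF]
    exact ((pt_chi D U C hact u).2 hu).conj x
  set e2 : V4 := ((0, 1, 0), 0) with he2
  have hne : (F e2).1.2.1 ≠ 0 := by
    intro h0
    set r := emb ((F e2).1.1, (F e2).1.2.2, (F e2).2) with hr
    have hFr : F e2 = F r := by
      rw [hr, hfix]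
      simp [emb, Prod.ext_iff, h0]
    have e : e2 = r := chi_inj D U C (mul_left_cancel (mul_right_cancel
      ((hF _).trans ((congrArg (chi ψ a2) hFr).trans (hF _).symm))))
    exact (by decide : (1 : ZMod 3) ≠ 0) (congrArg (fun u : V4 => u.1.2.1) e)
  have ha : F ((0, 0, 0), 1) = ((0, 0, 0), 1) := hfix (0, 0, 1)
  have hq := x2_forced (F e2) hne (by
      rw [← ha, ← map_add]; exact hten _ (by decide +kernel))
    (by rw [← ha, ← map_sub]; exact hten _ (by decide +kernel))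
  set s := (F e2).1.2.1 with hs
  have hFu : ∀ u, F u = ((u.1.1, s * u.1.2.1, u.1.2.2), u.2) := fun u => by
    have e : u = emb (u.1.1, u.1.2.2, u.2) + u.1.2.1 • e2 := by simp [emb, he2, Prod.ext_iff]
    conv_lhs => rw [e]
    rw [map_add, ZMod.map_smul, hfix, hq]
    simp [emb, Prod.ext_iff, mul_comm]
  have hs1 : s = 1 := by
    refine z3_cube s hne ?_
    have h := hF (F (F e2))
    rw [← hF, ← hF, show x * (x * (x * chi ψ a2 e2 * x⁻¹) * x⁻¹) * x⁻¹ = x * x * x * chi ψ a2 e2 * (x * x * x)⁻¹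
      by group, ← pow_two, ← pow_succ, h3, one_mul, inv_one, mul_one] at h
    have := congrArg (fun u : V4 => u.1.2.1) (chi_inj D U C h)
    simp only [hFu, he2, mul_one] at this
    exact this.symm
  refine cent_E D U C fun u => mul_inv_eq_iff_eq_mul.1 ?_
  rw [hF, hFu, hs1, one_mul]

/-- `N(M) ≤ N(E)`. -/
theorem normM_normE {g : G} (hg : g ∈ normalizer ((E ⊓ centralizer ({σ} : Set G) : Subgroup G) : Set G)) :
    g ∈ normalizer (E : Set G) := by
  refine Subgroup.mem_normalizer_fintype fun e he => ?_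
  have hcM : ∀ q, g * e * g⁻¹ * chi ψ a2 (emb q) = chi ψ a2 (emb q) * (g * e * g⁻¹) := fun q => by
    have hm := (mem_normalizer_iff.1 (inv_mem hg) _).1 ((mem_M_iff D U C L hact hci hσ).2 ⟨q, rfl⟩)
    rw [inv_inv] at hm
    have h1 : e * (g⁻¹ * chi ψ a2 (emb q) * g) = g⁻¹ * chi ψ a2 (emb q) * g * e :=
      D.side.comm he (mem_inf.1 hm).1
    calc g * e * g⁻¹ * chi ψ a2 (emb q) = g * (e * (g⁻¹ * chi ψ a2 (emb q) * g)) * g⁻¹ := by group
      _ = _ := by rw [h1]; group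
  refine mem_E_of_centM D U C L hact hci hσ ?_ hcM (by rw [conj_pow, D.side.exp he, mul_one, mul_inv_cancel])
  refine D.side.cent_hyperplane (M := E ⊓ centralizer ({σ} : Set G)) inf_le_left ?_
    (mem_centralizer_iff.2 fun m hm => ?_)
  · rw [← Nat.card_congr (Equiv.ofBijective
      (fun q : V3 => (⟨chi ψ a2 (emb q), (mem_M_iff D U C L hact hci hσ).2 ⟨q, rfl⟩⟩ :
        ↥(E ⊓ centralizer ({σ} : Set G))))
      ⟨fun v w e => emb_inj (chi_inj D U C (congrArg Subtype.val e)), fun x => by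
        obtain ⟨q, hq⟩ := (mem_M_iff D U C L hact hci hσ).1 x.2; exact ⟨q, Subtype.ext hq⟩⟩)]
    simp
  · obtain ⟨q, rfl⟩ := (mem_M_iff D U C L hact hci hσ).1 hm
    exact (hcM q).symm

variable (hσ2 : σ * σ = 1)
include hσ2

/-- The hypotheses on `M` in `C(c) ∩ C(σ)`. -/
theorem packM : Pack σ (ψ (1, 0, 0)) (E ⊓ centralizer ({σ} : Set G)) := by
  have hM := fun x => mem_M_iff D U C L hact hci hσ (x := x)
  have hcE : ψ (1, 0, 0) ∈ E := (mem_inf.1 (C.mem' _)).1
  have hcM : ψ (1, 0, 0) ∈ E ⊓ centralizer ({σ} : Set G) :=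
    (hM _).2 ⟨(1, 0, 0), chi_left D U C _⟩
  have hexp : ∀ x : G, x ∈ E → x ^ 3 = 1 := fun x hx => D.side.exp hx
  have hle : E ⊓ centralizer ({σ} : Set G) ≤ WW σ (ψ (1, 0, 0)) := fun x hx => mem_inf.2
    ⟨mem_centralizer_singleton_iff.2 (D.side.comm (mem_inf.1 hx).1 hcE), (mem_inf.1 hx).2⟩
  refine ⟨hσ2, fun e => ?_, C.ne_one (by decide +kernel), hcM, ?_,
    fun a ha a' ha' => D.side.comm (mem_inf.1 ha).1 (mem_inf.1 ha').1, fun a ha => hexp a (mem_inf.1 ha).1, hle,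
    ?_, ?_⟩
  · subst e
    have h := hσ ((0, 1, 0), 0)
    rw [one_mul, inv_one, mul_one] at h
    exact (by decide +kernel : ((0, 1, 0) : V3) ≠ wact sigW (0, 1, 0)) (congrArg Prod.fst (chi_inj D U C h))
  · rw [← Nat.card_congr (Equiv.ofBijective
      (fun q : V3 => (⟨chi ψ a2 (emb q), (hM _).2 ⟨q, rfl⟩⟩ : ↥(E ⊓ centralizer ({σ} : Set G))))
      ⟨fun v w e => emb_inj (chi_inj D U C (congrArg Subtype.val e)), fun x => by
        obtain ⟨q, hq⟩ := (hM _).1 x.2; exact ⟨q, Subtype.ext hq⟩⟩)]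
    simp
  · intro u hu huc g hg hgu
    obtain ⟨q, rfl⟩ := (hM u).1 hu
    have hq : q.2 ≠ 0 := fun e => huc (by
      rw [eq_smul_x1 q e, show emb (q.1 • ((1, 0, 0) : V3)) = (q.1 • ((1, 0, 0) : V3), (0 : ZMod 3)) by
        simp [emb, Prod.ext_iff], chi_left D U C]
      exact C.smul_mem _ _)
    obtain ⟨hgc, hgs⟩ := mem_inf.1 hg
    have hgc' : Commute g (ψ (1, 0, 0)) := mem_centralizer_singleton_iff.1 hgc
    have hgs' : Commute g σ := mem_centralizer_singleton_iff.1 hgs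
    refine Subgroup.mem_normalizer_fintype fun m hm => ?_
    set m' := g * m * g⁻¹ with hm'
    have hmc : Commute m' (ψ (1, 0, 0)) :=
      (hgc'.mul_left (D.side.comm (mem_inf.1 hm).1 hcE)).mul_left hgc'.inv_left
    have hms : Commute m' σ :=
      (hgs'.mul_left (mem_centralizer_singleton_iff.1 (mem_inf.1 hm).2)).mul_left hgs'.inv_left
    have hmq : Commute m' (chi ψ a2 (emb q)) := by
      have h1 : Commute m' (g * chi ψ a2 (emb q) * g⁻¹) :=
        (show Commute m (chi ψ a2 (emb q)) from D.side.comm (mem_inf.1 hm).1 (chi_mem D U C _)).map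
          (MulAut.conj g).toMonoidHom
      obtain ⟨i, hi⟩ := mem_zpowers_iff.1 hgu
      have h2 : Commute m' ((chi ψ a2 (emb q))⁻¹ * (g * chi ψ a2 (emb q) * g⁻¹)) := hi ▸ hmc.zpow_right i
      have h3 := h1.mul_right h2.inv_right
      rwa [show g * chi ψ a2 (emb q) * g⁻¹ * ((chi ψ a2 (emb q))⁻¹ * (g * chi ψ a2 (emb q) * g⁻¹))⁻¹ =
        chi ψ a2 (emb q) by group] at h3
    have hm3 : m' ^ 3 = 1 := by rw [hm', conj_pow, hexp m (mem_inf.1 hm).1, mul_one, mul_inv_cancel]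
    obtain ⟨s, i, j, hs, hi, hj, hd⟩ := diag_of_norm D U C L hact hci hσ
      (pairE D U C L hact hci hσ hq hmc.eq hmq.eq) hmc.eq hms.eq
    refine mem_inf.2 ⟨cent_E D U C fun u => mul_inv_eq_iff_eq_mul.1 ?_, mem_centralizer_singleton_iff.2 hms.eq⟩
    have h := hd ((u.1.1, s * (s * u.1.2.1), i * (i * u.1.2.2)), j * (j * u.2))
    have h' := hd u
    have h1 : ∀ k : ZMod 3, k ≠ 0 → ∀ a : ZMod 3, k * (k * a) = a := fun k hk a => by
      rw [← mul_assoc, (z3_facts k).2.1 hk, one_mul]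
    have hsq : ∀ v, m' ^ 2 * chi ψ a2 v * (m' ^ 2)⁻¹ = chi ψ a2 v := fun v => by
      rw [show m' ^ 2 * chi ψ a2 v * (m' ^ 2)⁻¹ = m' * (m' * chi ψ a2 v * m'⁻¹) * m'⁻¹ by rw [pow_two]; group,
        hd, hd, h1 s hs, h1 i hi, h1 j hj]
    have h4 := hsq (((u.1.1, s * u.1.2.1, i * u.1.2.2), j * u.2) : V4)
    rw [← h', show m' ^ 2 * (m' * chi ψ a2 u * m'⁻¹) * (m' ^ 2)⁻¹ = m' ^ 3 * chi ψ a2 u * (m' ^ 3)⁻¹ by
      rw [pow_succ m' 2]; group, hm3, one_mul, inv_one, mul_one] at h4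
    exact h4.symm
  · rintro g hg hgM ⟨k, hk⟩
    obtain ⟨hgc, hgs⟩ := mem_inf.1 hg
    have hgs' : Commute g σ := mem_centralizer_singleton_iff.1 hgs
    obtain ⟨s, i, j, hs, hi, hj, hd⟩ := diag_of_norm D U C L hact hci hσ (normM_normE D U C L hact hci hσ hgM)
      (mem_centralizer_singleton_iff.1 hgc) hgs'.eq
    have h1 : ∀ k : ZMod 3, k ≠ 0 → ∀ a : ZMod 3, k * (k * a) = a := fun k hk a => by
      rw [← mul_assoc, (z3_facts k).2.1 hk, one_mul]
    have hsq : g ^ 2 ∈ E := cent_E D U C fun u => mul_inv_eq_iff_eq_mul.1 (by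
      rw [show g ^ 2 * chi ψ a2 u * (g ^ 2)⁻¹ = g * (g * chi ψ a2 u * g⁻¹) * g⁻¹ by rw [pow_two]; group,
        hd, hd, h1 s hs, h1 i hi, h1 j hj])
    have h3 : g ^ 3 = 1 := cube_of_pow (by
      rw [show 24 = 2 * 3 * 4 from rfl, pow_mul, pow_mul, hexp _ hsq, one_pow]) hk
    refine mem_inf.2 ⟨?_, hgs⟩
    have hgE : g = (g ^ 2)⁻¹ * g ^ 3 := by rw [pow_succ g 2]; group
    rw [hgE, h3, mul_one]
    exact inv_mem hsq

/-- THEOREM: `C(c) ∩ C(σ)` normalises `E`. -/
theorem axis_kill (hσt : σ * t2 = t2 * σ) :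
    WW σ (ψ (1, 0, 0)) ≤ normalizer (E : Set G) := by
  classical
  have H := packM D U C L hact hci hσ hσ2
  have hM := fun x => mem_M_iff D U C L hact hci hσ (x := x)
  obtain ⟨P, hP, hti, hn⟩ := H.exists_nine
  have hW := (by decide +kernel : (Wok true true thrW ∧ thrW * thrW = 1) ∧ wact thrW (1, 0, 0) = (1, 0, 0) ∧
    (∀ v, wact sigW (wact thrW (wact sigW (wact thrW v))) = v) ∧
    ∀ v, wact sigW (wact sigW (wact thrW (wact sigW (wact thrW (wact sigW (wact thrW v)))))) = wact thrW v)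
  obtain ⟨⟨hok, hw2⟩, hfix3, hsq3, hlong⟩ := hW
  obtain ⟨s0, hs02, hs0t, hs0E, hs0⟩ := exists_inv D U C L hact (hci ▸ hok) hw2
  have h6 : (σ * s0) ^ 6 = 1 := by
    rw [show 6 = 2 * 3 from rfl, pow_mul]
    refine D.side.exp (cent_E D U C fun u => mul_inv_eq_iff_eq_mul.1 ?_)
    rw [show (σ * s0) ^ 2 * chi ψ a2 u * ((σ * s0) ^ 2)⁻¹ =
      σ * (s0 * (σ * (s0 * chi ψ a2 u * s0⁻¹) * σ⁻¹) * s0⁻¹) * σ⁻¹ by rw [pow_two]; group, hs0, hσ, hs0, hσ,
      hsq3]
  obtain ⟨hS2, hScomm⟩ := klein_fix hσ2 hs02 h6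
  set S := σ * (σ * s0) ^ 3 with hSdef
  have hSu : ∀ u, S * chi ψ a2 u * S⁻¹ = chi ψ a2 (wact thrW u.1, u.2) := fun u => by
    rw [show S * chi ψ a2 u * S⁻¹ = σ * (σ * (s0 * (σ * (s0 * (σ * (s0 * chi ψ a2 u * s0⁻¹) * σ⁻¹) * s0⁻¹) *
      σ⁻¹) * s0⁻¹) * σ⁻¹) * σ⁻¹ by rw [hSdef, pow_succ, pow_two]; group, hs0, hσ, hs0, hσ, hs0, hσ, hσ, hlong]
  have hSt : Commute S t2 := (show Commute σ t2 from hσt).mul_left
    (((show Commute σ t2 from hσt).mul_left hs0t).pow_left 3)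
  have hcchi : chi ψ a2 ((1, 0, 0), 0) = ψ (1, 0, 0) := chi_left D U C _
  have htW : t2 ∈ WW σ (ψ (1, 0, 0)) := mem_inf.2
    ⟨mem_centralizer_singleton_iff.2 (mem_centralizer_singleton_iff.1 (mem_inf.1 (C.mem' _)).2).symm,
      mem_centralizer_singleton_iff.2 hσt.symm⟩
  have hSW : S ∈ WW σ (ψ (1, 0, 0)) := mem_inf.2 ⟨mem_centralizer_singleton_iff.2 (mul_inv_eq_iff_eq_mul.1 (by
      rw [← hcchi, hSu, hfix3])), mem_centralizer_singleton_iff.2 hScomm.symm⟩
  let pm : V3 → QU σ (ψ (1, 0, 0)) := fun q => pu _ _ ⟨chi ψ a2 (emb q), H.le ((hM _).2 ⟨q, rfl⟩)⟩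
  have pm_add : ∀ p q, pm (p + q) = pm p * pm q := fun p q => by
    show _ = pu _ _ _ * pu _ _ _
    rw [← map_mul]
    exact congrArg _ (Subtype.ext (by show chi ψ a2 (emb (p + q)) = _; rw [emb_add, chi_add D U C]; rfl))
  have pm_nsmul : ∀ (i : ℕ) (q : V3), pm (i • q) = pm q ^ i := fun i q => by
    induction i with
    | zero =>
      rw [zero_smul, pow_zero]
      exact pu_eq_one.2 (by show chi ψ a2 (emb 0) ∈ _; rw [show emb 0 = 0 from rfl, chi_zero D U C]; exact one_mem _)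
    | succ i ih => rw [succ_nsmul, pm_add, ih, pow_succ]
  have pm_congr : ∀ {p q : V3}, p.2 = q.2 → pm p = pm q := fun {p q} e => by
    refine QuotientGroup.eq.2 (mem_subgroupOf.2 (mem_sup_left ?_))
    show (chi ψ a2 (emb p))⁻¹ * chi ψ a2 (emb q) ∈ _
    rw [← chi_neg D U C, ← chi_add D U C,
      show -emb p + emb q = ((q.1 - p.1) • ((1, 0, 0) : V3), (0 : ZMod 3)) by
        simp [emb, Prod.ext_iff, e, neg_add_eq_sub], chi_left D U C]
    exact C.smul_mem _ _
  have hPm : ∀ x, x ∈ (P : Subgroup (QU σ (ψ (1, 0, 0)))) ↔ ∃ q, pm q = x := fun x => by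
    rw [hP]
    constructor
    · rintro ⟨a, ha, rfl⟩
      obtain ⟨q, hq⟩ := (hM _).1 ha
      exact ⟨q, congrArg _ (Subtype.ext hq)⟩
    · rintro ⟨q, rfl⟩
      exact ⟨_, (hM _).2 ⟨q, rfl⟩, rfl⟩
  set r := pu σ (ψ (1, 0, 0)) ⟨t2, htW⟩ with hr
  set s := pu σ (ψ (1, 0, 0)) ⟨S, hSW⟩ with hs
  have hrc : ∀ q : V3, r * pm q * r = pm (q.1, q.2.1, -q.2.2) := fun q => by
    rw [hr, ← map_mul, ← map_mul]
    refine congrArg _ (Subtype.ext ?_)
    show t2 * chi ψ a2 (emb q) * t2 = chi ψ a2 (emb (q.1, q.2.1, -q.2.2))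
    have := chi_t2 D U C (emb q)
    rw [inv_eq_of_mul_eq_one_left D.t2_sq] at this
    exact this
  have hsc : ∀ q : V3, s * pm q * s = pm (q.1, -q.2.1, q.2.2) := fun q => by
    rw [hs, ← map_mul, ← map_mul]
    refine congrArg _ (Subtype.ext ?_)
    show S * chi ψ a2 (emb q) * S = chi ψ a2 (emb (q.1, -q.2.1, q.2.2))
    have h := hSu (emb q)
    rw [inv_eq_of_mul_eq_one_left hS2] at h
    rw [h]
    exact congrArg _ ((by decide +kernel : ∀ q : V3,
      (wact thrW (emb q).1, (emb q).2) = emb (q.1, -q.2.1, q.2.2)) q)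
  have pm_neg : ∀ q, (pm q)⁻¹ = pm (-q) := fun q =>
    inv_eq_of_mul_eq_one_left (by rw [← pm_add, neg_add_cancel, show (0 : V3) = (0 : ℕ) • (0 : V3) by simp, pm_nsmul, pow_zero])
  have hnorm := klein_normal (P := P) (e1 := pm (0, 1, 0)) (e2 := pm (0, 0, 1)) (r := r) (s := s)
    { ti := hti
      m1 := (hPm _).2 ⟨_, rfl⟩
      m2 := (hPm _).2 ⟨_, rfl⟩
      gen := fun x hx => by
        obtain ⟨q, rfl⟩ := (hPm x).1 hx
        obtain ⟨i, j, e⟩ := (by decide +kernel : ∀ q : V3, ∃ i j : Fin 3,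
          q.2 = ((i : ℕ) • ((0, 1, 0) : V3) + (j : ℕ) • ((0, 0, 1) : V3)).2) q
        exact ⟨i, j, by rw [← pm_nsmul, ← pm_nsmul, ← pm_add]; exact pm_congr e⟩
      r2 := by rw [hr, ← map_mul, ← map_one (pu σ (ψ (1, 0, 0)))]; exact congrArg _ (Subtype.ext D.t2_sq)
      s2 := by rw [hs, ← map_mul, ← map_one (pu σ (ψ (1, 0, 0)))]; exact congrArg _ (Subtype.ext hS2)
      rs := by rw [hr, hs, ← map_mul, ← map_mul]; exact congrArg _ (Subtype.ext hSt.eq.symm)
      r1 := by rw [hrc]; exact pm_congr (by decide +kernel)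
      r1' := by rw [hrc, pm_neg]; exact pm_congr (by decide +kernel)
      s1 := by rw [hsc, pm_neg]; exact pm_congr (by decide +kernel)
      s1' := by rw [hsc]; exact pm_congr (by decide +kernel)
      nor := fun x hx => by
        obtain ⟨g, rfl⟩ := QuotientGroup.mk'_surjective _ x
        have hgE := normM_normE D U C L hact hci hσ ((hn g).1 hx)
        have hgc := mem_centralizer_singleton_iff.1 (mem_inf.1 g.2).1
        have hgs := mem_centralizer_singleton_iff.1 (mem_inf.1 g.2).2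
        obtain ⟨s', i, j, hs', hi, hj, hd⟩ := diag_of_norm D U C L hact hci hσ hgE hgc hgs
        have hdq : ∀ q : V3, (g : G) * chi ψ a2 (emb q) * (g : G)⁻¹ = chi ψ a2 (emb (q.1, i * q.2.1, j * q.2.2)) :=
          fun q => by rw [hd]; simp [emb]
        have key : ∀ (k : ↥(WW σ (ψ (1, 0, 0)))), (k : G) ∈ normalizer (E : Set G) →
            (∀ q : V3, (k : G) * chi ψ a2 (emb q) * (k : G)⁻¹ = chi ψ a2 (emb (q.1, i * q.2.1, j * q.2.2))) →
            ∃ p ∈ (P : Subgroup (QU σ (ψ (1, 0, 0)))), pu σ (ψ (1, 0, 0)) g = pu σ (ψ (1, 0, 0)) k * p := by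
          intro k hkE hk
          refine ⟨pu _ _ (k⁻¹ * g), ?_, by rw [← map_mul, mul_inv_cancel_left]⟩
          have hhW := (k⁻¹ * g).2
          set h := ((k⁻¹ * g : ↥(WW σ (ψ (1, 0, 0)))) : G) with hh
          obtain ⟨s'', i'', j'', hs'', -, -, hd''⟩ := diag_of_norm D U C L hact hci hσ
            (show h ∈ normalizer (E : Set G) by rw [hh]; push_cast; exact mul_mem (inv_mem hkE) hgE)
            (mem_centralizer_singleton_iff.1 (mem_inf.1 hhW).1) (mem_centralizer_singleton_iff.1 (mem_inf.1 hhW).2)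
          have htriv : ∀ q, h * chi ψ a2 (emb q) * h⁻¹ = chi ψ a2 (emb q) := fun q => by
            rw [hh]
            push_cast
            rw [show (k : G)⁻¹ * g * chi ψ a2 (emb q) * ((k : G)⁻¹ * g)⁻¹ =
              (k : G)⁻¹ * ((g : G) * chi ψ a2 (emb q) * (g : G)⁻¹) * k by group, hdq, ← hk]
            group
          have hi1 : i'' = 1 := by
            have := congrArg (fun u : V4 => u.1.2.2) (chi_inj D U C ((hd'' _).symm.trans (htriv (0, 1, 0))))
            simpa [emb] using this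
          have hj1 : j'' = 1 := by
            have := congrArg (fun u : V4 => u.2) (chi_inj D U C ((hd'' _).symm.trans (htriv (0, 0, 1))))
            simpa [emb] using this
          rcases z3_sign s'' hs'' with e | e
          · have hm : h ∈ E ⊓ centralizer ({σ} : Set G) :=
              mem_inf.2 ⟨cent_E D U C fun u => mul_inv_eq_iff_eq_mul.1 (by
                rw [hd'', e, hi1, hj1, one_mul, one_mul, one_mul]), (mem_inf.1 hhW).2⟩
            exact hP.ge ⟨k⁻¹ * g, hm, rfl⟩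
          · have hE : h * σ ∈ E := cent_E D U C fun u => mul_inv_eq_iff_eq_mul.1 (by
              rw [show h * σ * chi ψ a2 u * (h * σ)⁻¹ = h * (σ * chi ψ a2 u * σ⁻¹) * h⁻¹ by group, hσ, hd'', e,
                hi1, hj1]
              exact congrArg _ ((by decide +kernel : ∀ u : V4,
                ((((wact sigW u.1).1, -1 * (wact sigW u.1).2.1, 1 * (wact sigW u.1).2.2), 1 * u.2) : V4) = u) u))
            have hσs : Commute (h * σ) σ :=
              (show Commute h σ from mem_centralizer_singleton_iff.1 (mem_inf.1 hhW).2).mul_left (Commute.refl σ)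
            have hm : h * σ ∈ E ⊓ centralizer ({σ} : Set G) :=
              mem_inf.2 ⟨hE, mem_centralizer_singleton_iff.2 hσs.eq⟩
            refine hP.ge ⟨⟨h * σ, H.le hm⟩, hm, QuotientGroup.eq.2 (mem_subgroupOf.2 ?_)⟩
            show (h * σ)⁻¹ * h ∈ _
            rw [show (h * σ)⁻¹ * h = σ⁻¹ by group]
            exact inv_mem (mem_sup_right (mem_zpowers σ))
        have hN : t2 ∈ normalizer (E : Set G) := t2_norm_E D U C
        have hSN : S ∈ normalizer (E : Set G) := by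
          refine Subgroup.mem_normalizer_fintype fun e he => ?_
          obtain ⟨u, rfl⟩ := chi_surj D U C he
          rw [SetLike.mem_coe, hSu]
          exact chi_mem D U C _
        rcases z3_sign i hi with ei | ei <;> rcases z3_sign j hj with ej | ej
        · refine ⟨1, Or.inl rfl, ?_⟩
          have := key 1 (one_mem _) fun q => by simp [ei, ej]
          rwa [map_one] at this
        · refine ⟨r, Or.inr (Or.inl rfl), key ⟨t2, htW⟩ hN fun q => ?_⟩
          show t2 * chi ψ a2 (emb q) * t2⁻¹ = _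
          rw [chi_t2 D U C, ei, ej]
          simp [emb]
        · refine ⟨s, Or.inr (Or.inr (Or.inl rfl)), key ⟨S, hSW⟩ hSN fun q => ?_⟩
          show S * chi ψ a2 (emb q) * S⁻¹ = _
          rw [hSu, ei, ej]
          exact congrArg _ ((by decide +kernel : ∀ q : V3,
            (wact thrW (emb q).1, (emb q).2) = emb (q.1, -1 * q.2.1, 1 * q.2.2)) q)
        · refine ⟨r * s, Or.inr (Or.inr (Or.inr rfl)), ?_⟩
          have := key (⟨t2, htW⟩ * ⟨S, hSW⟩) (mul_mem hN hSN) fun q => by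
            show t2 * S * chi ψ a2 (emb q) * (t2 * S)⁻¹ = _
            rw [show t2 * S * chi ψ a2 (emb q) * (t2 * S)⁻¹ = t2 * (S * chi ψ a2 (emb q) * S⁻¹) * t2⁻¹ by group,
              hSu, chi_t2 D U C, ei, ej]
            exact congrArg _ ((by decide +kernel : ∀ q : V3,
              (wact thrW (emb q).1, -(emb q).2) = emb (q.1, -1 * q.2.1, -1 * q.2.2)) q)
          rwa [map_mul] at this }
  intro g hg
  refine normM_normE D U C L hact hci hσ ((hn ⟨g, hg⟩).1 ?_)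
  rw [normalizer_eq_top_iff.2 hnorm]
  exact mem_top _

end Cfsg.Agent.UThreeLocal.Cand
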