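import Cfsg.Agent.Lib.UThreeLocal.Cand.Double

/-!
# Coordinates on `A = E ∩ C(r)`

In suitable coordinates of `A` its points are exactly the elements without a zero coordinate; an element `b`
of `Q₁` permutes the coordinates cyclically and `n` acts as one of two signed permutations.
-/

set_option autoImplicit false
set_option linter.unusedSectionVars false
set_option linter.style.haveILetI false
set_option maxRecDepth 100000

namespace Cfsg.Agent.UThreeLocal.Cand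

open Subgroup
open scoped commutatorElement
open Cfsg.Agent.NineSym

universe u

/-- A power with exponent modulo three. -/
def pw {G : Type u} [Group G] (x : G) (k : ZMod 3) : G := x ^ k.val

theorem pw_facts : (0 : ZMod 3).val = 0 ∧ (1 : ZMod 3).val = 1 ∧ (-1 : ZMod 3).val = 2 ∧
    ∀ k : ZMod 3, k = 0 ∨ k = 1 ∨ k = -1 := by decide

section pw

variable {G : Type u} [Group G] {x w : G}

theorem pw_zero (x : G) : pw x 0 = 1 := by rw [pw, pw_facts.1, pow_zero]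

theorem pw_one (x : G) : pw x 1 = x := by rw [pw, pw_facts.2.1, pow_one]

theorem pw_neg_one (h : x ^ 3 = 1) : pw x (-1) = x⁻¹ := by
  rw [pw, pw_facts.2.2.1]
  exact eq_inv_of_mul_eq_one_left (by rw [← pow_succ, h])

theorem pw_add (h : x ^ 3 = 1) (a c : ZMod 3) : pw x (a + c) = pw x a * pw x c := by
  rw [pw, pw, pw, ← pow_add, ZMod.val_add, ← pow_eq_pow_mod _ h]

theorem pw_mul (h : x ^ 3 = 1) (a c : ZMod 3) : pw (pw x a) c = pw x (a * c) := by
  rw [pw, pw, pw, ← pow_mul, ZMod.val_mul, ← pow_eq_pow_mod _ h]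

theorem pw_comm (h : Commute x w) (a c : ZMod 3) : Commute (pw x a) (pw w c) := h.pow_pow _ _

theorem conj_pw (g x : G) (a : ZMod 3) : g * pw x a * g⁻¹ = pw (g * x * g⁻¹) a := (conj_pow (i := a.val)).symm

theorem pw_mem {S : Subgroup G} (hx : x ∈ S) (a : ZMod 3) : pw x a ∈ S := pow_mem hx _

theorem mem_of_pw {S : Subgroup G} (h : x ^ 3 = 1) {a : ZMod 3} (ha : a ≠ 0) (hm : pw x a ∈ S) : x ∈ S := by
  rcases pw_facts.2.2.2 a with e | e | e
  · exact absurd e ha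
  · rwa [e, pw_one] at hm
  · rw [e, pw_neg_one h] at hm
    exact inv_mem_iff.1 hm

end pw

theorem IsPt.inv' {G : Type u} [Group G] {Z : Subgroup G} {x : G} (h : IsPt Z x) : IsPt Z x⁻¹ := by
  obtain ⟨g, w, hw, hw1, rfl⟩ := h
  exact ⟨g, w⁻¹, inv_mem hw, inv_ne_one.2 hw1, conj_inv.symm⟩

/-- The four points. -/
def pv : Fin 4 → V3 := ![(1, 1, 1), (1, -1, -1), (-1, 1, -1), (-1, -1, 1)]

/-- No coordinate is zero. -/
def full (v : V3) : Prop := v.1 ≠ 0 ∧ v.2.1 ≠ 0 ∧ v.2.2 ≠ 0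

instance : DecidablePred full := fun v =>
  inferInstanceAs (Decidable (v.1 ≠ 0 ∧ v.2.1 ≠ 0 ∧ v.2.2 ≠ 0))

theorem full_iff : ∀ v : V3, full v ↔ ∃ i, v = pv i ∨ v = -pv i := by decide +kernel

/-- The cyclic permutation of the coordinates. -/
def cycW : Wt := ⟨false, 0, 1⟩

/-- The first possible action of `n`. -/
def nWA : Wt := ⟨false, 1, 5⟩

/-- The second possible action of `n`. -/
def nWB : Wt := ⟨true, 1, 0⟩

/-- A type of vectors. -/
def ptsB (a o : Bool) (v : V3) : Bool :=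
  if full v then true
  else if (v.1 = 0 ∧ v.2.1 = 0) ∨ (v.1 = 0 ∧ v.2.2 = 0) ∨ (v.2.1 = 0 ∧ v.2.2 = 0) then a
  else if v.1 + v.2.1 + v.2.2 = 0 then false else o

/-- Representatives of the orbits. -/
def reps : Fin 5 → V3 := ![(1, 1, 1), (1, -1, -1), (1, 0, 0), (0, 1, 1), (0, 1, -1)]

/-- A power of the cyclic permutation, possibly negated. -/
def move (k : Fin 3) (s : Bool) (v : V3) : V3 :=
  if s then -(![v, wact cycW v, wact cycW (wact cycW v)] k) else ![v, wact cycW v, wact cycW (wact cycW v)] k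

theorem reps_all : ∀ v : V3, v ≠ 0 → ∃ i k s, v = move k s (reps i) ∧
    ∀ a o, ptsB a o v = ![true, true, a, o, false] i := by decide +kernel

theorem ptsB_forced : ∀ a o : Bool, (∀ v : V3, v ≠ 0 → ptsB a o v = true →
    ∃ w, w ≠ 0 ∧ w ≠ v ∧ w ≠ -v ∧ (w ≠ 0 → ptsB a o w = false) ∧ ptsB a o (v + w) = false ∧
      ptsB a o (v - w) = false) → a = false ∧ o = false := by decide +kernel

theorem ptsB_full : ∀ v : V3, v ≠ 0 → (ptsB false false v = true ↔ full v) := by decide +kernel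

/-- The linear map with given values at `p₀`, `p₁` and `(0,1,-1)`. -/
def linV (u : V3) (s : Bool) (v : V3) : V3 :=
  ((-v.1 + v.2.1 + v.2.2) * u.1 + (-v.1 - v.2.1 - v.2.2) * (bif s then 1 else -1),
    (-v.1 + v.2.1 + v.2.2) * u.2.1 + (-v.1 - v.2.1 - v.2.2) * (bif s then 1 else -1) + (v.2.2 - v.2.1),
    (-v.1 + v.2.1 + v.2.2) * u.2.2 + (-v.1 - v.2.1 - v.2.2) * (bif s then 1 else -1) - (v.2.2 - v.2.1))

theorem linV_forced : ∀ (u : V3) (s : Bool), (∀ i, full (linV u s (pv i))) →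
    (∀ v, linV u s v = 0 → v = 0) →
    (∀ v, linV u s v = wact nWA v) ∨ (∀ v, linV u s v = wact nWB v) := by decide +kernel

theorem v3_zero : ∀ u : V3, (u = 0 ↔ u + u = u) ∧ (3 • u = 0) := by decide +kernel

variable {G : Type u} [Group G]

/-- The coordinates. -/
structure Crd (Z Q1 A : Subgroup G) (y d b n : G) (ψ : V3 → G) : Prop where
  add : ∀ v w, ψ (v + w) = ψ v * ψ w
  inj : Function.Injective ψ
  mem : ∀ g, g ∈ A ↔ ∃ v, ψ v = g
  p0 : ψ (1, 1, 1) ∈ Z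
  p1 : ψ (1, -1, -1) = y
  dline : ψ (0, 1, -1) ∈ zpowers d
  pt : ∀ v, IsPt Z (ψ v) ↔ full v
  b_mem : b ∈ Q1
  b_act : ∀ v, b * ψ v * b⁻¹ = ψ (wact cycW v)
  n_act : ∃ w : Wt, (w = nWA ∨ w = nWB) ∧ ∀ v, n * ψ v * n⁻¹ = ψ (wact w v)

namespace Crd

variable {Z Q1 A : Subgroup G} {y d b n : G} {ψ : V3 → G} (C : Crd Z Q1 A y d b n ψ)
include C

theorem zero : ψ 0 = 1 := by
  have h := C.add 0 0
  rw [add_zero] at h
  exact mul_eq_left.1 h.symm

theorem neg (v : V3) : ψ (-v) = (ψ v)⁻¹ :=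
  eq_inv_of_mul_eq_one_left (by rw [← C.add, neg_add_cancel, C.zero])

theorem ne_one {v : V3} (hv : v ≠ 0) : ψ v ≠ 1 := fun e => hv (C.inj (e.trans C.zero.symm))

theorem mem' (v : V3) : ψ v ∈ A := (C.mem _).2 ⟨v, rfl⟩

end Crd

variable [Finite G] {Z Q Q1 Q2 L1 L2 E : Subgroup G} {t1 t2 z y d a2 n : G}

theorem Dat.exists_crd (D : Dat Z Q Q1 Q2 L1 L2 E t1 t2 z y d a2) (U : Duo Z L2 E t2 z y d n) :
    ∃ b ψ, Crd Z Q1 (E ⊓ centralizer ({t2} : Set G)) y d b n ψ := by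
  classical
  have F := D.frame
  have h := D.set
  set A := E ⊓ centralizer ({t2} : Set G) with hA
  have hz3 : z ^ 3 = 1 := h.Z_cube D.z_mem
  have hy3 := D.side.y_cube
  have hd3 := D.d_cube
  have hzA : z ∈ A := mem_inf.2 ⟨D.z_E, mem_centralizer_singleton_iff.2 (D.z_cent D.t2_cent).symm⟩
  have hyA : y ∈ A := mem_inf.2 ⟨D.side.y_mem, mem_centralizer_singleton_iff.2 D.y_t2.symm⟩
  have hdA : d ∈ A := mem_inf.2 ⟨D.d_E, mem_centralizer_singleton_iff.2 (D.t2_fix D.flag1.mem).symm⟩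
  have hAcomm : ∀ p ∈ A, ∀ q ∈ A, Commute p q := fun p hp q hq => D.side.comm (mem_inf.1 hp).1 (mem_inf.1 hq).1
  -- an element of `Q₁` off the flag
  obtain ⟨b, hb, hbd⟩ : ∃ b ∈ Q1, b ∉ Z ⊔ zpowers d := by
    by_contra hno
    push Not at hno
    have := Subgroup.card_le_of_le (show Q1 ≤ Z ⊔ zpowers d from hno)
    rw [F.pair.card1, F.card_flag D.flag1] at this
    omega
  have hbQ := F.pair.le1 hb
  have hdQ := F.pair.le1 D.flag1.mem
  obtain ⟨μ, ε, he⟩ : ∃ μ ε : ZMod 3, b * y * b⁻¹ = pw z μ * pw d ε * y := by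
    have h1 := D.flag1.move y (mem_zpowers y) b hb
    have hn : b ∈ normalizer ((Z ⊔ zpowers d : Subgroup G) : Set G) :=
      h.normal_of_Z_le (sup_le h.Z_le (zpowers_le.2 hdQ)) le_sup_left hbQ
    have h2 := inv_mem ((mem_normalizer_iff.1 hn _).1 h1)
    rw [show (b * (b⁻¹ * (y * b * y⁻¹)) * b⁻¹)⁻¹ = b * y * b⁻¹ * y⁻¹ by group] at h2
    obtain ⟨w, hw, i, e⟩ := mem_sup_zpowers (zpowers_le.2 (Subgroup.mem_normalizer_fintype fun v hv => by
      rw [SetLike.mem_coe, ← h.comm_Z hdQ hv, mul_inv_cancel_right]; exact hv)) hd3 h2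
    obtain ⟨μ, rfl⟩ : ∃ μ, w = pw z μ := by
      rcases zp_cases h.Z_card D.z_mem D.z_ne hw with e | e | e
      · exact ⟨0, by rw [pw_zero]; exact e⟩
      · exact ⟨1, by rw [pw_one]; exact e⟩
      · exact ⟨-1, by rw [pw_neg_one hz3]; exact e⟩
    have hi : ∀ i : Fin 3, ((i : ℕ) : ZMod 3).val = (i : ℕ) := by decide
    refine ⟨μ, ((i : ℕ) : ZMod 3), ?_⟩
    rw [show pw d ((i : ℕ) : ZMod 3) = d ^ (i : ℕ) by rw [pw, hi i], ← e, inv_mul_cancel_right]
  obtain ⟨ν, hν⟩ : ∃ ν : ZMod 3, b * d * b⁻¹ = pw z ν * d := by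
    have h1 := h.comm_mem hbQ hdQ
    rw [commutatorElement_def] at h1
    rcases zp_cases h.Z_card D.z_mem D.z_ne h1 with e | e | e
    · exact ⟨0, by rw [pw_zero, one_mul]; exact mul_inv_eq_one.1 e⟩
    · exact ⟨1, by rw [pw_one]; exact mul_inv_eq_iff_eq_mul.1 e⟩
    · exact ⟨-1, by rw [pw_neg_one hz3]; exact mul_inv_eq_iff_eq_mul.1 e⟩
  -- exponents
  let e : V3 → G := fun c => pw z c.1 * pw y c.2.1 * pw d c.2.2
  have hzy := hAcomm z hzA y hyA
  have hzd := hAcomm z hzA d hdA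
  have hyd := hAcomm y hyA d hdA
  have eadd : ∀ c c', e (c + c') = e c * e c' := by
    intro c c'
    show pw z (c.1 + c'.1) * pw y (c.2.1 + c'.2.1) * pw d (c.2.2 + c'.2.2) = _
    rw [pw_add hz3, pw_add hy3, pw_add hd3]
    calc pw z c.1 * pw z c'.1 * (pw y c.2.1 * pw y c'.2.1) * (pw d c.2.2 * pw d c'.2.2)
        = pw z c.1 * (pw z c'.1 * pw y c.2.1) * (pw y c'.2.1 * pw d c.2.2) * pw d c'.2.2 := by group
      _ = pw z c.1 * pw y c.2.1 * ((pw z c'.1 * pw d c.2.2) * pw y c'.2.1) * pw d c'.2.2 := by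
        rw [(pw_comm hzy c'.1 c.2.1).eq, (pw_comm hyd c'.2.1 c.2.2).eq]; group
      _ = pw z c.1 * pw y c.2.1 * pw d c.2.2 * (pw z c'.1 * pw y c'.2.1 * pw d c'.2.2) := by
        rw [(pw_comm hzd c'.1 c.2.2).eq]; group
  have eA : ∀ c, e c ∈ A := fun c => mul_mem (mul_mem (pw_mem hzA _) (pw_mem hyA _)) (pw_mem hdA _)
  have e0 : ∀ c, e c = 1 → c = 0 := by
    intro c hc
    have h2 : c.2.1 = 0 := by
      by_contra hne
      refine D.side.y_notQ (mem_of_pw hy3 hne ?_)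
      have : pw y c.2.1 = (pw z c.1)⁻¹ * (pw d c.2.2)⁻¹ := by
        have hc2 : pw z c.1 * pw y c.2.1 * pw d c.2.2 = 1 := hc
        calc pw y c.2.1 = (pw z c.1)⁻¹ * (pw z c.1 * pw y c.2.1 * pw d c.2.2) * (pw d c.2.2)⁻¹ := by group
          _ = _ := by rw [hc2, mul_one]
      rw [this]
      exact mul_mem (inv_mem (pw_mem (h.Z_le D.z_mem) _)) (inv_mem (pw_mem hdQ _))
    have hc' : pw z c.1 * pw d c.2.2 = 1 := by
      have hc2 : pw z c.1 * pw y c.2.1 * pw d c.2.2 = 1 := hc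
      rwa [h2, pw_zero, mul_one] at hc2
    have h3 : c.2.2 = 0 := by
      by_contra hne
      refine D.flag1.notZ (mem_of_pw hd3 hne ?_)
      rw [eq_inv_of_mul_eq_one_right hc']
      exact inv_mem (pw_mem D.z_mem _)
    rw [h3, pw_zero, mul_one] at hc'
    have h1 : c.1 = 0 := by
      by_contra hne
      exact D.z_ne (mem_bot.1 (mem_of_pw hz3 hne (mem_bot.2 hc')))
    exact Prod.ext h1 (Prod.ext h2 h3)
  have einj : Function.Injective e := fun c c' hcc => by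
    have h1 := eadd (c - c') c'
    rw [sub_add_cancel, hcc, right_eq_mul] at h1
    exact sub_eq_zero.1 (e0 _ h1)
  have hnb : ∀ c, b * e c * b⁻¹ = e (c.1 + μ * c.2.1 + ν * c.2.2, c.2.1, ε * c.2.1 + c.2.2) := by
    intro c
    have hbz : b * z * b⁻¹ = z := h.conj_Z (h.Q_le hbQ) D.z_mem
    show b * (pw z c.1 * pw y c.2.1 * pw d c.2.2) * b⁻¹ = _
    rw [show b * (pw z c.1 * pw y c.2.1 * pw d c.2.2) * b⁻¹ =
      (b * pw z c.1 * b⁻¹) * (b * pw y c.2.1 * b⁻¹) * (b * pw d c.2.2 * b⁻¹) by group, conj_pw, conj_pw,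
      conj_pw, hbz, he, hν]
    have h1 : pw (pw z μ * pw d ε * y) c.2.1 = pw z (μ * c.2.1) * pw d (ε * c.2.1) * pw y c.2.1 := by
      show (pw z μ * pw d ε * y) ^ _ = _
      have c1 : Commute (pw z μ * pw d ε) y := (hzy.pow_left _).mul_left (hyd.symm.pow_left _)
      rw [c1.mul_pow, (pw_comm hzd μ ε).mul_pow]
      exact congrArg₂ (· * ·) (congrArg₂ (· * ·) (pw_mul hz3 μ c.2.1) (pw_mul hd3 ε c.2.1)) rfl
    have h2 : pw (pw z ν * d) c.2.2 = pw z (ν * c.2.2) * pw d c.2.2 := by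
      show (pw z ν * d) ^ _ = _
      rw [(show Commute (pw z ν) d from hzd.pow_left _).mul_pow]
      exact congrArg (· * _) (pw_mul hz3 ν c.2.2)
    rw [h1, h2]
    have hz1 : ∀ k, pw z k = e (k, 0, 0) := fun k => by
      show _ = pw z k * pw y 0 * pw d 0
      rw [pw_zero, pw_zero, mul_one, mul_one]
    have hy1 : ∀ k, pw y k = e (0, k, 0) := fun k => by
      show _ = pw z 0 * pw y k * pw d 0
      rw [pw_zero, pw_zero, one_mul, mul_one]
    have hd1 : ∀ k, pw d k = e (0, 0, k) := fun k => by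
      show _ = pw z 0 * pw y 0 * pw d k
      rw [pw_zero, pw_zero, one_mul, one_mul]
    simp only [hz1, hy1, hd1, ← eadd]
    exact congrArg e (by simp [add_assoc])
  -- the three constants
  obtain ⟨g, hyg, -, -, -, -, -, -⟩ := F.pt_side D.side.pt D.side.y_cent D.side.y_not
  have hzpy : zpowers y = cj g Z :=
    zpowers_eq_of_prime (by rw [card_cj, h.Z_card]) hyg D.side.pt.ne_one
  have hline : ∀ k : ZMod 3, IsPt Z (e (0, 1, k)) → k = 0 := by
    intro k hk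
    have hm : e (0, 1, k) ∈ cj g Q := by
      show pw z 0 * pw y 1 * pw d k ∈ _
      rw [pw_zero, one_mul, pw_one]
      exact mul_mem ((h.conj g).Z_le hyg) (pw_mem (D.d_rad g hyg) k)
    have h1 := (h.conj g).pt_mem ((IsPt.cj_iff g).2 hk) hm
    obtain ⟨j, hj⟩ : ∃ j, e (0, 1, k) = e (0, j, 0) := by
      rcases zp_cases (by rw [card_cj, h.Z_card]) hyg D.side.pt.ne_one h1 with e' | e' | e'
      · exact ⟨0, e'.trans (by show _ = pw z 0 * pw y 0 * pw d 0; simp [pw_zero])⟩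
      · exact ⟨1, e'.trans (by show _ = pw z 0 * pw y 1 * pw d 0; simp [pw_zero, pw_one])⟩
      · exact ⟨-1, e'.trans (by show _ = pw z 0 * pw y (-1) * pw d 0; simp [pw_zero, pw_neg_one hy3])⟩
    exact congrArg (fun c : V3 => c.2.2) (einj hj)
  have hye : y = e (0, 1, 0) := by
    show y = pw z 0 * pw y 1 * pw d 0
    simp [pw_zero, pw_one]
  have hy2 : b * e (0, 1, 0) * b⁻¹ = e (μ, 1, ε) := by rw [hnb]; simp
  have hy3' : b * e (μ, 1, ε) * b⁻¹ = e (μ + μ + ν * ε, 1, ε + ε) := by rw [hnb]; simp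
  have hp2 : IsPt Z (e (μ, 1, ε)) := hy2 ▸ (hye ▸ D.side.pt : IsPt Z (e (0, 1, 0))).conj b
  have hp3 : IsPt Z (e (μ + μ + ν * ε, 1, ε + ε)) := hy3' ▸ hp2.conj b
  have hε : ε ≠ 0 := by
    intro hε
    refine D.side.nontriv.1 fun x hx => ?_
    have hle : Z ⊔ zpowers d ≤ h.Mt y D.side.y_cent ⊓ Q1 := le_inf (sup_le
      (fun w hw => ⟨h.Z_le hw, by rw [h.conj_Z D.side.y_cent hw, inv_mul_cancel]; exact one_mem _⟩)
      (zpowers_le.2 ⟨hdQ, D.flag1.fix y (mem_zpowers y)⟩)) (sup_le F.pair.Z1 (zpowers_le.2 D.flag1.mem))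
    have hbM : b ∈ h.Mt y D.side.y_cent ⊓ Q1 := by
      refine ⟨⟨hbQ, ?_⟩, hb⟩
      have hyb : y * b * y⁻¹ = (pw z μ)⁻¹ * b := by
        calc y * b * y⁻¹ = y * (b * y * b⁻¹)⁻¹ * b := by group
          _ = _ := by rw [he, hε, pw_zero, mul_one]; group
      rw [hyb, ← mul_assoc, ← h.comm_Z (inv_mem hbQ) (inv_mem (pw_mem D.z_mem μ)), inv_mul_cancel_right]
      exact inv_mem (pw_mem D.z_mem μ)
    have h9 : 9 < Nat.card ↥(h.Mt y D.side.y_cent ⊓ Q1) := by
      refine lt_of_le_of_ne (F.card_flag D.flag1 ▸ Subgroup.card_le_of_le hle) fun e9 => hbd ?_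
      rw [Subgroup.eq_of_le_of_card_ge hle (by rw [F.card_flag D.flag1, e9])]
      exact hbM
    have hd27 : Nat.card ↥(h.Mt y D.side.y_cent ⊓ Q1) ∣ 27 := F.pair.card1 ▸ card_dvd_of_le inf_le_right
    have h27 : 27 ≤ Nat.card ↥(h.Mt y D.side.y_cent ⊓ Q1) := by
      obtain ⟨j, hj, ej⟩ := (Nat.dvd_prime_pow Nat.prime_three).1
        (show Nat.card ↥(h.Mt y D.side.y_cent ⊓ Q1) ∣ 3 ^ 3 by norm_num; exact hd27)
      rw [ej] at h9 ⊢
      rcases (by omega : j = 0 ∨ j = 1 ∨ j = 2 ∨ j = 3) with rfl | rfl | rfl | rfl <;>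
        omega
    exact ((Subgroup.eq_of_le_of_card_ge inf_le_right (F.pair.card1.le.trans h27)).ge hx).1.2
  have hμ : μ ≠ 0 := fun hμ => hε (hline ε (hμ ▸ hp2))
  have h3ε : ε + ε ≠ 0 := (by decide : ∀ k : ZMod 3, k ≠ 0 → k + k ≠ 0) ε hε
  have hrel : ν * ε = -μ := by
    refine (by decide : ∀ μ ν ε : ZMod 3, μ ≠ 0 → ε ≠ 0 → μ + μ + ν * ε ≠ 0 → ν ≠ 0 → ν * ε = -μ)
      μ ν ε hμ hε (fun e' => h3ε (hline _ (e' ▸ hp3))) fun hν0 => hbd ?_
    rw [hν0, pw_zero, one_mul] at hν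
    rw [← F.pair.cent_eq h D.flag1.mem D.flag1.notZ]
    exact mem_inf.2 ⟨hb, mem_centralizer_singleton_iff.2 (mul_inv_eq_iff_eq_mul.1 hν)⟩
  -- the coordinates
  let ψ : V3 → G := fun v =>
    e (μ * (-v.1 + v.2.1 + v.2.2), -v.1 - v.2.1 - v.2.2, ε * (v.2.2 - v.2.1))
  have ψadd : ∀ v w, ψ (v + w) = ψ v * ψ w := fun v w => by
    show e _ = e _ * e _
    rw [← eadd]
    exact congrArg e (by simp only [Prod.mk_add_mk, Prod.fst_add, Prod.snd_add]; ring_nf)
  have ψinj : Function.Injective ψ := fun v w hvw => by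
    have := einj hvw
    simp only [Prod.mk.injEq, mul_eq_mul_left_iff, hμ, hε, or_false] at this
    revert this
    clear hvw
    revert v w
    decide +kernel
  have ψd : ψ (0, 1, -1) = pw d ε := by
    show pw z _ * pw y _ * pw d _ = _
    have h1 : μ * (-0 + 1 + -1) = 0 := by rw [show -(0 : ZMod 3) + 1 + -1 = 0 by decide, mul_zero]
    have h2 : ε * (-1 - 1) = ε := by rw [show (-1 : ZMod 3) - 1 = 1 by decide, mul_one]
    simp only [h1, h2, show -(0 : ZMod 3) - 1 - -1 = 0 by decide, pw_zero, one_mul]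
  have ψb : ∀ v, b * ψ v * b⁻¹ = ψ (wact cycW v) := fun v => by
    show b * e _ * b⁻¹ = _
    rw [hnb]
    refine congrArg e ?_
    have hw : wact cycW v = (v.2.2, v.1, v.2.1) := (by decide +kernel : ∀ v : V3,
      wact cycW v = (v.2.2, v.1, v.2.1)) v
    have hk : ∀ w : ZMod 3, ν * (ε * w) = -μ * w := fun w => by rw [← mul_assoc, hrel]
    rw [hw]
    simp only [Prod.mk.injEq, hk]
    have h3 := (by decide +kernel : ∀ μ ε a b c : ZMod 3,
      μ * (-a + b + c) + μ * (-a - b - c) + -μ * (c - b) = μ * (-c + a + b) ∧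
      -a - b - c = -c - a - b ∧ ε * (-a - b - c) + ε * (c - b) = ε * (b - a)) μ ε v.1 v.2.1 v.2.2
    exact h3
  have ψsurj : ∀ g, g ∈ A ↔ ∃ v, ψ v = g := by
    let f : V3 → ↥A := fun v => ⟨ψ v, eA _⟩
    have hf : Function.Injective f := fun v w hvw => ψinj (congrArg Subtype.val hvw)
    have hA27 : Nat.card ↥A ≤ 27 := by
      have hinf : A ⊓ zpowers a2 = ⊥ := by
        refine eq_bot_iff.2 fun x hx => mem_bot.2 ?_
        obtain ⟨k, hk⟩ := mem_zpowers_iff.1 hx.2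
        have hxt : x * t2 = t2 * x := mem_centralizer_singleton_iff.1 hx.1.2
        have h1 : t2 * x * t2⁻¹ = x⁻¹ := by rw [← hk, ← conj_zpow, D.a2_inv, inv_zpow]
        rw [← hxt, mul_inv_cancel_right] at h1
        have h3 := D.side.exp hx.1.1
        rw [pow_succ, pow_two] at h3
        nth_rw 1 [h1] at h3
        rwa [inv_mul_cancel, one_mul] at h3
      haveI : Fact (Nat.Prime 3) := ⟨Nat.prime_three⟩
      have hc := card_sup_mul_inf (A := A) (B := zpowers a2) (zpowers_le.2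
        (Subgroup.mem_normalizer_fintype fun v hv => by
          rw [SetLike.mem_coe, D.side.comm (D.side.W_le D.a2_W) (mem_inf.1 hv).1, mul_inv_cancel_right]
          exact hv))
      rw [hinf, card_bot, mul_one, Nat.card_zpowers,
        orderOf_eq_prime (D.side.exp (D.side.W_le D.a2_W)) (fun e' => D.flag2.notZ (e' ▸ one_mem Z))] at hc
      have hle := Subgroup.card_le_of_le
        (sup_le inf_le_left (zpowers_le.2 (D.side.W_le D.a2_W)) : A ⊔ zpowers a2 ≤ E)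
      rw [D.side.card_E] at hle
      omega
    have hV : Nat.card V3 = 27 := by simp
    have hbij : Function.Bijective f :=
      (Nat.bijective_iff_injective_and_card f).2 ⟨hf, le_antisymm (Nat.card_le_card_of_injective f hf)
        (hA27.trans hV.ge)⟩
    refine fun g => ⟨fun hg => ?_, fun ⟨v, hv⟩ => hv ▸ eA _⟩
    obtain ⟨v, hv⟩ := hbij.2 ⟨g, hg⟩
    exact ⟨v, congrArg Subtype.val hv⟩
  -- the points
  have ψ0 : ψ 0 = 1 := mul_eq_left.1 (show ψ 0 * ψ 0 = ψ 0 by rw [← ψadd, add_zero])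
  have ψneg : ∀ v, ψ (-v) = (ψ v)⁻¹ := fun v =>
    eq_inv_of_mul_eq_one_left (by rw [← ψadd, neg_add_cancel, ψ0])
  have hcyc : ∀ v, IsPt Z (ψ (wact cycW v)) ↔ IsPt Z (ψ v) := fun v =>
    ⟨fun hp => by
      have h1 := hp.conj b⁻¹
      rwa [← ψb, show b⁻¹ * (b * ψ v * b⁻¹) * b⁻¹⁻¹ = ψ v by group] at h1,
     fun hp => ψb v ▸ hp.conj b⟩
  have hneg : ∀ v, IsPt Z (ψ (-v)) ↔ IsPt Z (ψ v) := fun v => by
    rw [ψneg]; exact ⟨fun hp => inv_inv (ψ v) ▸ IsPt.inv' hp, IsPt.inv'⟩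
  have hmove : ∀ k s v, IsPt Z (ψ (move k s v)) ↔ IsPt Z (ψ v) := by
    intro k s v
    cases s <;> fin_cases k <;> simp [move, hneg, hcyc]
  have ψy : ψ (1, -1, -1) = y := by
    show e _ = y
    rw [hye]
    exact congrArg e (by
      simp only [show -(1 : ZMod 3) + -1 + -1 = 0 by decide,  
        show (-1 : ZMod 3) - -1 = 0 by decide, mul_zero, zero_sub, neg_neg])
  have ψz : ψ (1, 1, 1) = pw z μ := by
    show pw z _ * pw y _ * pw d _ = _
    simp only [show -(1 : ZMod 3) + 1 + 1 = 1 by decide, show -(1 : ZMod 3) - 1 - 1 = 0 by decide,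
      show (1 : ZMod 3) - 1 = 0 by decide, mul_zero, mul_one, pw_zero]
  have hzp : IsPt Z (pw z μ) := IsPt.of_mem (pw_mem D.z_mem μ) fun e' =>
    D.z_ne (mem_bot.1 (mem_of_pw hz3 hμ (mem_bot.2 e')))
  set a := decide (IsPt Z (ψ (1, 0, 0))) with ha
  set o := decide (IsPt Z (ψ (0, 1, 1))) with ho
  have hpts : ∀ v, v ≠ 0 → (ptsB a o v = true ↔ IsPt Z (ψ v)) := by
    intro v hv
    obtain ⟨i, k, s, rfl, hval⟩ := reps_all v hv
    rw [hval a o, hmove]
    fin_cases i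
    · simp [reps, ψz, hzp]
    · simp [reps, ψy, D.side.pt]
    · simp [reps, ha]
    · simp [reps, ho]
    · simp only [reps]
      refine iff_of_false (by simp) fun hp => D.flag1.notZ (mem_of_pw hd3 hε ?_)
      have hp' : IsPt Z (ψ (0, 1, -1)) := hp
      rw [ψd] at hp'
      exact h.pt_mem hp' (pw_mem hdQ ε)
  obtain ⟨ha0, ho0⟩ := ptsB_forced a o fun v hv hvp => by
    set c := ψ v with hc
    have hcpt : IsPt Z c := (hpts v hv).1 hvp
    have hcA : c ∈ A := eA _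
    obtain ⟨Z', Q', R, R', M, M', s, s', y', T, hcZ', hiff⟩ := D.side.at_pt (mem_inf.1 hcA).1 hcpt
    have hW : Fx Q' y' ≤ E := T.W_le
    have hk : ¬ ∀ x ∈ A ⊓ Fx Q' y', x = 1 ∨ x = c ∨ x = c⁻¹ := by
      intro hall
      have hsub : ((A ⊓ Fx Q' y' : Subgroup G) : Set G) ⊆ {1, c, c⁻¹} := fun x hx => by
        simpa using hall x hx
      have h3 : Nat.card ↥(A ⊓ Fx Q' y') ≤ 3 := by
        rw [← SetLike.coe_sort_coe, Nat.card_coe_set_eq]
        exact (Set.ncard_le_ncard hsub).trans ((Set.ncard_insert_le _ _).trans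
          (Nat.succ_le_succ ((Set.ncard_insert_le _ _).trans (by rw [Set.ncard_singleton]))))
      have hc' := card_sup_mul_inf (A := A) (B := Fx Q' y') (fun w hw => Subgroup.mem_normalizer_fintype
        fun v hv => by
          rw [SetLike.mem_coe, D.side.comm (hW hw) (mem_inf.1 hv).1, mul_inv_cancel_right]; exact hv)
      have hA27 : Nat.card ↥A = 27 := by
        rw [← Nat.card_congr (Equiv.ofBijective (fun v : V3 => (⟨ψ v, eA _⟩ : ↥A))
          ⟨fun v w hvw => ψinj (congrArg Subtype.val hvw), fun g => by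
            obtain ⟨v, hv⟩ := (ψsurj g).1 g.2; exact ⟨v, Subtype.ext hv⟩⟩)]
        simp
      have hle := Subgroup.card_le_of_le (sup_le inf_le_left hW : A ⊔ Fx Q' y' ≤ E)
      rw [D.side.card_E] at hle
      rw [T.card_W, hA27] at hc'
      nlinarith
    push Not at hk
    obtain ⟨x, hx, hx1, hxc, hxc'⟩ := hk
    obtain ⟨hxA, hxW⟩ := mem_inf.1 hx
    obtain ⟨w, rfl⟩ := (ψsurj x).1 hxA
    have hw0 : w ≠ 0 := fun e' => hx1 (by rw [e', ψ0])
    have hwv : w ≠ v := fun e' => hxc (by rw [e'])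
    have hwv' : w ≠ -v := fun e' => hxc' (by rw [e', ψneg, hc])
    have hno : ∀ u, u ≠ 0 → u ≠ v → u ≠ -v → ψ u ∈ Q' → ptsB a o u = false := by
      intro u hu huv huv' huQ
      by_contra hp
      have hup := (hpts u hu).1 (by simpa using hp)
      have h1 := T.frame.set.pt_mem ((hiff _).2 hup) huQ
      rcases zp_cases T.frame.set.Z_card hcZ' hcpt.ne_one h1 with e' | e' | e'
      · exact hu (ψinj (e'.trans ψ0.symm))
      · exact huv (ψinj e')
      · exact huv' (ψinj (e'.trans (ψneg v).symm))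
    have hcQ : c ∈ Q' := T.frame.set.Z_le hcZ'
    refine ⟨w, hw0, hwv, hwv', fun _ => hno w hw0 hwv hwv' hxW.1, hno _ ?_ ?_ ?_ ?_, hno _ ?_ ?_ ?_ ?_⟩
    · exact fun e' => hwv' (eq_neg_of_add_eq_zero_right e')
    · exact fun e' => hw0 (add_eq_left.1 e')
    · intro e'
      refine hwv ((by decide +kernel : ∀ v w : V3, v + w = -v → w = v) v w e')
    · rw [ψadd]; exact mul_mem hcQ hxW.1
    · exact fun e' => hwv (sub_eq_zero.1 e').symm
    · exact fun e' => hw0 (sub_eq_self.1 e')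
    · intro e'
      exact hwv' ((by decide +kernel : ∀ v w : V3, v - w = -v → w = -v) v w e')
    · rw [sub_eq_add_neg, ψadd, ψneg]; exact mul_mem hcQ (inv_mem hxW.1)
  have hpt : ∀ v, IsPt Z (ψ v) ↔ full v := by
    intro v
    by_cases hv : v = 0
    · subst hv
      exact iff_of_false (fun hp => hp.ne_one ψ0) (by decide +kernel)
    rw [← hpts v hv, ha0, ho0]
    exact ptsB_full v hv
  -- the action of `n`
  have hnA : ∀ v, n * ψ v * n⁻¹ ∈ A := fun v => (mem_normalizer_iff.1 U.nA _).1 (eA _)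
  choose f hf using fun v => (ψsurj _).1 (hnA v)
  have hfadd : ∀ v w, f (v + w) = f v + f w := fun v w => ψinj (by rw [hf, ψadd, ψadd, hf, hf]; group)
  obtain ⟨s, hs⟩ : ∃ s : Bool, f (1, -1, -1) = (bif s then (1, 1, 1) else -(1, 1, 1)) := by
    have hny : n * y * n⁻¹ ∈ Z := U.ny
    have hw : ψ (1, 1, 1) ∈ Z := ψz ▸ pw_mem D.z_mem μ
    rcases zp_cases h.Z_card hw (fun e' => hzp.ne_one (ψz ▸ e')) hny with e' | e' | e'
    · exact absurd (conj_eq_one_iff.1 e') D.side.pt.ne_one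
    · exact ⟨true, ψinj (by rw [hf, ψy, e']; rfl)⟩
    · exact ⟨false, ψinj (by rw [hf, ψy, e']; exact (ψneg _).symm)⟩
  have hfd : f (0, 1, -1) = (0, 1, -1) := ψinj (by
    rw [hf, ψd, conj_pw, U.nd, mul_inv_cancel_right])
  have hflin : ∀ v, f v = linV (f (1, 1, 1)) s v := by
    have hz0 : f 0 = 0 := (v3_zero _).1.2 (by rw [← hfadd, add_zero])
    have hsm : ∀ (k : ZMod 3) v, f (k • v) = k • f v := by
      intro k v
      rcases pw_facts.2.2.2 k with e' | e' | e' <;> subst e'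
      · simp [hz0]
      · simp
      · rw [neg_one_smul, neg_one_smul]
        exact eq_neg_of_add_eq_zero_left (by rw [← hfadd, neg_add_cancel, hz0])
    intro v
    have hdec : v = (-v.1 + v.2.1 + v.2.2) • ((1, 1, 1) : V3) + (-v.1 - v.2.1 - v.2.2) • ((1, -1, -1) : V3) +
        (v.2.2 - v.2.1) • ((0, 1, -1) : V3) := (by decide +kernel : ∀ v : V3,
      v = (-v.1 + v.2.1 + v.2.2) • ((1, 1, 1) : V3) + (-v.1 - v.2.1 - v.2.2) • ((1, -1, -1) : V3) +
        (v.2.2 - v.2.1) • ((0, 1, -1) : V3)) v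
    rw [congrArg f hdec, hfadd, hfadd, hsm, hsm, hsm, hs, hfd]
    exact (by decide +kernel : ∀ (u : V3) (s : Bool) (v : V3),
      (-v.1 + v.2.1 + v.2.2) • u + (-v.1 - v.2.1 - v.2.2) • (bif s then ((1, 1, 1) : V3) else -(1, 1, 1)) +
        (v.2.2 - v.2.1) • ((0, 1, -1) : V3) = linV u s v) _ s v
  have hlin := linV_forced (f (1, 1, 1)) s (fun i => by
      rw [← hflin]
      refine (hpt _).1 ?_
      rw [hf]
      exact ((hpt _).2 ((full_iff _).2 ⟨i, Or.inl rfl⟩)).conj n) (fun v hv => by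
      rw [← hflin] at hv
      refine ψinj ?_
      rw [ψ0]
      have h1 := hf v
      rw [hv, ψ0] at h1
      exact conj_eq_one_iff.1 h1.symm)
  refine ⟨b, ψ, ψadd, ψinj, ψsurj, ψz ▸ pw_mem D.z_mem μ, ψy, ψd ▸ pw_mem (mem_zpowers d) ε, hpt, hb, ψb, ?_⟩
  rcases hlin with hl | hl
  · exact ⟨nWA, Or.inl rfl, fun v => by rw [← hf, hflin, hl]⟩
  · exact ⟨nWB, Or.inr rfl, fun v => by rw [← hf, hflin, hl]⟩

end Cfsg.Agent.UThreeLocal.Cand
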