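import Cfsg.Agent.Lib.UThreeLocal.Cand.Side

/-!
# An element `d` of `E ∩ Q₁` lying also in the radical of `y`

`C_H(d) = L₂ C_Q(d)⟨y⟩`, its Sylow subgroup `C_Q(d)⟨y⟩` is one of `C(d)`, and a point with `d` in its
radical is conjugate into `Z` inside `C(d)`; for `y` this can be done commuting with `t₂`.
-/

set_option autoImplicit false
set_option linter.unusedSectionVars false
set_option linter.style.haveILetI false

namespace Cfsg.Agent.UThreeLocal.Cand

open Subgroup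
open scoped commutatorElement

universe u

variable {G : Type u} [Group G] [Finite G]

/-- The data of part B: `t2` fixes `d` and `y` and inverts `a2`. -/
structure Dat (Z Q Q1 Q2 L1 L2 E : Subgroup G) (t1 t2 z y d a2 : G) : Prop where
  side : Side Z Q Q1 Q2 L1 L2 E t1 t2 y
  z_mem : z ∈ Z
  z_ne : z ≠ 1
  y_t2 : t2 * y = y * t2
  flag1 : Flag Z Q1 (zpowers y) d
  flag2 : Flag Z Q2 (zpowers y) a2
  a2_inv : t2 * a2 * t2⁻¹ = a2⁻¹
  d_rad : ∀ g : G, y ∈ cj g Z → d ∈ cj g Q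
  sig : ∀ K : Subgroup G, (Nat.card ↥K).Coprime 3 → E ≤ normalizer (K : Set G) → K = ⊥

/-- A flag may be moved by an element of `Z`. -/
theorem flag_change {Z Q R P : Subgroup G} {a b : G} (h : Setting Z Q) (hRQ : R ≤ Q) (hZR : Z ≤ R)
    (hPC : P ≤ centralizer (Z : Set G)) (f : Flag Z R P a) (hb : a⁻¹ * b ∈ Z) : Flag Z R P b := by
  set w := a⁻¹ * b with hw
  have eb : b = a * w := by rw [hw, mul_inv_cancel_left]
  rw [eb]
  refine ⟨mul_mem f.mem (hZR hb), fun hm => f.notZ ((mul_mem_cancel_right hb).1 hm), fun c hc => ?_,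
    fun c hc x hx => ?_⟩
  · have haQ : a ∈ Q := hRQ f.mem
    have e : (a * w)⁻¹ * (c * (a * w) * c⁻¹) = w⁻¹ * (a⁻¹ * (c * a * c⁻¹)) * (c * w * c⁻¹) := by group
    rw [e, h.conj_Z (hPC hc) hb]
    exact mul_mem (mul_mem (inv_mem hb) (f.fix c hc)) hb
  · have hle : Z ⊔ zpowers a ≤ Z ⊔ zpowers (a * w) := sup_le le_sup_left (zpowers_le.2 (by
      rw [show a = a * w * w⁻¹ by rw [mul_inv_cancel_right]]
      exact mul_mem (mem_sup_right (by rw [mul_inv_cancel_right]; exact mem_zpowers _)) (mem_sup_left (inv_mem hb))))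
    exact hle (f.move c hc x hx)

theorem exists_dat {Z Q Q1 Q2 L1 L2 E : Subgroup G} {t1 t2 z y a1 a2 : G}
    (h : Local Z Q Q1 Q2 L1 L2 E t1 t2 z y a1 a2) : ∃ d b, Dat Z Q Q1 Q2 L1 L2 E t1 t2 z y d b := by
  have S : Side Z Q Q1 Q2 L1 L2 E t1 t2 y := ⟨h.frame, h.small, h.pt, h.y_cent, h.y_not, h.E_eq⟩
  have F := h.frame
  have hS := F.set
  have hPC : zpowers y ≤ centralizer (Z : Set G) := zpowers_le.2 h.y_cent
  obtain ⟨g, hyg, hzp, -, -, hzside, -, -⟩ := F.pt_side h.pt h.y_cent h.y_not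
  obtain ⟨hzC, hzZ', hzQ', hzpt⟩ := hzside z h.z_mem h.z_ne
  have hE := h.other g hyg
  set W' := Fx (cj g Q) z with hW'
  have hW'c : Nat.card ↥W' = 27 := (F.conj g).card_Fx_pt hzpt hzC hzZ'
  have hW'E : W' ≤ E := hE ▸ le_sup_left
  set D := Fx Q y ⊓ W' with hD
  have hDE : Fx Q y ⊔ W' ≤ E := sup_le S.W_le hW'E
  have hD9 : 9 ≤ Nat.card ↥D := by
    have hc := card_sup_mul_inf (A := Fx Q y) (B := W') (fun w hw => Subgroup.mem_normalizer_fintype fun v hv => by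
      rw [SetLike.mem_coe, S.comm (hW'E hw) (S.W_le hv), mul_inv_cancel_right]; exact hv)
    rw [S.card_W, hW'c] at hc
    have h81 := Subgroup.card_le_of_le hDE
    rw [S.card_E] at h81
    by_contra hlt
    nlinarith
  have hDZ : D ⊓ Z = ⊥ := by
    refine eq_bot_iff.2 fun x hx => ?_
    by_contra hx1
    rw [mem_bot] at hx1
    exact hzQ' ((zpowers_le.2 (mem_inf.1 (mem_inf.1 hx).1).2.1)
      (by rw [zpowers_eq_of_prime hS.Z_card hx.2 hx1]; exact h.z_mem))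
  have hDZW : D ⊔ Z = Fx Q y := by
    refine Subgroup.eq_of_le_of_card_ge (sup_le inf_le_left S.Z_le_W) ?_
    have hc := card_sup_mul_inf (A := D) (B := Z) (fun x hx => Subgroup.mem_normalizer_fintype fun w hw => by
      rw [SetLike.mem_coe, hS.comm_Z (mem_inf.1 (mem_inf.1 hw).1).1 hx, mul_inv_cancel_right]; exact hw)
    rw [hDZ, card_bot, mul_one, hS.Z_card] at hc
    rw [S.card_W, hc]
    omega
  have ha1 := S.a1_mem h.flag1 h.flag2
  rw [← hDZW, ← SetLike.mem_coe, Subgroup.coe_mul_of_right_le_normalizer_left D Z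
    (fun x hx => Subgroup.mem_normalizer_fintype fun w hw => by
      rw [SetLike.mem_coe, hS.comm_Z (mem_inf.1 (mem_inf.1 hw).1).1 hx, mul_inv_cancel_right]; exact hw),
    Set.mem_mul] at ha1
  obtain ⟨d, hd, w, hw, e1⟩ := ha1
  set ζ := t2 * a2 * t2⁻¹ * a2 with hζ
  have hζZ : ζ ∈ Z := F.t2_inv a2 h.flag2.mem
  clear_value ζ
  refine ⟨d, a2 * ζ, S, h.z_mem, h.z_ne, h.y_t2,
    flag_change hS F.pair.le1 F.pair.Z1 hPC h.flag1 (by rw [← e1]; group; rw [zpow_neg_one]; exact inv_mem hw),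
    flag_change hS F.pair.le2 F.pair.Z2 hPC h.flag2 (by rw [inv_mul_cancel_left]; exact hζZ), ?_, ?_, h.sig⟩
  · have ha2 : a2 ∈ Q := F.pair.le2 h.flag2.mem
    have ht : t2 ∈ centralizer (Z : Set G) := F.L2_le F.t2_mem
    have e : t2 * a2 * t2⁻¹ = ζ * a2⁻¹ := by rw [hζ, mul_inv_cancel_right]
    have h3 := hS.Z_cube hζZ
    have e2 : ζ * ζ = ζ⁻¹ := eq_inv_of_mul_eq_one_left (by rw [← pow_two, ← pow_succ, h3])
    calc t2 * (a2 * ζ) * t2⁻¹ = (t2 * a2 * t2⁻¹) * (t2 * ζ * t2⁻¹) := by group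
      _ = ζ * a2⁻¹ * ζ := by rw [e, hS.conj_Z ht hζZ]
      _ = a2⁻¹ * (ζ * ζ) := by rw [hS.comm_Z (inv_mem ha2) hζZ, mul_assoc]
      _ = (a2 * ζ)⁻¹ := by
        rw [e2, mul_inv_rev]; exact (hS.comm_Z (inv_mem ha2) (inv_mem hζZ)).symm
  · intro g' hg'
    have hd' : d ∈ cj g Q := (mem_inf.1 (mem_inf.1 hd).2).1
    have hgZ : cj g' Z = cj g Z := by
      rw [← zpowers_eq_of_prime (Z := cj g' Z) (by rw [card_cj, hS.Z_card]) hg' h.pt.ne_one, hzp]
    have hn : g⁻¹ * g' ∈ normalizer (Z : Set G) := by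
      refine Subgroup.mem_normalizer_fintype fun x hx => ?_
      have h1 : g' * x * g'⁻¹ ∈ cj g Z := hgZ ▸ conj_mem_cj.2 hx
      rw [mem_cj] at h1
      rw [SetLike.mem_coe, show g⁻¹ * g' * x * (g⁻¹ * g')⁻¹ = g⁻¹ * (g' * x * g'⁻¹) * g by group]
      exact h1
    rw [mem_cj] at hd' ⊢
    have := (mem_normalizer_iff.1 (inv_mem (F.normalizer_le_normalizer_Q hn)) _).1 hd'
    convert this using 1
    group

namespace Dat

variable {Z Q Q1 Q2 L1 L2 E : Subgroup G} {t1 t2 z y d a2 : G} (D : Dat Z Q Q1 Q2 L1 L2 E t1 t2 z y d a2)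
include D

theorem frame : Frame Z Q Q1 Q2 L1 L2 t1 t2 := D.side.frame

theorem set : Setting Z Q := D.side.frame.set

theorem d_W : d ∈ Fx Q y := D.side.a1_mem D.flag1 D.flag2

theorem a2_W : a2 ∈ Fx Q y := D.side.symm.a1_mem D.flag2 D.flag1

theorem d_E : d ∈ E := D.side.W_le D.d_W

theorem z_E : z ∈ E := D.side.W_le (D.side.Z_le_W D.z_mem)

theorem d_ne : d ≠ 1 := fun e => D.flag1.notZ (e ▸ one_mem Z)

theorem t2_cent : t2 ∈ centralizer (Z : Set G) := D.frame.L2_le D.frame.t2_mem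

theorem t2_sq : t2 * t2 = 1 := by rw [← pow_two, ← D.frame.t2_two, pow_orderOf_eq_one]

theorem t2_ne : t2 ≠ 1 := fun e => by
  have := D.frame.t2_two
  rw [e, orderOf_one] at this
  omega

theorem t2_fix {x : G} (hx : x ∈ Q1) : t2 * x = x * t2 :=
  (mem_centralizer_iff.1 (D.frame.L2_cent D.frame.t2_mem) x hx).symm

theorem z_cent {g : G} (hg : g ∈ centralizer (Z : Set G)) : g * z = z * g :=
  (mem_centralizer_iff.1 hg z D.z_mem).symm

theorem mem_CZ {g : G} (hg : g * z = z * g) : g ∈ centralizer (Z : Set G) := mem_centralizer_iff.2 fun w hw => by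
  obtain ⟨n, rfl⟩ := mem_zpowers_iff.1 ((zpowers_eq_of_prime D.set.Z_card D.z_mem D.z_ne).ge hw)
  exact ((show Commute z g from hg.symm).zpow_left n).eq

theorem L2_pow {l : G} (hl : l ∈ L2) : l ^ 8 = 1 := by
  have h := pow_card_eq_one' (x := (⟨l, hl⟩ : ↥L2))
  rw [D.frame.L2_card] at h
  simpa using congrArg Subtype.val h

theorem L2_d {l : G} (hl : l ∈ L2) : l * d = d * l :=
  (mem_centralizer_iff.1 (D.frame.L2_cent hl) d D.flag1.mem).symm

theorem L2_t2 {l : G} (hl : l ∈ L2) : t2 * l = l * t2 := D.frame.t2_comm l hl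

/-- `C_H(d) = L₂ C_Q(d) ⟨y⟩`. -/
theorem cent_d {c : G} (hc : c ∈ centralizer (Z : Set G)) (hcd : c * d = d * c) :
    ∃ l ∈ L2, ∃ q ∈ Fx Q d, ∃ i : Fin 3, c = l * (q * y ^ (i : ℕ)) := by
  have F := D.frame
  have h := D.set
  have hfix : d⁻¹ * (c * d * c⁻¹) ∈ Z := by rw [hcd, mul_inv_cancel_right, inv_mul_cancel]; exact one_mem _
  have hp : ∀ x, x ∈ Q2 ↔ c * x * c⁻¹ ∈ Q2 := by
    refine ((F.perm c hc).resolve_right fun hs => ?_).2
    have h2 := (hs.1 d).1 D.flag1.mem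
    rw [hcd, mul_inv_cancel_right] at h2
    exact D.flag1.notZ (F.not_swap_both D.flag1.mem h2)
  have hcaQ : c * a2 * c⁻¹ ∈ Q2 := (hp a2).1 D.flag2.mem
  have hcaZ : c * a2 * c⁻¹ ∉ Z := fun hz => D.flag2.notZ (by
    have := h.conj_Z (inv_mem hc) hz
    rw [show c⁻¹ * (c * a2 * c⁻¹) * c⁻¹⁻¹ = a2 by group] at this
    exact this ▸ hz)
  obtain ⟨l, hl, w, hw, e⟩ := F.trans2 a2 D.flag2.mem D.flag2.notZ _ hcaQ hcaZ
  have hlC := F.L2_le hl
  set c' := l⁻¹ * c with hc'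
  have hc'C : c' ∈ centralizer (Z : Set G) := mul_mem (inv_mem hlC) hc
  have hc'd : c' * d = d * c' := by
    rw [hc', mul_assoc, hcd, ← mul_assoc, ← mul_assoc, D.L2_d (inv_mem hl)]
  have h2 : a2⁻¹ * (c' * a2 * c'⁻¹) ∈ Z := by
    have e2 : c' * a2 * c'⁻¹ = a2 * w := by
      calc c' * a2 * c'⁻¹ = l⁻¹ * (c * a2 * c⁻¹) * l := by rw [hc']; group
        _ = a2 * (l⁻¹ * w * l⁻¹⁻¹) := by rw [← e]; group
        _ = a2 * w := by rw [h.conj_Z (inv_mem hlC) hw]
    rw [e2, inv_mul_cancel_left]; exact hw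
  obtain ⟨q, hq, i, e'⟩ := mem_sup_zpowers (zpowers_le.2 (h.Q_norm D.side.y_cent)) D.side.y_cube
    (D.side.mem_S D.flag1 D.flag2 hc'C (by rw [hc'd, mul_inv_cancel_right, inv_mul_cancel]; exact one_mem _) h2)
  refine ⟨l, hl, q, mem_inf.2 ⟨hq, mem_centralizer_singleton_iff.2 ?_⟩, i, by rw [← e', hc', mul_inv_cancel_left]⟩
  rw [show q = c' * (y ^ (i : ℕ))⁻¹ by rw [e', mul_inv_cancel_right]]
  exact (show Commute d (c' * (y ^ (i : ℕ))⁻¹) from
    (show Commute c' d from hc'd).symm.mul_right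
      ((show Commute d y from D.side.comm D.d_E D.side.y_mem).pow_right (i : ℕ)).inv_right).eq.symm

theorem mem_L2_iff {x : G} : x ∈ L2 ↔
    x ∈ centralizer (Z : Set G) ∧ (∀ u ∈ Q1, x * u = u * x) ∧ t2 * x = x * t2 ∧ x ^ 8 = 1 := by
  have F := D.frame
  have h := D.set
  refine ⟨fun hx => ⟨F.L2_le hx, fun u hu => (mem_centralizer_iff.1 (F.L2_cent hx) u hu).symm, D.L2_t2 hx,
    D.L2_pow hx⟩, fun ⟨hxC, hxQ, hxt, hx8⟩ => ?_⟩
  obtain ⟨l, hl, q, hq, i, rfl⟩ := D.cent_d hxC (hxQ d D.flag1.mem)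
  have hy : ∀ u ∈ Q1, (q * y ^ (i : ℕ)) * u = u * (q * y ^ (i : ℕ)) := fun u hu => by
    have hl' : l * u = u * l := (mem_centralizer_iff.1 (F.L2_cent hl) u hu).symm
    refine mul_left_cancel (a := l) ?_
    rw [← mul_assoc, hxQ u hu, ← mul_assoc l u, hl', mul_assoc u l]
  have hT : Triv Z Q1 (y ^ (i : ℕ)) := fun u hu => by
    rw [show y ^ (i : ℕ) = q⁻¹ * (q * y ^ (i : ℕ)) by group, shift_mul, hy u hu, mul_inv_cancel_right,
      inv_mul_cancel, mul_one, mul_inv_cancel, mul_one]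
    exact F.triv_Q (inv_mem hq.1) F.pair.le1 u hu
  have hi : (i : ℕ) = 0 := by
    rcases (by omega : (i : ℕ) = 0 ∨ (i : ℕ) = 1 ∨ (i : ℕ) = 2) with h0 | h1 | h2
    · exact h0
    · rw [h1, pow_one] at hT; exact absurd hT D.side.nontriv.1
    · refine absurd ?_ D.side.nontriv.1
      have e : y = (y ^ (i : ℕ))⁻¹ := eq_inv_of_mul_eq_one_right (by rw [h2, ← pow_succ, D.side.y_cube])
      rw [e]
      exact triv_inv h (pow_mem D.side.y_cent _) hT
  rw [hi, pow_zero, mul_one] at hy hxt hx8 ⊢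
  obtain ⟨u, hu, v, hv, rfl⟩ := F.pair.dec q hq.1
  have huZ : u ∈ Z := h.mem_Z_of_comm (F.pair.le1 hu) fun w hw => by
    obtain ⟨a, ha, b, hb, rfl⟩ := F.pair.dec w hw
    have e1 : a * u = u * a := by
      refine mul_right_cancel (b := v) ?_
      rw [mul_assoc, ← hy a ha, mul_assoc u v a, ← F.pair.comm a ha v hv, ← mul_assoc]
    rw [mul_assoc, ← F.pair.comm u hu b hb, ← mul_assoc, e1, mul_assoc]
  have hqt : t2 * (u * v) = u * v * t2 := by
    refine mul_left_cancel (a := l) ?_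
    rw [← mul_assoc l t2, ← D.L2_t2 hl, mul_assoc t2 l, hxt, mul_assoc]
  have hq2 : u * v ∈ Q2 := mul_mem (F.pair.Z2 huZ) hv
  have hqZ : u * v ∈ Z := by
    have h1 := F.t2_inv _ hq2
    rw [hqt, mul_inv_cancel_right] at h1
    have h3 := F.cube _ hq.1
    rw [show u * v = (u * v) ^ 3 * (u * v * (u * v))⁻¹ by rw [pow_succ, pow_two]; group, h3, one_mul]
    exact inv_mem h1
  have hc : Commute l (u * v) := (mem_centralizer_iff.1 (F.L2_le hl) _ hqZ).symm
  rw [hc.mul_pow, D.L2_pow hl, one_mul, pow_eq_pow_mod 8 (F.cube _ hq.1)] at hx8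
  have hq1 : u * v = 1 := by
    have h3 := F.cube _ hq.1
    rw [pow_succ, hx8, one_mul] at h3
    exact h3
  rw [hq1, mul_one]; exact hl

theorem Q1_eq : Fx Q t2 = Q1 := by
  have F := D.frame
  refine le_antisymm (fun x hx => ?_) fun x hx => mem_Fx.2 ⟨F.pair.le1 hx, by
    rw [D.t2_fix hx, mul_inv_cancel_right]⟩
  obtain ⟨hxQ, hxt⟩ := mem_Fx.1 hx
  obtain ⟨u, hu, v, hv, rfl⟩ := F.pair.dec x hxQ
  have hvt : t2 * v * t2⁻¹ = v := by
    rw [show t2 * (u * v) * t2⁻¹ = (t2 * u * t2⁻¹) * (t2 * v * t2⁻¹) by group, D.t2_fix hu,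
      mul_inv_cancel_right] at hxt
    exact mul_left_cancel hxt
  have h1 := F.t2_inv v hv
  rw [hvt] at h1
  refine mul_mem hu (F.pair.Z1 ?_)
  rw [show v = v ^ 3 * (v * v)⁻¹ by rw [pow_succ, pow_two]; group, F.cube v (F.pair.le2 hv), one_mul]
  exact inv_mem h1

theorem norm_Q1 {c : G} (hc : c ∈ normalizer (Z : Set G)) (hct : c * t2 = t2 * c) :
    c ∈ normalizer (Q1 : Set G) := by
  rw [← D.Q1_eq]
  refine Subgroup.mem_normalizer_fintype fun x hx => ?_
  obtain ⟨hxQ, hxt⟩ := mem_Fx.1 hx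
  refine mem_Fx.2 ⟨(mem_normalizer_iff.1 (D.frame.normalizer_le_normalizer_Q hc) x).1 hxQ, ?_⟩
  calc t2 * (c * x * c⁻¹) * t2⁻¹ = (t2 * c) * x * (t2 * c)⁻¹ := by group
    _ = c * (t2 * x * t2⁻¹) * c⁻¹ := by rw [← hct]; group
    _ = _ := by rw [hxt]

theorem norm_L2 {c : G} (hc : c ∈ normalizer (Z : Set G)) (hct : c * t2 = t2 * c) :
    c ∈ normalizer (L2 : Set G) := by
  refine Subgroup.mem_normalizer_fintype fun x hx => ?_
  obtain ⟨h1, h2, h3, h4⟩ := D.mem_L2_iff.1 hx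
  refine D.mem_L2_iff.2 ⟨mem_centralizer_iff.2 fun w hw => ?_, fun u hu => ?_, ?_, by
    rw [conj_pow, h4, mul_one, mul_inv_cancel]⟩
  · have hw' : c⁻¹ * w * c ∈ Z := by
      have := (mem_normalizer_iff.1 (inv_mem hc) w).1 hw
      rwa [inv_inv] at this
    calc w * (c * x * c⁻¹) = c * ((c⁻¹ * w * c) * x) * c⁻¹ := by group
      _ = _ := by rw [mem_centralizer_iff.1 h1 _ hw']; group
  · have hu' : c⁻¹ * u * c ∈ Q1 := by
      have := (mem_normalizer_iff.1 (inv_mem (D.norm_Q1 hc hct)) u).1 hu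
      rwa [inv_inv] at this
    calc c * x * c⁻¹ * u = c * (x * (c⁻¹ * u * c)) * c⁻¹ := by group
      _ = _ := by rw [h2 _ hu']; group
  · calc t2 * (c * x * c⁻¹) = (t2 * c) * x * c⁻¹ := by group
      _ = c * (t2 * x) * c⁻¹ := by rw [← hct]; group
      _ = c * x * (t2 * c⁻¹) := by rw [h3]; group
      _ = _ := by rw [(show Commute t2 c from hct.symm).inv_right.eq]; group

/-- `C_Q(d)⟨y⟩`. -/
def T (_D : Dat Z Q Q1 Q2 L1 L2 E t1 t2 z y d a2) : Subgroup G := Fx Q d ⊔ zpowers y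

theorem y_norm_Fxd : zpowers y ≤ normalizer ((Fx Q d : Subgroup G) : Set G) :=
  zpowers_le.2 (Subgroup.mem_normalizer_fintype fun x hx => by
    obtain ⟨hxQ, hxd⟩ := mem_Fx.1 hx
    refine mem_Fx.2 ⟨D.set.conj_mem D.side.y_cent hxQ, ?_⟩
    have e : d * y = y * d := D.side.comm D.d_E D.side.y_mem
    calc d * (y * x * y⁻¹) * d⁻¹ = (d * y) * x * (d * y)⁻¹ := by group
      _ = y * (d * x * d⁻¹) * y⁻¹ := by rw [e]; group
      _ = _ := by rw [hxd])

theorem mem_T {x : G} : x ∈ D.T ↔ ∃ q ∈ Fx Q d, ∃ i : Fin 3, x = q * y ^ (i : ℕ) :=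
  ⟨fun h => mem_sup_zpowers D.y_norm_Fxd D.side.y_cube h, by
    rintro ⟨q, hq, i, rfl⟩; exact mul_mem_sup hq (pow_mem (mem_zpowers y) _)⟩

theorem Q2_le_Fxd : Q2 ≤ Fx Q d := fun x hx => mem_Fx.2 ⟨D.frame.pair.le2 hx, by
  rw [D.frame.pair.comm d D.flag1.mem x hx, mul_inv_cancel_right]⟩

theorem card_Fxd : Nat.card ↥(Fx Q d) = 81 := by
  have F := D.frame
  have h := D.set
  have heq : Fx Q d = (Z ⊔ zpowers d) ⊔ Q2 := by
    refine le_antisymm (fun x hx => ?_) (sup_le (sup_le ?_ ?_) D.Q2_le_Fxd)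
    · obtain ⟨hxQ, hxd⟩ := mem_Fx.1 hx
      obtain ⟨u, hu, v, hv, rfl⟩ := F.pair.dec x hxQ
      refine mul_mem_sup ?_ hv
      rw [← F.pair.cent_eq h D.flag1.mem D.flag1.notZ]
      refine mem_inf.2 ⟨hu, mem_centralizer_singleton_iff.2 ?_⟩
      rw [show d * (u * v) * d⁻¹ = (d * u * d⁻¹) * (d * v * d⁻¹) by group,
        F.pair.comm d D.flag1.mem v hv, mul_inv_cancel_right] at hxd
      exact (mul_inv_eq_iff_eq_mul.1 (mul_right_cancel hxd)).symm
    · exact h.Z_le_Fx (h.Q_le (F.pair.le1 D.flag1.mem))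
    · exact zpowers_le.2 (mem_Fx.2 ⟨F.pair.le1 D.flag1.mem, mul_inv_cancel_right d d⟩)
  have hA : Z ⊔ zpowers d ≤ Q1 := sup_le F.pair.Z1 (zpowers_le.2 D.flag1.mem)
  have hc := card_sup_mul_inf (A := Z ⊔ zpowers d) (B := Q2)
    (F.pair.le2.trans (h.normal_of_Z_le (hA.trans F.pair.le1) le_sup_left))
  have hi : (Z ⊔ zpowers d) ⊓ Q2 = Z :=
    le_antisymm (fun x hx => F.not_swap_both (hA hx.1) hx.2) (le_inf le_sup_left F.pair.Z2)
  rw [hi, h.Z_card, F.card_flag D.flag1, F.pair.card2, ← heq] at hc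
  omega

theorem card_T : Nat.card ↥D.T = 243 := by
  have hcy : Nat.card ↥(zpowers y) = 3 := by
    haveI : Fact (Nat.Prime 3) := ⟨Nat.prime_three⟩
    rw [Nat.card_zpowers, orderOf_eq_prime D.side.y_cube D.side.pt.ne_one]
  have hc := card_sup_mul_inf (A := Fx Q d) (B := zpowers y) D.y_norm_Fxd
  have hi : Fx Q d ⊓ zpowers y = ⊥ := eq_bot_iff.2 fun x hx => by
    by_contra hx1
    rw [mem_bot] at hx1
    exact D.side.y_notQ ((zpowers_le.2 hx.1.1) (by rw [zpowers_eq_of_prime hcy hx.2 hx1]; exact mem_zpowers y))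
  rw [hi, card_bot, mul_one, D.card_Fxd, hcy] at hc
  exact hc

theorem T_le : D.T ≤ centralizer (Z : Set G) ⊓ centralizer ({d} : Set G) := sup_le
  (fun x hx => mem_inf.2 ⟨D.set.Q_le hx.1, hx.2⟩)
  (zpowers_le.2 (mem_inf.2 ⟨D.side.y_cent, mem_centralizer_singleton_iff.2 (D.side.comm D.side.y_mem D.d_E)⟩))

theorem T_pgroup : IsPGroup 3 ↥D.T := IsPGroup.of_card (n := 5) (by rw [D.card_T]; norm_num)

theorem E_le_T : E ≤ D.T := D.side.E_eq.le.trans (sup_le_sup (fun x hx => mem_inf.2 ⟨hx.1,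
  mem_centralizer_singleton_iff.2 (D.side.comm (D.side.W_le hx) D.d_E)⟩) le_rfl)

/-- The centre of `C_Q(d)⟨y⟩`. -/
theorem center_T {x : G} (hx : x ∈ D.T) (hc : ∀ t ∈ D.T, x * t = t * x) : x ∈ Z ⊔ zpowers d := by
  have F := D.frame
  have hxC : x ∈ centralizer (Z : Set G) := (D.T_le hx).1
  have hxE : x ∈ E := D.side.cent_W hxC fun w hw => hc w (D.E_le_T (D.side.W_le hw))
  have hq2 : ∀ v ∈ Q2, x * v = v * x := fun v hv => hc v (mem_sup_left (D.Q2_le_Fxd hv))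
  have hxQ : x ∈ Q := by
    by_contra hxQ
    have he := D.side.Fx_eq hxE hxQ
    have hle : Q2 ≤ Fx Q y := fun v hv => he.le (mem_Fx.2 ⟨F.pair.le2 hv, by
      rw [hq2 v hv, mul_inv_cancel_right]⟩)
    exact D.side.nontriv.2 fun v hv => by
      rw [(mem_Fx.1 (hle hv)).2, inv_mul_cancel]; exact one_mem _
  have hxW := D.side.E_inf_Q x hxE hxQ
  obtain ⟨u, hu, v, hv, rfl⟩ := F.pair.dec x hxQ
  have hvZ : v ∈ Z := D.set.mem_Z_of_comm (F.pair.le2 hv) fun w hw => by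
    obtain ⟨a, ha, b, hb, rfl⟩ := F.pair.dec w hw
    have e1 : b * v = v * b := by
      refine mul_left_cancel (a := u) ?_
      rw [← mul_assoc u b, F.pair.comm u hu b hb, mul_assoc b u, ← hq2 b hb, mul_assoc]
    rw [mul_assoc, e1, ← mul_assoc, F.pair.comm a ha v hv, mul_assoc]
  refine mul_mem ?_ (mem_sup_left hvZ)
  rw [← F.pair.cent_eq D.set D.flag1.mem D.flag1.notZ]
  refine mem_inf.2 ⟨hu, mem_centralizer_singleton_iff.2 ?_⟩
  rw [show u = u * v * v⁻¹ by group]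
  exact (show Commute d (u * v * v⁻¹) from ((show Commute (u * v) d from D.side.comm hxE D.d_E).symm).mul_right
    (show Commute d v⁻¹ from (D.set.comm_Z (F.pair.le1 D.flag1.mem) (inv_mem hvZ)).symm)).eq.symm

theorem center_T_pt {x : G} (hx : x ∈ D.T) (hc : ∀ t ∈ D.T, x * t = t * x) (hpt : IsPt Z x) : x ∈ Z :=
  D.set.pt_mem hpt ((sup_le D.set.Z_le (zpowers_le.2 (D.frame.pair.le1 D.flag1.mem))) (D.center_T hx hc))

/-- `T` is a Sylow subgroup of `C(d)`. -/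
theorem T_max {P : Subgroup G} (hP : IsPGroup 3 ↥P) (hPd : P ≤ centralizer ({d} : Set G)) (hTP : D.T ≤ P) :
    P = D.T := by
  by_contra hne
  haveI : Fact (Nat.Prime 3) := ⟨Nat.prime_three⟩
  haveI : Group.IsNilpotent ↥P := hP.isNilpotent
  have hlt : D.T.subgroupOf P < normalizer ((D.T.subgroupOf P : Subgroup ↥P) : Set ↥P) := by
    refine normalizerCondition_of_isNilpotent _ ?_
    rw [lt_top_iff_ne_top, Ne, subgroupOf_eq_top]
    exact fun h => hne (le_antisymm h hTP)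
  obtain ⟨n, hn, hnT⟩ := SetLike.exists_of_lt hlt
  refine hnT (mem_subgroupOf.2 ?_)
  have hconj : ∀ t ∈ D.T, (n : G) * t * (n : G)⁻¹ ∈ D.T := fun t ht =>
    (mem_normalizer_iff.1 hn ⟨t, hTP ht⟩).1 ht
  have hzT : z ∈ D.T := D.E_le_T D.z_E
  set z' := (n : G) * z * (n : G)⁻¹ with hz'
  have hz'Z : z' ∈ Z := by
    refine D.center_T_pt (hconj z hzT) (fun t ht => ?_) ((IsPt.of_mem D.z_mem D.z_ne).conj _)
    have hsurj : ∃ t' ∈ D.T, (n : G) * t' * (n : G)⁻¹ = t := by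
      refine ⟨(n : G)⁻¹ * t * n, ?_, by group⟩
      have := (mem_normalizer_iff.1 (inv_mem hn) ⟨t, hTP ht⟩).1 ht
      simpa [mem_subgroupOf] using this
    obtain ⟨t', ht', rfl⟩ := hsurj
    calc (n : G) * z * (n : G)⁻¹ * ((n : G) * t' * (n : G)⁻¹) = (n : G) * (z * t') * (n : G)⁻¹ := by group
      _ = (n : G) * (t' * z) * (n : G)⁻¹ := by rw [← D.z_cent (D.T_le ht').1]
      _ = _ := by rw [hz']; group
  have hnC : (n : G) ∈ centralizer (Z : Set G) := by
    refine D.mem_CZ ?_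
    obtain ⟨k, hk⟩ := hP n
    have hk' : (n : G) ^ 3 ^ k = 1 := by simpa using congrArg Subtype.val hk
    obtain ⟨m, hm⟩ : Odd (3 ^ k) := Odd.pow ⟨1, rfl⟩
    by_contra hnz
    have hinv : (n : G) * z * (n : G)⁻¹ = z⁻¹ := by
      rw [← hz']
      rw [← zpowers_eq_of_prime D.set.Z_card D.z_mem D.z_ne] at hz'Z
      obtain ⟨j, hj⟩ := mem_zpowers_iff.1 hz'Z
      rw [zpow_eq_zpow_emod j (by exact_mod_cast D.set.Z_cube D.z_mem : z ^ ((3 : ℕ) : ℤ) = 1)] at hj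
      have h0 := Int.emod_nonneg j (show ((3 : ℕ) : ℤ) ≠ 0 by norm_num)
      have h1 := Int.emod_lt_of_pos j (show (0 : ℤ) < ((3 : ℕ) : ℤ) by norm_num)
      rcases (by omega : j % ((3 : ℕ) : ℤ) = 0 ∨ j % ((3 : ℕ) : ℤ) = 1 ∨ j % ((3 : ℕ) : ℤ) = 2) with e | e | e <;>
        rw [e] at hj
      · rw [zpow_zero] at hj; exact absurd (conj_eq_one_iff.1 hj.symm) D.z_ne
      · rw [zpow_one] at hj; exact absurd (mul_inv_eq_iff_eq_mul.1 hj.symm) hnz
      · rw [← hj]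
        refine eq_inv_of_mul_eq_one_left ?_
        rw [← zpow_add_one, show (2 : ℤ) + 1 = ((3 : ℕ) : ℤ) by norm_num, zpow_natCast, D.set.Z_cube D.z_mem]
    have hpow : ∀ j : ℕ, (n : G) ^ (2 * j + 1) * z * ((n : G) ^ (2 * j + 1))⁻¹ = z⁻¹ := by
      intro j
      induction j with
      | zero => simpa using hinv
      | succ j ih =>
        rw [show 2 * (j + 1) + 1 = (2 * j + 1) + 1 + 1 by ring, pow_succ', pow_succ',
          show (n : G) * ((n : G) * (n : G) ^ (2 * j + 1)) * z * ((n : G) * ((n : G) * (n : G) ^ (2 * j + 1)))⁻¹ =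
            (n : G) * ((n : G) * ((n : G) ^ (2 * j + 1) * z * ((n : G) ^ (2 * j + 1))⁻¹) * (n : G)⁻¹) * (n : G)⁻¹ by
            group, ih, ← conj_inv, hinv, inv_inv, hinv]
    have := hpow m
    rw [← hm, hk', one_mul, inv_one, mul_one] at this
    refine (D.set.not_ne_one D.z_mem D.z_ne).2 ?_
    nth_rw 1 [this]
    exact inv_mul_cancel z
  obtain ⟨l, hl, q, hq, i, e⟩ := D.cent_d hnC (mem_centralizer_singleton_iff.1 (hPd n.2))
  have ht : q * y ^ (i : ℕ) ∈ D.T := D.mem_T.2 ⟨q, hq, i, rfl⟩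
  have hlP : l ∈ P := by
    rw [show l = (n : G) * (q * y ^ (i : ℕ))⁻¹ by rw [e, mul_inv_cancel_right]]
    exact mul_mem n.2 (inv_mem (hTP ht))
  obtain ⟨k, hk⟩ := hP ⟨l, hlP⟩
  have hk' : l ^ 3 ^ k = 1 := by simpa using congrArg Subtype.val hk
  have hl1 : l = 1 := by
    have := pow_gcd_eq_one.2 ⟨hk', D.L2_pow hl⟩
    rwa [show Nat.gcd (3 ^ k) 8 = 1 from Nat.Coprime.pow_left k (by norm_num), pow_one] at this
  rw [e, hl1, one_mul]; exact ht

/-- A point of `E` with `d` in its radical is conjugate into `Z` in `C(d)`. -/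
theorem pt_conj {p g : G} (hp : p ∈ E) (hpt : IsPt Z p) (hpg : p ∈ cj g Z) (hdg : d ∈ cj g Q) :
    ∃ c : G, c * d = d * c ∧ c * p * c⁻¹ ∈ Z := by
  classical
  haveI : Fact (Nat.Prime 3) := ⟨Nat.prime_three⟩
  have hg := D.set.conj g
  set Q' := cj g Q with hQ'
  have hpZ : zpowers p = cj g Z := zpowers_eq_of_prime hg.Z_card hpg hpt.ne_one
  have hEC : E ≤ centralizer ((cj g Z : Subgroup G) : Set G) := fun e he => by
    rw [← hpZ]
    refine mem_centralizer_iff.2 fun w hw => ?_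
    obtain ⟨n, rfl⟩ := mem_zpowers_iff.1 hw
    exact ((show Commute p e from D.side.comm hp he).zpow_left n).eq
  set K := Fx Q' d with hK
  have hKc : 81 ≤ Nat.card ↥K := by
    set W := K.subgroupOf Q' with hW
    let f : ↥Q' ⧸ W → ↥(cj g Z) := fun q =>
      ⟨⁅d, ((Quotient.out q : ↥Q') : G)⁆, hg.comm_mem hdg (Quotient.out q).2⟩
    have hf : Function.Injective f := by
      intro a b e
      rw [← Quotient.out_eq a, ← Quotient.out_eq b]
      refine QuotientGroup.eq.2 ?_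
      set u := ((Quotient.out a : ↥Q') : G) with hu
      set v := ((Quotient.out b : ↥Q') : G) with hv
      show u⁻¹ * v ∈ K
      have huQ : u ∈ Q' := (Quotient.out a).2
      have hvQ : v ∈ Q' := (Quotient.out b).2
      have e' : ⁅d, u⁆ = ⁅d, v⁆ := congrArg Subtype.val e
      have e2 : ⁅d, u⁻¹ * v⁆ = 1 := by
        rw [hg.comm_mul_right (inv_mem huQ) hvQ hdg, ← e',
          ← hg.comm_mul_right (inv_mem huQ) huQ hdg, inv_mul_cancel, commutatorElement_one_right]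
      refine mem_Fx.2 ⟨mul_mem (inv_mem huQ) hvQ, ?_⟩
      rw [commutatorElement_eq_one_iff_mul_comm.1 e2, mul_inv_cancel_right]
    have h1 := Nat.card_le_card_of_injective f hf
    rw [hg.Z_card] at h1
    have h2 := card_eq_card_quotient_mul_card_subgroup W
    rw [hg.Q_card, Nat.card_congr (subgroupOfEquivOfLe (inf_le_left : K ≤ Q')).toEquiv] at h2
    nlinarith
  have hEN : E ≤ normalizer (K : Set G) := fun e he => Subgroup.mem_normalizer_fintype fun x hx => by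
    obtain ⟨hxQ, hxd⟩ := mem_Fx.1 hx
    refine mem_Fx.2 ⟨hg.conj_mem (hEC he) hxQ, ?_⟩
    calc d * (e * x * e⁻¹) * d⁻¹ = (d * e) * x * (d * e)⁻¹ := by group
      _ = e * (d * x * d⁻¹) * e⁻¹ := by rw [D.side.comm D.d_E he]; group
      _ = _ := by rw [hxd]
  set T' := K ⊔ E with hT'
  have hT'p : IsPGroup 3 ↥T' := IsPGroup.to_sup_of_normal_left'
    (hg.Q_pgroup.to_le inf_le_left) (IsPGroup.of_card (n := 4) (by rw [D.side.card_E]; norm_num)) hEN
  have hT'd : T' ≤ centralizer ({d} : Set G) := sup_le inf_le_right fun e he =>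
    mem_centralizer_singleton_iff.2 (D.side.comm he D.d_E)
  have hT'c : 243 ≤ Nat.card ↥T' := by
    have hc := card_sup_mul_inf (A := K) (B := E) hEN
    rw [D.side.card_E] at hc
    have hle : Nat.card ↥(K ⊓ E) ≤ 27 := by
      obtain ⟨Z', Q'', R, R', M, M', s, s', y', S', hpZ', -⟩ := D.side.at_pt hp hpt
      by_contra hlt
      have hE' : E ≤ Q' := by
        have hd81 : Nat.card ↥(K ⊓ E) ∣ 3 ^ 4 := by
          rw [show (3 : ℕ) ^ 4 = Nat.card E by rw [D.side.card_E]; norm_num]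
          exact card_dvd_of_le inf_le_right
        obtain ⟨k, hk, ek⟩ := (Nat.dvd_prime_pow Nat.prime_three).1 hd81
        have h4 : 4 ≤ k := by
          by_contra h4
          rw [ek] at hlt
          exact hlt (le_trans (Nat.pow_le_pow_right (by norm_num : 1 ≤ 3) (by omega : k ≤ 3)) (by norm_num))
        have : K ⊓ E = E := Subgroup.eq_of_le_of_card_ge inf_le_right (by
          rw [ek, D.side.card_E]
          exact le_trans (by norm_num) (Nat.pow_le_pow_right (by norm_num : 1 ≤ 3) h4))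
        exact this ▸ inf_le_left.trans inf_le_left
      -- a second point of `E` would lie in the radical of `p`
      by_cases hpZ0 : p ∈ Z
      · refine D.side.y_not ?_
        have := hg.pt_mem ((IsPt.cj_iff g).2 D.side.pt) (hE' D.side.y_mem)
        have h' := hpZ.ge this
        rwa [zpowers_eq_of_prime D.set.Z_card hpZ0 hpt.ne_one] at h'
      · refine hpZ0 ?_
        have := hg.pt_mem ((IsPt.cj_iff g).2 (IsPt.of_mem D.z_mem D.z_ne)) (hE' D.z_E)
        have h' := hpZ.ge this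
        have hz3 : zpowers p = Z := by
          rw [← zpowers_eq_of_prime (Z := zpowers p) (by rw [hpZ, hg.Z_card]) h' D.z_ne,
            zpowers_eq_of_prime D.set.Z_card D.z_mem D.z_ne]
        exact hz3 ▸ mem_zpowers p
    rw [hT']
    nlinarith
  set C := centralizer ({d} : Set G) with hC
  have hTC : D.T ≤ C := fun x hx => (D.T_le hx).2
  obtain ⟨S, hS⟩ := (D.T_pgroup.of_equiv (subgroupOfEquivOfLe hTC).symm).exists_le_sylow
  obtain ⟨S', hS'⟩ := (hT'p.of_equiv (subgroupOfEquivOfLe hT'd).symm).exists_le_sylow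
  obtain ⟨c, hc⟩ := MulAction.exists_smul_eq ↥C S' S
  have hSeq : (S : Subgroup ↥C).map C.subtype = D.T :=
    D.T_max (S.2.map _) (map_subtype_le _) fun x hx => ⟨⟨x, hTC hx⟩, hS hx, rfl⟩
  have hmap : ∀ x ∈ T', (c : G) * x * (c : G)⁻¹ ∈ D.T := fun x hx => by
    rw [← hSeq]
    refine ⟨c * ⟨x, hT'd hx⟩ * c⁻¹, ?_, rfl⟩
    rw [← hc, Sylow.coe_subgroup_smul]
    exact ⟨⟨x, hT'd hx⟩, hS' hx, rfl⟩
  have hpT : p ∈ T' := mem_sup_right hp
  have heq : T'.map (MulAut.conj (c : G)).toMonoidHom = D.T :=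
    Subgroup.eq_of_le_of_card_ge (by rintro _ ⟨x, hx, rfl⟩; exact hmap x hx)
      (by rw [D.card_T, card_map_of_injective (MulAut.conj (c : G)).injective]; exact hT'c)
  refine ⟨c, mem_centralizer_singleton_iff.1 c.2, D.center_T_pt (hmap p hpT) (fun t ht => ?_) (hpt.conj _)⟩
  rw [← heq] at ht
  obtain ⟨x, hx, rfl⟩ := ht
  have hcomm : Commute p x := by
    have hle : T' ≤ centralizer ({p} : Set G) := sup_le
      (fun k hk => mem_centralizer_singleton_iff.2 (hg.comm_Z hk.1 hpg).symm)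
      (fun e he => mem_centralizer_singleton_iff.2 (D.side.comm he hp))
    exact (mem_centralizer_singleton_iff.1 (hle hx)).symm
  exact (hcomm.map (MulAut.conj (c : G)).toMonoidHom).eq

/-- The only involution of `L₂`. -/
theorem L2_invol {t : G} (ht : t ∈ L2) (h2 : t * t = 1) : t = 1 ∨ t = t2 := by
  have F := D.frame
  have h := D.set
  have htC := F.L2_le ht
  rcases F.pair.symm.dichotomy h htC (F.L2_norm ht) h2 with hc | hinv
  · left
    have hz : t ∈ Z := by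
      rw [← h.cent]
      refine mem_centralizer_iff.2 fun x hx => ?_
      obtain ⟨a, ha, b, hb, rfl⟩ := F.pair.dec x hx
      rw [mul_assoc, mem_centralizer_iff.1 hc b hb, ← mul_assoc, mem_centralizer_iff.1 (F.L2_cent ht) a ha,
        mul_assoc]
    have h3 := h.Z_cube hz
    rwa [pow_succ, pow_two, h2, one_mul] at h3
  · right
    have hts : t * t2 * (t * t2) = 1 := by
      calc t * t2 * (t * t2) = t * (t2 * t) * t2 := by group
        _ = (t * t) * (t2 * t2) := by rw [D.L2_t2 ht]; group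
        _ = 1 := by rw [h2, D.t2_sq, one_mul]
    have hz : t * t2 ∈ Z := by
      rw [← h.cent]
      refine mem_centralizer_iff.2 fun x hx => ?_
      obtain ⟨a, ha, b, hb, rfl⟩ := F.pair.dec x hx
      have hb' : t * t2 * b * (t * t2)⁻¹ = b := by
        refine h.fixed_of_mod (mul_mem htC D.t2_cent) hts ?_
        have e1 : t * t2 * b * (t * t2)⁻¹ * b⁻¹ =
            (t * (t2 * b * t2⁻¹ * b) * t⁻¹) * (t * b⁻¹ * t⁻¹ * b⁻¹) := by group
        rw [e1, h.conj_Z htC (F.t2_inv b hb)]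
        exact mul_mem (F.t2_inv b hb) (hinv _ (inv_mem hb))
      have ha' : t * t2 * a = a * (t * t2) := by
        rw [mul_assoc, D.t2_fix ha, ← mul_assoc, ← mem_centralizer_iff.1 (F.L2_cent ht) a ha, mul_assoc]
      rw [← mul_assoc (t * t2), ha', mul_assoc a (t * t2), mul_inv_eq_iff_eq_mul.1 hb', mul_assoc]
    have h3 := h.Z_cube hz
    rw [pow_succ, pow_two, hts, one_mul] at h3
    calc t = t * (t2 * t2) := by rw [D.t2_sq, mul_one]
      _ = t2 := by rw [← mul_assoc, h3, one_mul]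

/-- `y` goes into `Z` by an element of `C(d) ∩ C(t₂)`. -/
theorem exists_swap : ∃ c : G, c * d = d * c ∧ c * t2 = t2 * c ∧ c * y * c⁻¹ ∈ Z := by
  classical
  haveI : Fact (Nat.Prime 2) := ⟨Nat.prime_two⟩
  obtain ⟨g, hyg, -, -, -, -, -, -⟩ := D.frame.pt_side D.side.pt D.side.y_cent D.side.y_not
  obtain ⟨c0, hc0d, hc0y⟩ := D.pt_conj D.side.y_mem D.side.pt hyg (D.d_rad g hyg)
  set s := c0 * t2 * c0⁻¹ with hs
  set H := centralizer (Z : Set G) ⊓ centralizer ({d} : Set G) with hH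
  have hc0ne : c0 * y * c0⁻¹ ≠ 1 := fun e => D.side.pt.ne_one (conj_eq_one_iff.1 e)
  have hsH : s ∈ H := by
    refine mem_inf.2 ⟨?_, mem_centralizer_singleton_iff.2 ?_⟩
    · refine mem_centralizer_iff.2 fun w hw => ?_
      obtain ⟨n, rfl⟩ := mem_zpowers_iff.1 ((zpowers_eq_of_prime D.set.Z_card hc0y hc0ne).ge hw)
      exact ((((show Commute y t2 from D.y_t2.symm).map (MulAut.conj c0).toMonoidHom)).zpow_left n).eq
    · calc s * d = c0 * t2 * (c0⁻¹ * d) := by rw [hs]; group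
        _ = c0 * (t2 * d) * c0⁻¹ := by
          rw [(show Commute c0 d from hc0d).inv_left.eq]; group
        _ = c0 * (d * t2) * c0⁻¹ := by rw [D.t2_fix D.flag1.mem]
        _ = d * s := by rw [← mul_assoc c0 d t2, hc0d, hs]; group
  have hL2H : L2 ≤ H := fun l hl =>
    mem_inf.2 ⟨D.frame.L2_le hl, mem_centralizer_singleton_iff.2 (D.L2_d hl)⟩
  have hHc : Nat.card ↥H = 8 * 243 := by
    let f : ↥L2 × ↥D.T → ↥H := fun p => ⟨(p.1 : G) * p.2, mul_mem (hL2H p.1.2) (D.T_le p.2.2)⟩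
    have hf : Function.Bijective f := by
      refine ⟨fun a b e => ?_, fun h => ?_⟩
      · have e' : (a.1 : G) * a.2 = b.1 * b.2 := congrArg Subtype.val e
        have hm : (b.1 : G)⁻¹ * a.1 = (b.2 : G) * (a.2 : G)⁻¹ := by
          calc (b.1 : G)⁻¹ * a.1 = (b.1 : G)⁻¹ * ((a.1 : G) * a.2) * (a.2 : G)⁻¹ := by group
            _ = _ := by rw [e']; group
        have h1 := D.L2_pow (mul_mem (inv_mem b.1.2) a.1.2)
        have h2 := pow_card_eq_one' (x := (⟨_, mul_mem b.2.2 (inv_mem a.2.2)⟩ : ↥D.T))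
        rw [D.card_T] at h2
        have h2' : ((b.2 : G) * (a.2 : G)⁻¹) ^ 243 = 1 := by simpa using congrArg Subtype.val h2
        rw [← hm] at h2'
        have h3 := pow_gcd_eq_one.2 ⟨h1, h2'⟩
        rw [show Nat.gcd 8 243 = 1 by norm_num, pow_one] at h3
        have e1 : a.1 = b.1 := Subtype.ext (inv_mul_eq_one.1 h3).symm
        exact Prod.ext e1 (Subtype.ext (mul_left_cancel (e1 ▸ e')))
      · obtain ⟨l, hl, q, hq, i, e⟩ := D.cent_d h.2.1 (mem_centralizer_singleton_iff.1 h.2.2)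
        exact ⟨(⟨l, hl⟩, ⟨q * y ^ (i : ℕ), D.mem_T.2 ⟨q, hq, i, rfl⟩⟩), Subtype.ext e.symm⟩
    rw [← Nat.card_congr (Equiv.ofBijective f hf), Nat.card_prod, D.frame.L2_card, D.card_T]
  have hs2 : s * s = 1 := by rw [hs, conj_mul, D.t2_sq, mul_one, mul_inv_cancel]
  set L := L2.subgroupOf H with hL
  have hLc : Nat.card ↥L = 8 := (Nat.card_congr (subgroupOfEquivOfLe hL2H).toEquiv).trans D.frame.L2_card
  have hLi : ¬ 2 ∣ L.index := by
    have := L.card_mul_index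
    rw [hLc, hHc] at this
    omega
  let S : Sylow 2 ↥H := (IsPGroup.of_card (p := 2) (n := 3) (by rw [hLc]; norm_num) : IsPGroup 2 ↥L).toSylow hLi
  have hsp : IsPGroup 2 ↥(zpowers (⟨s, hsH⟩ : ↥H)) := by
    rintro ⟨x, hx⟩
    obtain ⟨n, rfl⟩ := mem_zpowers_iff.1 hx
    refine ⟨1, Subtype.ext ?_⟩
    show (((⟨s, hsH⟩ : ↥H) ^ n) ^ (2 ^ 1)) = 1
    rw [pow_one, ← zpow_natCast, ← zpow_mul, mul_comm, zpow_mul, zpow_natCast, pow_two,
      show (⟨s, hsH⟩ : ↥H) * ⟨s, hsH⟩ = 1 from Subtype.ext hs2, one_zpow]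
  obtain ⟨S', hS'⟩ := hsp.exists_le_sylow
  obtain ⟨k, hk⟩ := MulAction.exists_smul_eq ↥H S' S
  have hks : (k : G) * s * (k : G)⁻¹ ∈ L2 := by
    have hm : k * ⟨s, hsH⟩ * k⁻¹ ∈ ((k • S' : Sylow 2 ↥H) : Subgroup ↥H) := by
      rw [Sylow.coe_subgroup_smul]
      exact ⟨⟨s, hsH⟩, hS' (mem_zpowers _), rfl⟩
    rw [hk] at hm
    exact hm
  have hks2 : (k : G) * s * (k : G)⁻¹ * ((k : G) * s * (k : G)⁻¹) = 1 := by
    rw [conj_mul, hs2, mul_one, mul_inv_cancel]
  rcases D.L2_invol hks hks2 with h1 | h1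
  · exact absurd (conj_eq_one_iff.1 (conj_eq_one_iff.1 h1)) D.t2_ne
  refine ⟨(k : G) * c0, ?_, ?_, ?_⟩
  · rw [mul_assoc, hc0d, ← mul_assoc, mem_centralizer_singleton_iff.1 k.2.2, mul_assoc]
  · refine mul_inv_eq_iff_eq_mul.1 ?_
    rw [show (k : G) * c0 * t2 * ((k : G) * c0)⁻¹ = (k : G) * s * (k : G)⁻¹ by rw [hs]; group, h1]
  · rw [show (k : G) * c0 * y * ((k : G) * c0)⁻¹ = (k : G) * (c0 * y * c0⁻¹) * (k : G)⁻¹ by group,
      D.set.conj_Z k.2.1 hc0y]
    exact hc0y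

end Dat

end Cfsg.Agent.UThreeLocal.Cand
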