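import Cfsg.Agent.Lib.UThreeLocal.Cand.Axis
import Cfsg.Agent.Lib.UThreeLocal.End.Small
import Cfsg.Agent.Lib.SpThreeCent.PartOne.Main
import Cfsg.Agent.Lib.SpThreeCent.Small
import Cfsg.Agent.Lib.Cores.Nilpotent

/-!
# The candidate at the involution `t₂`
-/

set_option autoImplicit false
set_option linter.unusedSectionVars false
set_option linter.style.haveILetI false
set_option linter.unusedVariables false
set_option maxRecDepth 100000
set_option synthInstance.maxSize 10000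

namespace Cfsg.Agent.UThreeLocal.Cand

open Subgroup
open scoped commutatorElement
open Cfsg.Agent.NineSym
open Cfsg.Agent.SpThreeCent (Loc)

universe u

theorem weight_one : ∀ w : Wt, wact w (0, 0, 1) ≠ (1, 1, 1) ∧ wact w (0, 0, 1) ≠ -(1, 1, 1) := by decide +kernel

theorem cyc_span : ∀ v : V3, v ≠ 0 → ∃ i j k : ZMod 3,
    full (i • v + j • wact cycW v + k • wact cycW (wact cycW v)) := by decide +kernel

variable {G : Type u} [Group G] [Finite G] {Z Q Q1 Q2 L1 L2 E : Subgroup G} {t1 t2 z y d a2 n b : G} {ψ : V3 → G}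
  (D : Dat Z Q Q1 Q2 L1 L2 E t1 t2 z y d a2) (U : Duo Z L2 E t2 z y d n)
  (C : Crd Z Q1 (E ⊓ centralizer ({t2} : Set G)) y d b n ψ)
include D U C

theorem qv_zero : qv D U C 0 = 1 := pn_eq_one.2 (by show ψ 0 ∈ _; rw [C.zero]; exact one_mem _)

theorem qv_neg (v : V3) : qv D U C (-v) = (qv D U C v)⁻¹ :=
  eq_inv_of_mul_eq_one_left (by rw [← qv_add, neg_add_cancel, qv_zero])

/-- The elements normalising `A` have images normalising the image. -/
theorem image_norm {g : ↥(NN t2 (Rd L2 b n))}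
    (hg : (g : G) ∈ normalizer ((E ⊓ centralizer ({t2} : Set G) : Subgroup G) : Set G)) :
    pn _ _ g ∈ normalizer (qA D U C : Set (NB t2 (Rd L2 b n))) := by
  refine Subgroup.mem_normalizer_fintype fun x hx => ?_
  obtain ⟨v, rfl⟩ := (mem_qA D U C x).1 hx
  obtain ⟨v', hv'⟩ := (C.mem _).1 ((mem_normalizer_iff.1 hg _).1 (C.mem' v))
  refine (mem_qA D U C _).2 ⟨v', ?_⟩
  unfold qv
  rw [← map_inv, ← map_mul, ← map_mul]
  exact congrArg _ (Subtype.ext hv')

variable {ci : Bool} {φ : Mn → NB t2 (Rd L2 b n)}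
  (L : Loc (qv D U C (pv 0)) (qQ D U C) (qA D U C) ci true φ) (hact : ∀ w, Act D U C w ↔ Wok ci true w)
include L hact

/-- THEOREM: the centralizers in `C(r)` of the elements of `A` normalise `R`. -/
theorem cent_le_norm {v : V3} (hv : v ≠ 0) {x : G} (hxv : x * ψ v = ψ v * x) (hxt : x * t2 = t2 * x) :
    x ∈ normalizer (Rd L2 b n : Set G) := by
  have back : ∀ w : Wt, w.e = false → (∀ x' : G, x' * ψ (wact w v) = ψ (wact w v) * x' → x' * t2 = t2 * x' →
      x' ∈ normalizer (Rd L2 b n : Set G)) → x ∈ normalizer (Rd L2 b n : Set G) := by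
    intro w hw h
    obtain ⟨g, hg, hgw⟩ := act_pos D U C hact hw
    have hgR := norm_A_Rd D U C hg
    have hgt : Commute g t2 := mem_centralizer_singleton_iff.1 (mem_inf.1 hg).2
    have h1 := h (g * x * g⁻¹) (by rw [← hgw, conj_mul, conj_mul, hxv])
      ((hgt.mul_left hxt).mul_left hgt.inv_left).eq
    have h2 := mul_mem (mul_mem (inv_mem hgR) h1) hgR
    rwa [show g⁻¹ * (g * x * g⁻¹) * g = x by group] at h2
  rcases v3_types v with e | e | ⟨w, hw, hwv⟩
  · exact absurd e hv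
  · obtain ⟨w, hw, hwv⟩ := axis_base v e
    refine back w hw fun x' h1 h2 => ?_
    rw [hwv] at h1
    have hxW : x' ∈ WW t2 (ψ (1, 0, 0)) :=
      mem_inf.2 ⟨mem_centralizer_singleton_iff.2 h1, mem_centralizer_singleton_iff.2 h2⟩
    exact norm_A_Rd D U C (mem_inf.2 ⟨cent_axis D U C L hact hxW, mem_centralizer_singleton_iff.2 h2⟩)
  · refine back w hw fun x' h1 h2 => ?_
    have hz : (x' * ψ (1, 1, 1) = ψ (1, 1, 1) * x') → x' ∈ normalizer (Rd L2 b n : Set G) := fun h => by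
      obtain ⟨m, hm⟩ := mem_zpowers_iff.1 (z_line D U C)
      refine norm_Z_Rd D U C (mem_inf.2 ⟨centralizer_le_normalizer _ (D.mem_CZ ?_),
        mem_centralizer_singleton_iff.2 h2⟩)
      rw [← hm]
      exact ((show Commute x' (ψ (1, 1, 1)) from h).zpow_right m).eq
    rcases hwv with e | e | e <;> rw [e] at h1
    · exact hz h1
    · rw [C.neg] at h1
      exact hz (Commute.inv_right_iff.1 h1).eq
    · obtain ⟨m, hm⟩ := mem_zpowers_iff.1 (d_line D U C)
      refine cent_d_Rd D U C (mem_inf.2 ⟨mem_centralizer_singleton_iff.2 ?_, mem_centralizer_singleton_iff.2 h2⟩)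
      rw [← hm]
      exact ((show Commute x' (ψ (0, 1, -1)) from h1).zpow_right m).eq

/-- Off the orbit of the points, centralizers in the quotient normalise the image of `A`. -/
theorem cent_small {v : V3} (hv : v ≠ 0) (hfull : ¬ full v) :
    centralizer ({qv D U C v} : Set (NB t2 (Rd L2 b n))) ≤ normalizer (qA D U C : Set (NB t2 (Rd L2 b n))) := by
  intro x hx
  obtain ⟨a, rfl⟩ := QuotientGroup.mk'_surjective _ x
  obtain ⟨ρ, hρ, hρc⟩ := exists_lift_cent (a := ⟨ψ v, A_NN D U C (C.mem' v)⟩) (g := a) (Rd_three D U C) (C.cube v)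
    (mem_centralizer_singleton_iff.1 hx)
  have hρN : ρ ∈ NN t2 (Rd L2 b n) := mem_inf.2 ⟨Rd_le D U C hρ, le_normalizer hρ⟩
  set aρ : ↥(NN t2 (Rd L2 b n)) := a * ⟨ρ, hρN⟩ with haρ
  have hpa : pn _ _ aρ = pn _ _ a := by
    rw [haρ, map_mul, pn_eq_one.2 (show ((⟨ρ, hρN⟩ : ↥(NN t2 (Rd L2 b n))) : G) ∈ Rd L2 b n from hρ), mul_one]
  show pn _ _ a ∈ _
  rw [← hpa]
  -- an element moving `v` to a standard vector
  obtain ⟨w, hw, hstd⟩ : ∃ w : Wt, w.e = false ∧ (wact w v = (1, 0, 0) ∨ wact w v = (0, 1, -1)) := by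
    rcases v3_types v with e | e | ⟨w, hw, hwv⟩
    · exact absurd e hv
    · obtain ⟨w, hw, hwv⟩ := axis_base v e; exact ⟨w, hw, Or.inl hwv⟩
    · rcases hwv with e | e | e
      · exact absurd ((by decide +kernel : ∀ (w : Wt) (v : V3),
          wact w v = (1, 1, 1) → full v) w v e) hfull
      · exact absurd ((by decide +kernel : ∀ (w : Wt) (v : V3),
          wact w v = -(1, 1, 1) → full v) w v e) hfull
      · exact ⟨w, hw, Or.inr e⟩
  obtain ⟨g, hg, hgw⟩ := act_pos D U C hact hw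
  set gN : ↥(NN t2 (Rd L2 b n)) := ⟨g, nA_NN D U C hg⟩ with hgN
  have hgn := image_norm D U C (g := gN) (mem_inf.1 hg).1
  set yv : ↥(NN t2 (Rd L2 b n)) := gN * aρ * gN⁻¹ with hyv
  suffices h : pn _ _ yv ∈ normalizer (qA D U C : Set (NB t2 (Rd L2 b n))) by
    rw [hyv, map_mul, map_mul, map_inv] at h
    have h2 := mul_mem (mul_mem (inv_mem hgn) h) hgn
    rwa [show (pn t2 (Rd L2 b n) gN)⁻¹ * (pn t2 (Rd L2 b n) gN * pn t2 (Rd L2 b n) aρ * (pn t2 (Rd L2 b n) gN)⁻¹) *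
      pn t2 (Rd L2 b n) gN = pn t2 (Rd L2 b n) aρ by group] at h2
  have hyc : (yv : G) * ψ (wact w v) = ψ (wact w v) * yv := by
    show g * ((a : G) * ρ) * g⁻¹ * _ = _ * (g * ((a : G) * ρ) * g⁻¹)
    rw [← hgw, conj_mul, conj_mul]
    exact congrArg (fun u => g * u * g⁻¹) hρc
  have hyt : (yv : G) * t2 = t2 * yv := mem_centralizer_singleton_iff.1 (mem_inf.1 yv.2).1
  rcases hstd with e | e <;> rw [e] at hyc
  · exact image_norm D U C (cent_axis D U C L hact
      (mem_inf.2 ⟨mem_centralizer_singleton_iff.2 hyc, mem_centralizer_singleton_iff.2 hyt⟩))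
  · obtain ⟨m, hm⟩ := mem_zpowers_iff.1 (d_line D U C)
    obtain ⟨s, hs, hsy⟩ := U.frat _ (mem_inf.2 ⟨mem_centralizer_singleton_iff.2 (by
      rw [← hm]
      exact ((show Commute (yv : G) (ψ (0, 1, -1)) from hyc).zpow_right m).eq),
        mem_centralizer_singleton_iff.2 hyt⟩)
    have hsR : s ∈ Rd L2 b n := by
      refine (sup_le ?_ (Lv_le_Rd L2 b n 1) : L2 ⊔ cj n⁻¹ L2 ≤ Rd L2 b n) hs
      have := Lv_le_Rd L2 b n 0
      rwa [Lv, show gv b n 0 = 1 from rfl, cj_one] at this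
    set sN : ↥(NN t2 (Rd L2 b n)) := ⟨s, mem_inf.2 ⟨Rd_le D U C hsR, le_normalizer hsR⟩⟩ with hsN
    have h1 := image_norm D U C (g := sN⁻¹ * yv) (by push_cast; exact hsy)
    rwa [map_mul, map_inv, pn_eq_one.2 (show (sN : G) ∈ Rd L2 b n from hsR), inv_one, one_mul] at h1

/-- The hypothesis of the recognition of the automorphism group. -/
theorem hsmall :
    centralizer ({φ (jM (0, 0, 1))} : Set (NB t2 (Rd L2 b n))) ≤ normalizer (qA D U C : Set (NB t2 (Rd L2 b n))) := by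
  obtain ⟨v, hv⟩ := (mem_qA D U C _).1 ((L.memJ _).2 ⟨(0, 0, 1), rfl⟩)
  rw [← hv]
  refine cent_small D U C L hact ?_ ?_
  · rintro rfl
    rw [qv_zero, ← L.jzero] at hv
    exact (by decide +kernel : (0 : V3) ≠ (0, 0, 1)) (L.jinj hv)
  · intro hf
    obtain ⟨w, hw, hwv, -⟩ := full_to_z v hf
    obtain ⟨g, hg, hgw⟩ := act_pos D U C hact hw
    set gN : ↥(NN t2 (Rd L2 b n)) := ⟨g, nA_NN D U C hg⟩ with hgN
    have h1 : pn _ _ gN * φ (jM (0, 0, 1)) * (pn _ _ gN)⁻¹ = qv D U C (wact w v) := by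
      rw [← hv]; unfold qv
      rw [← map_inv, ← map_mul, ← map_mul]
      exact congrArg _ (Subtype.ext (hgw v))
    rcases hwv with e | e <;> rw [e] at h1
    · obtain ⟨p, -, hp⟩ := L.fus (0, 0, 1) (1, 1, 1) (pn _ _ gN) (h1.trans L.a_eq.symm)
      exact (weight_one p.w).1 hp
    · rw [qv_neg, show qv D U C (1, 1, 1) = φ (jM (1, 1, 1)) from L.a_eq.symm, ← L.jneg] at h1
      obtain ⟨p, -, hp⟩ := L.fus (0, 0, 1) _ (pn _ _ gN) h1
      exact (weight_one p.w).2 hp

/-- THEOREM: the quotient. -/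
theorem exists_quot (F : Type) [Field F] [Fintype F] (hF : Fintype.card F = 3) :
    Nonempty (NB t2 (Rd L2 b n) ≃* Cfsg.PSp 2 F) ∨ Nonempty (NB t2 (Rd L2 b n) ≃* MulAut (Cfsg.PSp 2 F)) := by
  cases ci
  · exact Or.inl (SpThreeCent.psp_of_four L F hF)
  · exact Or.inr (SpThreeCent.aut_of_small L (hsmall D U C L hact) F hF)

/-- THEOREM: `C(R) = ⟨r⟩`. -/
theorem cent_Rd : centralizer (Rd L2 b n : Set G) = zpowers t2 := by
  classical
  haveI : Fact (Nat.Prime 3) := ⟨Nat.prime_three⟩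
  set R := Rd L2 b n with hR
  obtain ⟨hG, h512, -, -⟩ := Rd_facts D U C
  set K := centralizer (R : Set G) with hK
  have hKN : K ≤ NN t2 R := fun x hx => mem_inf.2
    ⟨mem_centralizer_singleton_iff.2 (mem_centralizer_iff.1 hx t2 hG.mem).symm, centralizer_le_normalizer _ hx⟩
  set Kb := (K.subgroupOf (NN t2 R)).map (pn t2 R) with hKb
  haveI hKbN : Kb.Normal := by
    refine Subgroup.Normal.map ?_ (pn t2 R) (QuotientGroup.mk'_surjective _)
    refine ⟨fun k hk g => ?_⟩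
    rw [mem_subgroupOf] at hk ⊢
    push_cast
    refine mem_centralizer_iff.2 fun r hr => ?_
    have hgr := (mem_normalizer_iff.1 (inv_mem (mem_inf.1 g.2).2) r).1 hr
    rw [inv_inv] at hgr
    have h1 := mem_centralizer_iff.1 hk _ hgr
    calc r * ((g : G) * k * (g : G)⁻¹) = (g : G) * ((g : G)⁻¹ * r * g * k) * (g : G)⁻¹ := by group
      _ = (g : G) * ((k : G) * ((g : G)⁻¹ * r * g)) * (g : G)⁻¹ := by rw [h1]
      _ = (g : G) * k * (g : G)⁻¹ * r := by group
  -- the exponents of `A` centralising `R`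
  have hone : ∀ v : V3, qv D U C v ∈ Kb → v = 0 := by
    intro v hv
    obtain ⟨c, hc, he⟩ := hv
    have hρ : (c : G)⁻¹ * ψ v ∈ R := pn_eq he
    have hψK : ψ v ∈ K := by
      set ρ := (c : G)⁻¹ * ψ v with hρd
      have hcρ : Commute (c : G) ρ := (mem_centralizer_iff.1 hc ρ hρ).symm
      have hψ : ψ v = (c : G) * ρ := by rw [hρd, mul_inv_cancel_left]
      have hρ512 : ρ ^ 512 = 1 := by
        have := pow_card_eq_one' (x := (⟨ρ, hρ⟩ : ↥R))
        rw [h512] at this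
        exact congrArg Subtype.val this
      have h2 : ψ v ^ 512 = (c : G) ^ 512 := by rw [hψ, hcρ.mul_pow, hρ512, mul_one]
      rw [pow_eq_pow_mod 512 (C.cube v), show 512 % 3 = 2 from rfl] at h2
      have h4 : (ψ v ^ 2) ^ 2 = ψ v := by rw [← pow_mul, pow_eq_pow_mod _ (C.cube v)]; exact pow_one _
      rw [← h4, h2]
      exact pow_mem (pow_mem hc _) 2
    by_contra hv0
    obtain ⟨i, j, k, hf⟩ := cyc_span v hv0
    have hcy : ∀ u : V3, ψ u ∈ K → ψ (wact cycW u) ∈ K := fun u hu => by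
      rw [← C.b_act]
      refine mem_centralizer_iff.2 fun r hr => ?_
      have hbr := (mem_normalizer_iff.1 (inv_mem (b_norm D U C)) r).1 hr
      rw [inv_inv] at hbr
      have h1 := mem_centralizer_iff.1 hu _ hbr
      calc r * (b * ψ u * b⁻¹) = b * (b⁻¹ * r * b * ψ u) * b⁻¹ := by group
        _ = b * (ψ u * (b⁻¹ * r * b)) * b⁻¹ := by rw [h1]
        _ = b * ψ u * b⁻¹ * r := by group
    have hsm : ∀ (e : ZMod 3) (u : V3), ψ u ∈ K → ψ (e • u) ∈ K := fun e u hu =>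
      (zpowers_le.2 hu) (C.smul_mem e u)
    have hw : ψ (i • v + j • wact cycW v + k • wact cycW (wact cycW v)) ∈ K := by
      rw [C.add, C.add]
      exact mul_mem (mul_mem (hsm _ _ hψK) (hsm _ _ (hcy _ hψK))) (hsm _ _ (hcy _ (hcy _ hψK)))
    obtain ⟨l, hl⟩ := (full_iff _).1 hf
    have hpl : ψ (pv l) ∈ K := by
      rcases hl with e | e <;> rw [e] at hw
      · exact hw
      · rw [C.neg] at hw; exact inv_mem_iff.1 hw
    have h8 : Nat.card ↥(Lv L2 b n l) = 8 := by rw [Lv, card_cj, D.frame.L2_card]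
    rw [← cent_pv D U C l, inf_eq_left.2 (fun r hr => mem_centralizer_singleton_iff.2
      (mem_centralizer_iff.1 hpl r hr)), h512] at h8
    norm_num at h8
  have hKb1 : Kb = ⊥ := by
    refine sigX D U C Kb ?_ (fun x _ => ?_)
    swap
    · rw [Subgroup.normalizer_eq_top_iff.2 hKbN]; exact mem_top _
    rw [Nat.coprime_comm, (Nat.prime_three).coprime_iff_not_dvd]
    intro h3
    obtain ⟨u0, hu0⟩ := exists_prime_orderOf_dvd_card' 3 h3
    have hJp : IsPGroup 3 ↥(qA D U C) := IsPGroup.of_card (n := 3) (by rw [(jData D U C).card]; norm_num)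
    obtain ⟨T, hT⟩ := hJp.exists_le_sylow
    have hu0p : IsPGroup 3 ↥(zpowers (u0 : NB t2 R)) :=
      IsPGroup.of_card (n := 1) (by rw [Nat.card_zpowers, Subgroup.orderOf_coe, hu0, pow_one])
    obtain ⟨S, hS⟩ := hu0p.exists_le_sylow
    obtain ⟨g, hg⟩ := MulAction.exists_smul_eq (NB t2 R) S T
    have hm : g * (u0 : NB t2 R) * g⁻¹ ∈ (T : Subgroup (NB t2 R)) := by
      rw [← hg, Sylow.coe_subgroup_smul]
      exact smul_mem_pointwise_smul _ (MulAut.conj g) _ (hS (mem_zpowers _))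
    have hne : Kb.subgroupOf (T : Subgroup (NB t2 R)) ≠ ⊥ := by
      intro e
      have h1 : (⟨_, hm⟩ : ↥(T : Subgroup (NB t2 R))) ∈ Kb.subgroupOf (T : Subgroup (NB t2 R)) :=
        mem_subgroupOf.2 (hKbN.conj_mem _ u0.2 g)
      rw [e, mem_bot] at h1
      have h2 : (u0 : NB t2 R) = 1 := conj_eq_one_iff.1 (congrArg Subtype.val h1)
      rw [← Subgroup.orderOf_coe, h2, orderOf_one] at hu0
      norm_num at hu0
    haveI : Group.IsNilpotent ↥(T : Subgroup (NB t2 R)) := T.2.isNilpotent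
    haveI : (Kb.subgroupOf (T : Subgroup (NB t2 R))).Normal := hKbN.subgroupOf _
    obtain ⟨⟨u, hu⟩, hu1⟩ := ne_bot_iff_exists_ne_one.1 (Cores.inf_center_ne_bot hne)
    obtain ⟨huK, huZ⟩ := mem_inf.1 hu
    obtain ⟨v, hv⟩ := (mem_qA D U C _).1 (L.self (u : NB t2 R) fun j hj =>
      congrArg Subtype.val ((mem_center_iff.1 huZ) ⟨j, hT hj⟩).symm)
    have h0 := hone v (by rw [hv]; exact mem_subgroupOf.1 huK)
    rw [h0, qv_zero] at hv
    exact hu1 (Subtype.ext (Subtype.ext hv.symm))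
  refine le_antisymm (fun x hx => ?_) (zpowers_le.2 (mem_centralizer_iff.2 fun r hr => hG.fix r hr))
  have h1 : pn t2 R ⟨x, hKN hx⟩ = 1 := by
    rw [← mem_bot, ← hKb1]
    exact ⟨⟨x, hKN hx⟩, hx, rfl⟩
  have hxR : x ∈ R := pn_eq_one.1 h1
  rcases hG.center x hxR (fun r hr => mem_centralizer_iff.1 hx r hr) with e | e
  · rw [e]; exact one_mem _
  · rw [e]; exact mem_zpowers _

/-- THEOREM: the candidate. -/
theorem candOut_of : End.CandOut t2 := by
  classical
  haveI : Fact (Nat.Prime 3) := ⟨Nat.prime_three⟩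
  obtain ⟨hG, h512, hext, hcen⟩ := Rd_facts D U C
  have hF : Fintype.card (ZMod 3) = 3 := ZMod.card 3
  have hcomp : ∀ {S : Type} [Group S] (e : NB t2 (Rd L2 b n) ≃* S),
      ∃ f : ↥(centralizer ({t2} : Set G) ⊓ normalizer (Rd L2 b n : Set G)) →* S,
        Function.Surjective f ∧ ∀ c, f c = 1 ↔ (c : G) ∈ Rd L2 b n := fun e =>
    ⟨e.toMonoidHom.comp (pn t2 (Rd L2 b n)), e.surjective.comp (QuotientGroup.mk'_surjective _), fun c => by
      show e (pn t2 (Rd L2 b n) c) = 1 ↔ _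
      rw [map_eq_one_iff e e.injective]
      exact pn_eq_one⟩
  refine ⟨Rd L2 b n, E ⊓ centralizer ({t2} : Set G), ZMod 3, inferInstance, inferInstance, hF, hext, h512, hcen,
    cent_Rd D U C L hact, ?_, inf_le_right, A_norm D U C,
    ⟨⟨fun x w => Subtype.ext (D.side.comm (mem_inf.1 x.2).1 (mem_inf.1 w.2).1)⟩⟩,
    fun a ha => D.side.exp (mem_inf.1 ha).1, ?_, ?_, ?_, ?_⟩
  · rcases exists_quot D U C L hact (ZMod 3) hF with ⟨⟨e⟩⟩ | ⟨⟨e⟩⟩
    · exact Or.inl (hcomp e)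
    · exact Or.inr (hcomp e)
  · exact (packA D U C L hact).card
  · exact fun x hx => Rd_cent_A D U C hx
  · exact fun K hKle hK hAK => sig_strong D U C hK hKle (hAK (zd_A D U C).1) (hAK (zd_A D U C).2)
  · intro a ha ha1 x hx
    obtain ⟨v, rfl⟩ := (C.mem a).1 ha
    exact cent_le_norm D U C L hact (fun e => ha1 (by rw [e, C.zero]))
      (mem_centralizer_singleton_iff.1 (mem_inf.1 hx).1) (mem_centralizer_singleton_iff.1 (mem_inf.1 hx).2)

omit D U C L hact

/-- THEOREM: the candidate from the local data. -/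
theorem exists_candidate {Z Q Q1 Q2 L1 L2 E : Subgroup G} {t1 t2 z y a1 a2 : G}
    (h : Local Z Q Q1 Q2 L1 L2 E t1 t2 z y a1 a2) : End.CandOut t2 := by
  obtain ⟨d, a2', D⟩ := exists_dat h
  obtain ⟨n, U⟩ := exists_duo D
  obtain ⟨b, ψ, C⟩ := D.exists_crd U
  obtain ⟨ci, φ, L, hact, -⟩ := exists_frame D U C
  exact candOut_of D U C L hact

end Cfsg.Agent.UThreeLocal.Cand
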