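import Cfsg.Agent.Lib.UThreeLocal.Loc.Transport
import Cfsg.Agent.Lib.SelfNine.Triangle

/-!
# A Sylow subgroup of order nine in `(C(c) ∩ C(t))/⟨c, t⟩`

An elementary group `M` of order 27 containing `c`, centralised by the involution `t`, gives a Sylow
subgroup in which every nontrivial element has its centralizer in the normalizer.
-/

set_option autoImplicit false
set_option linter.unusedSectionVars false
set_option linter.style.haveILetI false
set_option linter.unusedVariables false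

namespace Cfsg.Agent.UThreeLocal.Cand

open Subgroup

universe u

variable {G : Type u} [Group G]

/-- The common centralizer. -/
abbrev WW (t c : G) : Subgroup G := centralizer ({c} : Set G) ⊓ centralizer ({t} : Set G)

/-- The group generated by the two elements. -/
abbrev KK (t c : G) : Subgroup G := zpowers c ⊔ zpowers t

theorem KK_central {t c : G} {g x : G} (hg : g ∈ WW t c) (hx : x ∈ KK t c) : g * x = x * g := by
  have hle : KK t c ≤ centralizer ({g} : Set G) := sup_le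
    (zpowers_le.2 (mem_centralizer_singleton_iff.2 (mem_centralizer_singleton_iff.1 (mem_inf.1 hg).1).symm))
    (zpowers_le.2 (mem_centralizer_singleton_iff.2 (mem_centralizer_singleton_iff.1 (mem_inf.1 hg).2).symm))
  exact (mem_centralizer_singleton_iff.1 (hle hx)).symm

instance kk_normal (t c : G) : ((KK t c).subgroupOf (WW t c)).Normal :=
  ⟨fun x hx g => by
    rw [mem_subgroupOf] at hx ⊢
    push_cast
    rw [KK_central g.2 hx, mul_inv_cancel_right]
    exact hx⟩

/-- The quotient. -/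
abbrev QU (t c : G) : Type u := ↥(WW t c) ⧸ (KK t c).subgroupOf (WW t c)

/-- The projection. -/
abbrev pu (t c : G) : ↥(WW t c) →* QU t c := QuotientGroup.mk' _

theorem pu_eq_one {t c : G} {a : ↥(WW t c)} : pu t c a = 1 ↔ (a : G) ∈ KK t c :=
  (QuotientGroup.eq_one_iff a).trans mem_subgroupOf

theorem pu_eq {t c : G} {a b : ↥(WW t c)} (e : pu t c a = pu t c b) : (a : G)⁻¹ * b ∈ KK t c :=
  mem_subgroupOf.1 (QuotientGroup.eq.1 e)

/-- The hypotheses. -/
structure Pack (t c : G) (M : Subgroup G) : Prop where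
  t_sq : t * t = 1
  t_ne : t ≠ 1
  c_ne : c ≠ 1
  c_mem : c ∈ M
  card : Nat.card ↥M = 27
  comm : ∀ a ∈ M, ∀ b ∈ M, a * b = b * a
  exp : ∀ a ∈ M, a ^ 3 = 1
  le : M ≤ WW t c
  cent : ∀ u ∈ M, u ∉ zpowers c → ∀ g ∈ WW t c, u⁻¹ * (g * u * g⁻¹) ∈ zpowers c →
    g ∈ normalizer (M : Set G)
  self : ∀ g ∈ WW t c, g ∈ normalizer (M : Set G) → (∃ k, g ^ 3 ^ k = 1) → g ∈ M

namespace Pack

variable {t c : G} {M : Subgroup G} (H : Pack t c M)
include H

theorem mem_KK {x : G} (hx : x ∈ KK t c) : ∃ i j : ℕ, x = c ^ i * t ^ j := by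
  have hn : zpowers t ≤ normalizer (zpowers c : Set G) := zpowers_le.2 (centralizer_le_normalizer _ (by
    refine mem_centralizer_iff.2 fun w hw => ?_
    obtain ⟨n, rfl⟩ := mem_zpowers_iff.1 hw
    exact ((show Commute c t from
      (mem_centralizer_singleton_iff.1 (mem_inf.1 (H.le H.c_mem)).2)).zpow_left n).eq))
  rw [← SetLike.mem_coe, Subgroup.coe_mul_of_right_le_normalizer_left _ _ hn, Set.mem_mul] at hx
  obtain ⟨u, hu, v, hv, rfl⟩ := hx
  have hc3 : c ^ 3 = 1 := H.exp c H.c_mem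
  obtain ⟨i, rfl⟩ := (Submonoid.mem_powers_iff _ _).1
    ((IsOfFinOrder.mem_powers_iff_mem_zpowers (isOfFinOrder_iff_pow_eq_one.2 ⟨3, by norm_num, hc3⟩)).2 hu)
  obtain ⟨j, rfl⟩ := (Submonoid.mem_powers_iff _ _).1
    ((IsOfFinOrder.mem_powers_iff_mem_zpowers (isOfFinOrder_iff_pow_eq_one.2 ⟨2, by norm_num, by
      rw [pow_two]; exact H.t_sq⟩)).2 hv)
  exact ⟨i, j, rfl⟩

/-- An element of exponent three congruent to an element of `M` lies in the same coset of `⟨c⟩`. -/
theorem congr_mem {m g : G} (hm : m ∈ M) (hg : g ^ 3 = 1) (hgt : g * t = t * g) (h : m⁻¹ * g ∈ KK t c) :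
    m⁻¹ * g ∈ zpowers c := by
  obtain ⟨i, j, e⟩ := H.mem_KK h
  have hmt : Commute m t := mem_centralizer_singleton_iff.1 (mem_inf.1 (H.le hm)).2
  have hmc : Commute m (c ^ i) := H.comm m hm _ (pow_mem H.c_mem i)
  have hct : Commute (c ^ i) (t ^ j) :=
    (show Commute c t from mem_centralizer_singleton_iff.1 (mem_inf.1 (H.le H.c_mem)).2).pow_pow i j
  have hge : g = m * c ^ i * t ^ j := by rw [mul_assoc, ← e, mul_inv_cancel_left]
  rw [hge, ((hmt.pow_right j).mul_left hct).mul_pow, hmc.mul_pow, H.exp m hm,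
    H.exp _ (pow_mem H.c_mem i), one_mul, one_mul, ← pow_mul] at hg
  have ht : t ^ j = 1 := by
    have h2 : (t ^ j) ^ 2 = 1 := by rw [← pow_mul, mul_comm, pow_mul, pow_two, H.t_sq, one_pow]
    have := pow_gcd_eq_one.2 ⟨h2, show (t ^ j) ^ 3 = 1 by rw [← pow_mul]; exact hg⟩
    rwa [show Nat.gcd 2 3 = 1 from rfl, pow_one] at this
  rw [e, ht, mul_one]
  exact pow_mem (mem_zpowers c) i

theorem zpowers_c_le : zpowers c ≤ M := zpowers_le.2 H.c_mem

variable [Finite G]

/-- An element normalising the image normalises `M`. -/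
theorem norm_of_image {g : ↥(WW t c)}
    (hg : pu t c g ∈ normalizer (((M.subgroupOf (WW t c)).map (pu t c) : Subgroup (QU t c)) : Set (QU t c))) :
    (g : G) ∈ normalizer (M : Set G) := by
  refine Subgroup.mem_normalizer_fintype fun m hm => ?_
  obtain ⟨a, ha, e⟩ := (mem_normalizer_iff.1 hg _).1 ⟨⟨m, H.le hm⟩, hm, rfl⟩
  rw [← map_inv, ← map_mul, ← map_mul] at e
  have h1 := pu_eq e
  push_cast at h1
  have h2 : Commute ((g : G) * m * (g : G)⁻¹) t := by
    have hgt : Commute (g : G) t := mem_centralizer_singleton_iff.1 (mem_inf.1 g.2).2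
    exact (hgt.mul_left (mem_centralizer_singleton_iff.1 (mem_inf.1 (H.le hm)).2)).mul_left hgt.inv_left
  have h3 := H.congr_mem ha (g := (g : G) * m * (g : G)⁻¹)
    (by rw [conj_pow, H.exp m hm, mul_one, mul_inv_cancel]) h2.eq h1
  rw [SetLike.mem_coe, show (g : G) * m * (g : G)⁻¹ = (a : G) * ((a : G)⁻¹ * ((g : G) * m * (g : G)⁻¹)) by group]
  exact mul_mem ha (H.zpowers_c_le h3)

/-- THEOREM: the Sylow subgroup. -/
theorem exists_nine : ∃ P : Sylow 3 (QU t c), (P : Subgroup (QU t c)) = (M.subgroupOf (WW t c)).map (pu t c) ∧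
    SelfNine.NineTI P ∧
    ∀ g : ↥(WW t c), pu t c g ∈ normalizer ((P : Subgroup (QU t c)) : Set (QU t c)) ↔
      (g : G) ∈ normalizer (M : Set G) := by
  classical
  haveI : Fact (Nat.Prime 3) := ⟨Nat.prime_three⟩
  set PM := (M.subgroupOf (WW t c)).map (pu t c) with hPM
  have hc3 : orderOf c = 3 := orderOf_eq_prime (H.exp c H.c_mem) H.c_ne
  have h9 : Nat.card ↥PM = 9 := by
    set f : ↥M →* QU t c := (pu t c).comp (Subgroup.inclusion H.le) with hf
    have hr : f.range = PM := by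
      ext g
      exact ⟨fun ⟨m, hm⟩ => ⟨_, m.2, hm⟩, fun ⟨a, ha, e⟩ => ⟨⟨a, ha⟩, e⟩⟩
    have hk : f.ker = (zpowers c).subgroupOf M := by
      ext m
      rw [MonoidHom.mem_ker, mem_subgroupOf]
      refine pu_eq_one.trans ⟨fun h => ?_, fun h => mem_sup_left h⟩
      have := H.congr_mem (one_mem M) (g := (m : G)) (H.exp m m.2)
        (mem_centralizer_singleton_iff.1 (mem_inf.1 (H.le m.2)).2)
        (by rw [inv_one, one_mul]; exact h)
      rwa [inv_one, one_mul] at this
    have h1 := f.ker.card_mul_index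
    rw [Subgroup.index_ker, hr, hk, Nat.card_congr (subgroupOfEquivOfLe H.zpowers_c_le).toEquiv,
      Nat.card_zpowers, hc3, H.card] at h1
    omega
  have hp : IsPGroup 3 ↥PM := IsPGroup.of_card (n := 2) (by rw [h9]; norm_num)
  have hmax : ∀ {T : Subgroup (QU t c)}, IsPGroup 3 ↥T → PM ≤ T → T = PM := by
    intro T hT hle
    by_contra hne
    haveI : Group.IsNilpotent ↥T := hT.isNilpotent
    have hlt : PM < T := lt_of_le_of_ne hle (Ne.symm hne)
    have hlt' : PM.subgroupOf T < normalizer ((PM.subgroupOf T : Subgroup ↥T) : Set ↥T) := by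
      refine Group.normalizerCondition_of_isNilpotent _ ?_
      rw [lt_top_iff_ne_top, Ne, subgroupOf_eq_top]
      exact hlt.not_ge
    obtain ⟨x, hx, hxP⟩ := SetLike.exists_of_lt hlt'
    obtain ⟨g, hgx⟩ := QuotientGroup.mk'_surjective _ (x : QU t c)
    have hxN : (x : QU t c) ∈ normalizer (PM : Set (QU t c)) := Subgroup.mem_normalizer_fintype fun w hw =>
      (mem_normalizer_iff.1 hx ⟨w, hle hw⟩).1 hw
    obtain ⟨k, hk⟩ := hT x
    have hk' : (g : G) ^ 3 ^ k ∈ KK t c := by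
      have h1 : pu t c (g ^ 3 ^ k) = 1 := by
        rw [map_pow, hgx, ← SubgroupClass.coe_pow, hk, OneMemClass.coe_one]
      have := pu_eq_one.1 h1
      push_cast at this
      exact this
    obtain ⟨i, j, e⟩ := H.mem_KK hk'
    set m := 3 ^ (k + 1) with hm
    have hgm : (g : G) ^ m = t ^ (3 * j) := by
      rw [hm, pow_succ, pow_mul, e,
        ((show Commute c t from mem_centralizer_singleton_iff.1 (mem_inf.1 (H.le H.c_mem)).2).pow_pow i j).mul_pow,
        H.exp _ (pow_mem H.c_mem i), one_mul, ← pow_mul, mul_comm]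
    have hsq : ((g : G) ^ m) ^ 2 = 1 := by
      rw [hgm, ← pow_mul, mul_comm, pow_mul, pow_two, H.t_sq, one_pow]
    have hgN : (g : G) * (g : G) ^ m ∈ normalizer (M : Set G) :=
      mul_mem (H.norm_of_image (hgx ▸ hxN)) (pow_mem (H.norm_of_image (hgx ▸ hxN)) m)
    have hg3 : ((g : G) * (g : G) ^ m) ^ 3 ^ (k + 1) = 1 := by
      rw [← hm, ← pow_succ', ← pow_mul]
      obtain ⟨q, hq⟩ : ∃ q, m + 1 = 2 * q := by
        have hodd : Odd m := by rw [hm]; exact Odd.pow (by decide)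
        obtain ⟨r, hr⟩ := hodd
        exact ⟨r + 1, by omega⟩
      rw [hq, show 2 * q * m = m * 2 * q by ring, pow_mul, pow_mul, hsq, one_pow]
    have hmem := H.self _ (mul_mem g.2 (pow_mem g.2 m)) hgN ⟨k + 1, hg3⟩
    refine hxP (mem_subgroupOf.2 ?_)
    refine ⟨⟨(g : G) * (g : G) ^ m, H.le hmem⟩, hmem, ?_⟩
    rw [← hgx]
    refine QuotientGroup.eq.2 (mem_subgroupOf.2 ?_)
    show ((g : G) * (g : G) ^ m)⁻¹ * (g : G) ∈ KK t c
    rw [show ((g : G) * (g : G) ^ m)⁻¹ * (g : G) = ((g : G) ^ m)⁻¹ by group, hgm]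
    exact inv_mem (mem_sup_right (pow_mem (mem_zpowers t) _))
  let P : Sylow 3 (QU t c) := { toSubgroup := PM, isPGroup' := hp, is_maximal' := fun hT hle => hmax hT hle }
  have hnorm : ∀ g : ↥(WW t c), pu t c g ∈ normalizer (PM : Set (QU t c)) ↔ (g : G) ∈ normalizer (M : Set G) := by
    intro g
    refine ⟨H.norm_of_image, fun hg => Subgroup.mem_normalizer_fintype ?_⟩
    rintro _ ⟨a, ha, rfl⟩
    refine ⟨g * a * g⁻¹, ?_, by rw [map_mul, map_mul, map_inv]⟩
    exact (mem_normalizer_iff.1 hg _).1 ha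
  have hPM3 : ∀ a ∈ PM, a ^ 3 = 1 := by
    rintro _ ⟨a, ha, rfl⟩
    rw [← map_pow, show a ^ 3 = 1 from Subtype.ext (H.exp a ha), map_one]
  refine ⟨P, rfl, ⟨h9, hPM3, ?_, ?_⟩, hnorm⟩
  · rintro _ ⟨a, ha, rfl⟩ _ ⟨b, hb, rfl⟩
    rw [← map_mul, ← map_mul]
    exact congrArg _ (Subtype.ext (H.comm a ha b hb))
  · rintro _ ⟨a, ha, rfl⟩ ha1 x hx
    obtain ⟨g, rfl⟩ := QuotientGroup.mk'_surjective _ x
    refine (hnorm g).2 ?_
    have hac : (a : G) ∉ zpowers c := fun h => ha1 (pu_eq_one.2 (mem_sup_left h))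
    refine H.cent a ha hac g g.2 ?_
    have e := mem_centralizer_singleton_iff.1 hx
    have h1 : pu t c (g * a * g⁻¹) = pu t c a := by rw [map_mul, map_mul, map_inv, e, mul_inv_cancel_right]
    have h2 := pu_eq h1.symm
    push_cast at h2
    refine H.congr_mem ha (by rw [conj_pow, H.exp a ha, mul_one, mul_inv_cancel]) ?_ h2
    have hgt : Commute (g : G) t := mem_centralizer_singleton_iff.1 (mem_inf.1 g.2).2
    exact ((hgt.mul_left (mem_centralizer_singleton_iff.1 (mem_inf.1 (H.le ha)).2)).mul_left hgt.inv_left).eq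

end Pack

end Cfsg.Agent.UThreeLocal.Cand
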