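import Cfsg.Agent.Lib.UThreeLocal.Cand.Coords
import Cfsg.Agent.Lib.LargeExtra.Affine
import Cfsg.Agent.Lib.Coprime.Generation

/-!
# The extraspecial group `R` of order `2⁹`

`R` is the product of the four conjugates of `L₂` belonging to the four points of `A`; every subgroup of
`C(r)` of order prime to three normalised by `⟨z, d⟩` lies in it.
-/

set_option autoImplicit false
set_option linter.unusedSectionVars false
set_option linter.style.haveILetI false
set_option maxRecDepth 100000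
set_option linter.unusedVariables false

namespace Cfsg.Agent.UThreeLocal.Cand

open Subgroup
open scoped commutatorElement
open Cfsg.Agent.NineSym
open Cfsg.Agent.PSpAmalgam (SL3 negOne)

universe u

theorem slq_sq : ∀ p : SL3, IsQ p → (p * p) * (p * p) = 1 := by decide +kernel

theorem slq_center : ∀ p : SL3, IsQ p → (∀ q, IsQ q → q * p = p * q) → p = 1 ∨ p = negOne := by decide +kernel

theorem slq_invol : ∀ p : SL3, p * p = 1 → p ≠ 1 → p = negOne := by decide +kernel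

theorem slq_noncomm : ∃ p q : SL3, IsQ p ∧ IsQ q ∧ q * p ≠ p * q := by decide +kernel

variable {G : Type u} [Group G]

theorem cj_cj (g h : G) (K : Subgroup G) : cj g (cj h K) = cj (g * h) K := by
  ext x
  rw [mem_cj, mem_cj, mem_cj, show h⁻¹ * (g⁻¹ * x * g) * h = (g * h)⁻¹ * x * (g * h) by group]

theorem cj_one (K : Subgroup G) : cj (1 : G) K = K := by
  ext x
  rw [mem_cj, inv_one, one_mul, mul_one]

theorem mem_normalizer_of_cj {g : G} {K : Subgroup G} (h : cj g K = K) : g ∈ normalizer (K : Set G) :=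
  mem_normalizer_iff.2 fun x =>
    ⟨fun hx => (SetLike.ext_iff.1 h _).1 (conj_mem_cj.2 hx), fun hx => conj_mem_cj.1 ((SetLike.ext_iff.1 h _).2 hx)⟩

theorem cj_of_mem_normalizer {g : G} {K : Subgroup G} (h : g ∈ normalizer (K : Set G)) : cj g K = K := by
  ext x
  rw [mem_cj]
  constructor
  · intro hx
    have h1 := (mem_normalizer_iff.1 h _).1 hx
    rwa [show g * (g⁻¹ * x * g) * g⁻¹ = x by group] at h1
  · intro hx
    exact (mem_normalizer_iff.1 h _).2 (by rwa [show g * (g⁻¹ * x * g) * g⁻¹ = x by group])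

theorem cj_zpowers (g x : G) : cj g (zpowers x) = zpowers (g * x * g⁻¹) := MonoidHom.map_zpowers _ _

/-- Subgroups which behave like central products of quaternion groups at `r`. -/
structure Good (r : G) (S : Subgroup G) : Prop where
  mem : r ∈ S
  fix : ∀ x ∈ S, x * r = r * x
  sq : ∀ x ∈ S, x * x = 1 ∨ x * x = r
  center : ∀ x ∈ S, (∀ y ∈ S, y * x = x * y) → x = 1 ∨ x = r

theorem Good.conj {r g : G} {S : Subgroup G} (h : Good r S) (hg : g * r = r * g) : Good r (cj g S) := by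
  have hr : g⁻¹ * r * g = r := by rw [mul_assoc, ← hg, inv_mul_cancel_left]
  have hback : ∀ w : G, g⁻¹ * w * g = r → w = r := fun w e => by
    calc w = g * (g⁻¹ * w * g) * g⁻¹ := by group
      _ = r := by rw [e, hg, mul_inv_cancel_right]
  refine ⟨mem_cj.2 (hr.symm ▸ h.mem), fun x hx => ?_, fun x hx => ?_, fun x hx hc => ?_⟩
  · have h1 := h.fix _ (mem_cj.1 hx)
    nth_rw 1 [← hr] at h1
    nth_rw 2 [← hr] at h1
    calc x * r = g * ((g⁻¹ * x * g) * (g⁻¹ * r * g)) * g⁻¹ := by group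
      _ = r * x := by rw [h1]; group
  · rcases h.sq _ (mem_cj.1 hx) with e | e <;>
      rw [show g⁻¹ * x * g * (g⁻¹ * x * g) = g⁻¹ * (x * x) * g by group] at e
    · left
      calc x * x = g * (g⁻¹ * (x * x) * g) * g⁻¹ := by group
        _ = 1 := by rw [e, mul_one, mul_inv_cancel]
    · exact Or.inr (hback _ e)
  · rcases h.center _ (mem_cj.1 hx) (fun y hy => by
      have h1 := hc _ (conj_mem_cj (g := g).2 hy)
      calc y * (g⁻¹ * x * g) = g⁻¹ * ((g * y * g⁻¹) * x) * g := by group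
        _ = g⁻¹ * x * g * y := by rw [h1]; group) with e | e
    · left
      calc x = g * (g⁻¹ * x * g) * g⁻¹ := by group
        _ = 1 := by rw [e, mul_one, mul_inv_cancel]
    · exact Or.inr (hback _ e)

variable [Finite G]

theorem Good.join {r : G} {S T : Subgroup G} (hS : Good r S) (hT : Good r T) (hr1 : r ≠ 1)
    (hc : ∀ s ∈ S, ∀ t ∈ T, s * t = t * s) :
    Good r (S ⊔ T) ∧ Nat.card ↥(S ⊔ T) * 2 = Nat.card ↥S * Nat.card ↥T := by
  classical
  have hn : T ≤ normalizer (S : Set G) := fun t ht => Subgroup.mem_normalizer_fintype fun s hs => by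
    rw [SetLike.mem_coe, ← hc s hs t ht, mul_inv_cancel_right]; exact hs
  have hdec : ∀ x ∈ S ⊔ T, ∃ s ∈ S, ∃ t ∈ T, s * t = x := fun x hx => by
    rwa [← SetLike.mem_coe, Subgroup.coe_mul_of_right_le_normalizer_left S T hn, Set.mem_mul] at hx
  have hrr : r * r = 1 := (hS.sq r hS.mem).resolve_right fun e => hr1 (mul_eq_left.1 e)
  refine ⟨⟨mem_sup_left hS.mem, fun x hx => ?_, fun x hx => ?_, fun x hx hxc => ?_⟩, ?_⟩
  · obtain ⟨s, hs, t, ht, rfl⟩ := hdec x hx
    exact ((show Commute s r from hS.fix s hs).mul_left (show Commute t r from hT.fix t ht)).eq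
  · obtain ⟨s, hs, t, ht, rfl⟩ := hdec x hx
    have e : s * t * (s * t) = (s * s) * (t * t) := by
      rw [mul_assoc, ← mul_assoc t, ← hc s hs t ht]; group
    rcases hS.sq s hs with e1 | e1 <;> rcases hT.sq t ht with e2 | e2 <;> rw [e, e1, e2] <;> simp [hrr]
  · obtain ⟨s, hs, t, ht, rfl⟩ := hdec x hx
    have hs1 := hS.center s hs fun y hy => by
      have h1 := hxc y (mem_sup_left hy)
      refine mul_right_cancel (b := t) ?_
      rw [mul_assoc, h1, mul_assoc, ← hc y hy t ht, ← mul_assoc]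
    have ht1 := hT.center t ht fun y hy => by
      have h1 := hxc y (mem_sup_right hy)
      refine mul_left_cancel (a := s) ?_
      rw [← mul_assoc, hc s hs y hy, mul_assoc, h1, mul_assoc]
    rcases hs1 with rfl | rfl <;> rcases ht1 with rfl | rfl <;> simp [hrr]
  · have hinf : S ⊓ T = zpowers r := by
      refine le_antisymm (fun x hx => ?_) (zpowers_le.2 ⟨hS.mem, hT.mem⟩)
      rcases hS.center x hx.1 fun y hy => hc y hy x hx.2 with e | e <;> subst e
      · exact one_mem _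
      · exact mem_zpowers _
    have h2 : Nat.card ↥(S ⊓ T) = 2 := by
      rw [hinf, Nat.card_zpowers, orderOf_eq_prime (p := 2) (by rw [pow_two, hrr]) hr1]
    rw [← h2]
    exact card_sup_mul_inf hn

variable {Z Q Q1 Q2 L1 L2 E : Subgroup G} {t1 t2 z y d a2 n b : G} {ψ : V3 → G}

theorem Dat.L2_facts (D : Dat Z Q Q1 Q2 L1 L2 E t1 t2 z y d a2) :
    Good t2 L2 ∧ ∃ x ∈ L2, ∃ y ∈ L2, y * x ≠ x * y := by
  classical
  have F := D.frame
  obtain ⟨π, hπ⟩ := exists_sl_action F D.z_mem D.z_ne F.L2_le F.L2_norm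
  have hinj : Function.Injective π := (injective_iff_map_eq_one π).2 fun l hl =>
    Subtype.ext (D.L2_triv l.2 ((hπ l).1 hl))
  have hQ : ∀ l : ↥L2, IsQ (π l) := fun l => (sl_eight (π l)).2.1 (by
    rw [← map_pow, show l ^ 8 = 1 from Subtype.ext (D.L2_pow l.2), map_one])
  have hbij : Function.Bijective (fun l : ↥L2 => (⟨π l, hQ l⟩ : {p : SL3 // IsQ p})) :=
    (Nat.bijective_iff_injective_and_card _).2 ⟨fun a c e => hinj (congrArg Subtype.val e),
      by rw [F.L2_card, Nat.card_eq_fintype_card, slq_card]⟩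
  have htwo : ∀ l ∈ L2, l * l = 1 ∨ l * l = t2 := fun l hl => by
    refine D.L2_invol (mul_mem hl hl) ?_
    refine congrArg Subtype.val (hinj (a₁ := (⟨l, hl⟩ * ⟨l, hl⟩) * (⟨l, hl⟩ * ⟨l, hl⟩)) (a₂ := (1 : ↥L2)) ?_)
    rw [map_mul, map_mul, map_one]
    exact slq_sq _ (hQ _)
  refine ⟨⟨F.t2_mem, fun l hl => (D.L2_t2 hl).symm, htwo, fun l hl hc => ?_⟩, ?_⟩
  · have hc' := slq_center (π ⟨l, hl⟩) (hQ _) fun q hq => by
      obtain ⟨m, hm⟩ := hbij.2 ⟨q, hq⟩
      have hm' : π m = q := congrArg Subtype.val hm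
      rw [← hm', ← map_mul, ← map_mul]
      exact congrArg π (Subtype.ext (hc m m.2))
    have ht : π ⟨t2, F.t2_mem⟩ = negOne := slq_invol _
      (by rw [← map_mul, show (⟨t2, F.t2_mem⟩ : ↥L2) * ⟨t2, F.t2_mem⟩ = 1 from Subtype.ext D.t2_sq, map_one])
      fun e => D.t2_ne (congrArg Subtype.val (hinj (e.trans (map_one π).symm)))
    rcases hc' with e | e
    · exact Or.inl (congrArg Subtype.val (hinj (e.trans (map_one π).symm)))
    · exact Or.inr (congrArg Subtype.val (hinj (e.trans ht.symm)))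
  · obtain ⟨p, q, hp, hq, hne⟩ := slq_noncomm
    obtain ⟨x, hx⟩ := hbij.2 ⟨p, hp⟩
    obtain ⟨w, hw⟩ := hbij.2 ⟨q, hq⟩
    refine ⟨x, x.2, w, w.2, fun e => hne ?_⟩
    have hx' : π x = p := congrArg Subtype.val hx
    have hw' : π w = q := congrArg Subtype.val hw
    rw [← hx', ← hw', ← map_mul, ← map_mul]
    exact congrArg π (Subtype.ext e)

/-- The elements carrying `Z` to the four points. -/
def gv (b n : G) : Fin 4 → G := ![1, n⁻¹, b * n⁻¹, b⁻¹ * n⁻¹]

/-- The four quaternion groups. -/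
def Lv (L2 : Subgroup G) (b n : G) (i : Fin 4) : Subgroup G := cj (gv b n i) L2

/-- Their product. -/
def Rd (L2 : Subgroup G) (b n : G) : Subgroup G := Lv L2 b n 0 ⊔ Lv L2 b n 1 ⊔ Lv L2 b n 2 ⊔ Lv L2 b n 3

theorem Lv_le_Rd (L2 : Subgroup G) (b n : G) : ∀ i, Lv L2 b n i ≤ Rd L2 b n := by
  intro i
  fin_cases i
  · exact le_sup_left.trans (le_sup_left.trans le_sup_left)
  · exact le_sup_right.trans (le_sup_left.trans le_sup_left)
  · exact le_sup_right.trans le_sup_left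
  · exact le_sup_right

theorem pv_moves : ∀ w : Wt, (w = nWA ∨ w = nWB) →
    ((wact w (pv 1) = pv 0 ∨ wact w (pv 1) = -pv 0) ∧ (wact w (pv 0) = pv 1 ∨ wact w (pv 0) = -pv 1)) ∧
    (((wact w (pv 2) = pv 2 ∨ wact w (pv 2) = -pv 2) ∧ (wact w (pv 3) = pv 3 ∨ wact w (pv 3) = -pv 3)) ∨
      ((wact w (pv 2) = pv 3 ∨ wact w (pv 2) = -pv 3) ∧ (wact w (pv 3) = pv 2 ∨ wact w (pv 3) = -pv 2))) := by
  decide +kernel

theorem v_ne : ((1, 1, 1) : V3) ≠ 0 ∧ ((0, 1, -1) : V3) ≠ 0 := by decide +kernel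

theorem cyc_moves : wact cycW (pv 0) = pv 0 ∧ wact cycW (pv 1) = pv 2 ∧ wact cycW (pv 2) = pv 3 ∧
    wact cycW (pv 3) = pv 1 := by decide +kernel

theorem dline_cases : ∀ k l : ZMod 3, l ≠ 0 → ∃ (j : Fin 3) (e : ZMod 3),
    (![((0, 1, -1) : V3), wact cycW (0, 1, -1), wact cycW (wact cycW (0, 1, -1))] j) =
      e • (k • ((1, 1, 1) : V3) + l • ((0, 1, -1) : V3)) := by decide +kernel

namespace Crd

variable {A : Subgroup G} (C : Crd Z Q1 A y d b n ψ)
include C

theorem smul_mem (e : ZMod 3) (v : V3) : ψ (e • v) ∈ zpowers (ψ v) := by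
  rcases pw_facts.2.2.2 e with h | h | h <;> subst h
  · rw [zero_smul, C.zero]; exact one_mem _
  · rw [one_smul]; exact mem_zpowers _
  · rw [neg_one_smul, C.neg]; exact inv_mem (mem_zpowers _)

theorem line_neg (v : V3) : zpowers (ψ (-v)) = zpowers (ψ v) := by rw [C.neg, zpowers_inv]

theorem cube (v : V3) : ψ v ^ 3 = 1 := by
  rw [pow_succ, pow_two, ← C.add, ← C.add, show v + v + v = 3 • v by abel, (v3_zero v).2, C.zero]

theorem comm (v w : V3) : Commute (ψ v) (ψ w) := by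
  show ψ v * ψ w = ψ w * ψ v
  rw [← C.add, ← C.add, add_comm]

theorem map_line {h : G} {v : V3} {i : Fin 4} (e : h * ψ v * h⁻¹ = ψ (pv i) ∨ h * ψ v * h⁻¹ = ψ (-pv i)) :
    cj h (zpowers (ψ v)) = zpowers (ψ (pv i)) := by
  rw [cj_zpowers]
  rcases e with e | e <;> rw [e]
  exact C.line_neg _

theorem b_map (i j : Fin 4) (hij : wact cycW (pv i) = pv j) :
    cj b (zpowers (ψ (pv i))) = zpowers (ψ (pv j)) := C.map_line (Or.inl (by rw [C.b_act, hij]))

theorem n_map {w : Wt} (hw : ∀ v, n * ψ v * n⁻¹ = ψ (wact w v)) (i j : Fin 4)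
    (hij : wact w (pv i) = pv j ∨ wact w (pv i) = -pv j) :
    cj n (zpowers (ψ (pv i))) = zpowers (ψ (pv j)) := C.map_line (hij.imp (fun e => by rw [hw, e]) fun e => by rw [hw, e])

theorem Z_eq (hZ : Nat.card ↥Z = 3) : Z = zpowers (ψ (pv 0)) :=
  (zpowers_eq_of_prime hZ C.p0 (C.ne_one v_ne.1)).symm

/-- The elements `gv` carry `Z` to the points. -/
theorem gv_map (hZ : Nat.card ↥Z = 3) (i : Fin 4) : cj (gv b n i) Z = zpowers (ψ (pv i)) := by
  obtain ⟨w, hw0, hw⟩ := C.n_act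
  have h1 : cj n⁻¹ (zpowers (ψ (pv 0))) = zpowers (ψ (pv 1)) := by
    rw [← C.n_map hw 1 0 (pv_moves w hw0).1.1, cj_cj, inv_mul_cancel, cj_one]
  rw [C.Z_eq hZ]
  fin_cases i
  · exact cj_one _
  · exact h1
  · show cj (b * n⁻¹) _ = _
    rw [← cj_cj, h1, C.b_map 1 2 cyc_moves.2.1]
    rfl
  · show cj (b⁻¹ * n⁻¹) _ = _
    rw [← cj_cj, h1, ← C.b_map 3 1 cyc_moves.2.2.2, cj_cj, inv_mul_cancel, cj_one]
    rfl

theorem gv_comm (hb : b * t2 = t2 * b) (hn : n * t2 = t2 * n) (i : Fin 4) : gv b n i * t2 = t2 * gv b n i := by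
  have hb' : Commute b t2 := hb
  have hn' : Commute n t2 := hn
  fin_cases i
  · exact (Commute.one_left t2).eq
  · exact hn'.inv_left.eq
  · exact (hb'.mul_left hn'.inv_left).eq
  · exact (hb'.inv_left.mul_left hn'.inv_left).eq

end Crd

variable (D : Dat Z Q Q1 Q2 L1 L2 E t1 t2 z y d a2) (U : Duo Z L2 E t2 z y d n)
  (C : Crd Z Q1 (E ⊓ centralizer ({t2} : Set G)) y d b n ψ)
include D U C

theorem b_cent : b * t2 = t2 * b := (D.t2_fix C.b_mem).symm

theorem gv_t2 (i : Fin 4) : gv b n i * t2 = t2 * gv b n i := C.gv_comm (b_cent D U C) U.nt i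

/-- An element of `C(r)` carrying one point to another carries the quaternion groups along. -/
theorem Lv_map {h : G} (hh : h * t2 = t2 * h) {i j : Fin 4}
    (e : cj h (zpowers (ψ (pv i))) = zpowers (ψ (pv j))) : cj h (Lv L2 b n i) = Lv L2 b n j := by
  have hZ := D.set.Z_card
  set c := (gv b n j)⁻¹ * h * gv b n i with hc
  have hcZ : c ∈ normalizer (Z : Set G) := mem_normalizer_of_cj (by
    rw [hc, ← cj_cj, ← cj_cj, C.gv_map hZ i, e, ← C.gv_map hZ j, cj_cj, inv_mul_cancel, cj_one])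
  have hct : c * t2 = t2 * c :=
    (((show Commute (gv b n j) t2 from gv_t2 D U C j).inv_left.mul_left (show Commute h t2 from hh)).mul_left
      (show Commute (gv b n i) t2 from gv_t2 D U C i)).eq
  have := cj_of_mem_normalizer (D.norm_L2 hcZ hct)
  show cj h (cj (gv b n i) L2) = cj (gv b n j) L2
  rw [cj_cj, show h * gv b n i = gv b n j * c by rw [hc]; group, ← cj_cj, this]

theorem Lv_comm {i j : Fin 4} (hij : i ≠ j) : ∀ x ∈ Lv L2 b n i, ∀ w ∈ Lv L2 b n j, x * w = w * x := by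
  obtain ⟨ω, hω0, hω⟩ := C.n_act
  let P : Fin 4 → Fin 4 → Prop := fun i j => ∀ x ∈ Lv L2 b n i, ∀ w ∈ Lv L2 b n j, x * w = w * x
  have hsymm : ∀ {i j}, P i j → P j i := fun h x hx w hw => (h w hw x hx).symm
  have hmove : ∀ {h : G} {i j i' j'}, h * t2 = t2 * h →
      cj h (zpowers (ψ (pv i))) = zpowers (ψ (pv i')) →
      cj h (zpowers (ψ (pv j))) = zpowers (ψ (pv j')) → P i j → P i' j' := by
    intro h i j i' j' hh ei ej hP x hx w hw
    rw [← Lv_map D U C hh ei, mem_cj] at hx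
    rw [← Lv_map D U C hh ej, mem_cj] at hw
    have := hP _ hx _ hw
    calc x * w = h * ((h⁻¹ * x * h) * (h⁻¹ * w * h)) * h⁻¹ := by group
      _ = w * x := by rw [this]; group
  have h01 : P 0 1 := fun x hx w hw => U.comm x (by rwa [Lv, show gv b n 0 = 1 from rfl, cj_one] at hx) w hw
  have hb := b_cent D U C
  have b0 := C.b_map 0 0 cyc_moves.1
  have b1 := C.b_map 1 2 cyc_moves.2.1
  have b2 := C.b_map 2 3 cyc_moves.2.2.1
  have h02 : P 0 2 := hmove hb b0 b1 h01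
  have h03 : P 0 3 := hmove hb b0 b2 h02
  have n0 := C.n_map hω 0 1 (pv_moves ω hω0).1.2
  have h12 : P 1 2 ∧ P 1 3 := by
    rcases (pv_moves ω hω0).2 with ⟨e2, e3⟩ | ⟨e2, e3⟩
    · exact ⟨hmove U.nt n0 (C.n_map hω 2 2 e2) h02, hmove U.nt n0 (C.n_map hω 3 3 e3) h03⟩
    · exact ⟨hmove U.nt n0 (C.n_map hω 3 2 e3) h03, hmove U.nt n0 (C.n_map hω 2 3 e2) h02⟩
  have h23 : P 2 3 := hmove hb b1 b2 h12.1
  fin_cases i <;> fin_cases j
  all_goals first
    | exact absurd rfl hij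
    | exact h01 | exact hsymm h01 | exact h02 | exact hsymm h02 | exact h03 | exact hsymm h03
    | exact h12.1 | exact hsymm h12.1 | exact h12.2 | exact hsymm h12.2 | exact h23 | exact hsymm h23

theorem Rd_facts : Good t2 (Rd L2 b n) ∧ Nat.card ↥(Rd L2 b n) = 512 ∧
    Cfsg.IsExtraspecial 2 ↥(Rd L2 b n) ∧ (center ↥(Rd L2 b n)).map (Rd L2 b n).subtype = zpowers t2 := by
  classical
  obtain ⟨hG, x0, hx0, w0, hw0, hne⟩ := D.L2_facts
  have hL : ∀ i, Good t2 (Lv L2 b n i) ∧ Nat.card ↥(Lv L2 b n i) = 8 := fun i =>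
    ⟨hG.conj (gv_t2 D U C i), by rw [Lv, card_cj, D.frame.L2_card]⟩
  have hc : ∀ {i j : Fin 4} {S : Subgroup G}, i ≠ j → S ≤ Lv L2 b n i →
      S ≤ centralizer ((Lv L2 b n j : Subgroup G) : Set G) := fun hij hS x hx =>
    mem_centralizer_iff.2 fun w hw => (Lv_comm D U C hij x (hS hx) w hw).symm
  obtain ⟨g1, c1⟩ := (hL 0).1.join (hL 1).1 D.t2_ne (Lv_comm D U C (by decide))
  obtain ⟨g2, c2⟩ := g1.join (hL 2).1 D.t2_ne fun x hx w hw => by
    have h1 := (sup_le (hc (by decide : (0 : Fin 4) ≠ 2) le_rfl) (hc (by decide : (1 : Fin 4) ≠ 2) le_rfl)) hx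
    exact (mem_centralizer_iff.1 h1 w hw).symm
  obtain ⟨g3, c3⟩ := g2.join (hL 3).1 D.t2_ne fun x hx w hw => by
    have h1 := (sup_le (sup_le (hc (by decide : (0 : Fin 4) ≠ 3) le_rfl) (hc (by decide : (1 : Fin 4) ≠ 3) le_rfl))
      (hc (by decide : (2 : Fin 4) ≠ 3) le_rfl)) hx
    exact (mem_centralizer_iff.1 h1 w hw).symm
  rw [(hL 0).2, (hL 1).2] at c1
  rw [(hL 2).2] at c2
  rw [(hL 3).2] at c3
  have hcard : Nat.card ↥(Rd L2 b n) = 512 := by
    show Nat.card ↥(Lv L2 b n 0 ⊔ Lv L2 b n 1 ⊔ Lv L2 b n 2 ⊔ Lv L2 b n 3) = 512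
    omega
  refine ⟨g3, hcard, LargeExtra.Affine.isExtraspecial_mk (z := t2) (IsPGroup.of_card (n := 9) (by rw [hcard]; norm_num))
    g3.mem D.t2_ne g3.fix g3.sq g3.center ⟨x0, ?_, w0, ?_, hne⟩, ?_⟩
  · exact Lv_le_Rd L2 b n 0 (by rwa [Lv, show gv b n 0 = 1 from rfl, cj_one])
  · exact Lv_le_Rd L2 b n 0 (by rwa [Lv, show gv b n 0 = 1 from rfl, cj_one])
  · refine le_antisymm ?_ (zpowers_le.2 ?_)
    · rintro _ ⟨u, hu, rfl⟩
      rcases g3.center u u.2 (fun w hw => congrArg Subtype.val (mem_center_iff.1 hu ⟨w, hw⟩)) with e | e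
      · show (u : G) ∈ _
        rw [e]; exact one_mem _
      · show (u : G) ∈ _
        rw [e]; exact mem_zpowers _
    · exact ⟨⟨t2, g3.mem⟩, mem_center_iff.2 fun u => Subtype.ext (g3.fix u u.2), rfl⟩

theorem Rd_le : Rd L2 b n ≤ centralizer ({t2} : Set G) := fun x hx =>
  mem_centralizer_singleton_iff.2 ((Rd_facts D U C).1.fix x hx)

theorem Rd_three : (Nat.card ↥(Rd L2 b n)).Coprime 3 := by
  rw [(Rd_facts D U C).2.1]; norm_num

/-- `C(d) ∩ C(r)` meets the signalizers in `R`. -/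
theorem sig_d {K : Subgroup G} (hK : (Nat.card ↥K).Coprime 3)
    (hle : K ≤ centralizer ({d} : Set G) ⊓ centralizer ({t2} : Set G)) (hz : z ∈ normalizer (K : Set G)) :
    K ≤ Rd L2 b n := by
  refine (U.sig K hK hle hz).trans (sup_le ?_ ?_)
  · have := Lv_le_Rd L2 b n 0
    rwa [Lv, show gv b n 0 = 1 from rfl, cj_one] at this
  · exact Lv_le_Rd L2 b n 1

theorem b_norm : b ∈ normalizer (Rd L2 b n : Set G) := by
  refine mem_normalizer_of_cj ?_
  have hb := b_cent D U C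
  rw [Rd, cj, Subgroup.map_sup, Subgroup.map_sup, Subgroup.map_sup]
  show cj b _ ⊔ cj b _ ⊔ cj b _ ⊔ cj b _ = _
  rw [Lv_map D U C hb (C.b_map 0 0 cyc_moves.1), Lv_map D U C hb (C.b_map 1 2 cyc_moves.2.1),
    Lv_map D U C hb (C.b_map 2 3 cyc_moves.2.2.1), Lv_map D U C hb (C.b_map 3 1 cyc_moves.2.2.2)]
  ac_rfl

theorem A_norm : E ⊓ centralizer ({t2} : Set G) ≤ normalizer (Rd L2 b n : Set G) := by
  intro a ha
  have hat : a * t2 = t2 * a := mem_centralizer_singleton_iff.1 (mem_inf.1 ha).2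
  obtain ⟨v, rfl⟩ := (C.mem a).1 ha
  refine mem_normalizer_of_cj ?_
  have hfix : ∀ i, cj (ψ v) (Lv L2 b n i) = Lv L2 b n i := fun i => Lv_map D U C hat (by
    rw [cj_zpowers, (C.comm v (pv i)).eq, mul_inv_cancel_right])
  rw [Rd, cj, Subgroup.map_sup, Subgroup.map_sup, Subgroup.map_sup]
  show cj _ _ ⊔ cj _ _ ⊔ cj _ _ ⊔ cj _ _ = _
  rw [hfix, hfix, hfix, hfix]

/-- A subgroup of `C(Z)` of order prime to three normalised by `d` is centralised by it. -/
theorem cent_of_norm {K : Subgroup G} (hK : (Nat.card ↥K).Coprime 3) (hle : K ≤ centralizer (Z : Set G))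
    (hd : d ∈ normalizer (K : Set G)) : K ≤ centralizer ({d} : Set G) := fun k hk => by
  have hdQ := D.frame.pair.le1 D.flag1.mem
  have hkK : d * k * d⁻¹ * k⁻¹ ∈ K := mul_mem ((mem_normalizer_iff.1 hd k).1 hk) (inv_mem hk)
  have hkQ : d * k * d⁻¹ * k⁻¹ ∈ Q := by
    rw [show d * k * d⁻¹ * k⁻¹ = d * (k * d⁻¹ * k⁻¹) by group]
    exact mul_mem hdQ (D.set.conj_mem (hle hk) (inv_mem hdQ))
  have h1 : (d * k * d⁻¹ * k⁻¹) ^ Nat.card ↥K = 1 :=
    congrArg Subtype.val (pow_card_eq_one' (x := (⟨_, hkK⟩ : ↥K)))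
  have h2 := pow_gcd_eq_one.2 ⟨h1, D.frame.cube _ hkQ⟩
  rw [hK.gcd_eq_one, pow_one] at h2
  exact mem_centralizer_singleton_iff.2 (mul_inv_eq_iff_eq_mul.1 (mul_inv_eq_one.1 h2)).symm

/-- THEOREM: the signalizers of `⟨z, d⟩` in `C(r)` lie in `R`. -/
theorem sig_strong {K : Subgroup G} (hK : (Nat.card ↥K).Coprime 3) (hle : K ≤ centralizer ({t2} : Set G))
    (hz : z ∈ normalizer (K : Set G)) (hd : d ∈ normalizer (K : Set G)) : K ≤ Rd L2 b n := by
  classical
  haveI : Fact (Nat.Prime 3) := ⟨Nat.prime_three⟩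
  have h := D.set
  have F := D.frame
  set W := Z ⊔ zpowers d with hW
  have hzd : ∀ w ∈ Z, Commute w d := fun w hw => (h.comm_Z (F.pair.le1 D.flag1.mem) hw)
  have hWA : W ≤ E ⊓ centralizer ({t2} : Set G) := sup_le
    (fun w hw => mem_inf.2 ⟨D.side.W_le (D.side.Z_le_W hw),
      mem_centralizer_singleton_iff.2 (mem_centralizer_iff.1 D.t2_cent w hw)⟩)
    (zpowers_le.2 (mem_inf.2 ⟨D.d_E, mem_centralizer_singleton_iff.2 (D.t2_fix D.flag1.mem).symm⟩))
  haveI : IsMulCommutative ↥W :=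
    ⟨⟨fun a c => Subtype.ext (D.side.comm (mem_inf.1 (hWA a.2)).1 (mem_inf.1 (hWA c.2)).1)⟩⟩
  have hW9 : Nat.card ↥W = 9 := F.card_flag D.flag1
  have hnc : ¬ IsCyclic ↥W := fun hcy => by
    obtain ⟨g, hg⟩ := hcy.exists_generator
    have h3 : g ^ 3 = 1 := Subtype.ext (D.side.exp (mem_inf.1 (hWA g.2)).1)
    have h9 : orderOf g = 9 := by rw [orderOf_eq_card_of_forall_mem_zpowers hg, hW9]
    have := Nat.le_of_dvd (by norm_num) (h9 ▸ orderOf_dvd_of_pow_eq_one h3)
    omega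
  have hWK : W ≤ normalizer (K : Set G) := sup_le
    (by rw [← zpowers_eq_of_prime h.Z_card D.z_mem D.z_ne]; exact zpowers_le.2 hz) (zpowers_le.2 hd)
  have hgen := Cfsg.Agent.Coprime.fixedGen_eq (A := W) (K := K) hnc hWK
    (by rw [hW9]; exact (Nat.Coprime.pow_right 2 hK).symm)
  rw [← hgen]
  refine iSup₂_le fun u ⟨huW, hu1⟩ => ?_
  set Ku := K ⊓ centralizer ({u} : Set G) with hKu
  have hKuc : (Nat.card ↥Ku).Coprime 3 := hK.coprime_dvd_left (card_dvd_of_le inf_le_left)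
  have hWKu : ∀ w ∈ W, w ∈ normalizer (Ku : Set G) := fun w hw => Subgroup.mem_normalizer_fintype fun k hk => by
    refine mem_inf.2 ⟨(mem_normalizer_iff.1 (hWK hw) k).1 (mem_inf.1 hk).1, mem_centralizer_singleton_iff.2 ?_⟩
    have hwu : Commute w u := D.side.comm (mem_inf.1 (hWA hw)).1 (mem_inf.1 (hWA huW)).1
    have hku : Commute k u := mem_centralizer_singleton_iff.1 (mem_inf.1 hk).2
    exact ((hwu.mul_left hku).mul_left hwu.inv_left).eq
  have hzW : z ∈ W := mem_sup_left D.z_mem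
  have hdW : d ∈ W := mem_sup_right (mem_zpowers d)
  by_cases huZ : u ∈ Z
  · have hKZ : Ku ≤ centralizer (Z : Set G) := fun k hk => mem_centralizer_iff.2 fun w hw => by
      obtain ⟨m, rfl⟩ := mem_zpowers_iff.1 ((zpowers_eq_of_prime h.Z_card huZ hu1).ge hw)
      exact ((show Commute u k from (mem_centralizer_singleton_iff.1 (mem_inf.1 hk).2).symm).zpow_left m).eq
    exact sig_d D U C hKuc (le_inf (cent_of_norm D U C hKuc hKZ (hWKu d hdW)) (inf_le_left.trans hle))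
      (hWKu z hzW)
  · -- a conjugate of `d` generates the same subgroup
    obtain ⟨k, l, hl, hu⟩ : ∃ k l : ZMod 3, l ≠ 0 ∧ u = ψ (k • ((1, 1, 1) : V3) + l • ((0, 1, -1) : V3)) := by
      obtain ⟨w, hw, i, rfl⟩ := mem_sup_zpowers (N := Z) (y := d) (zpowers_le.2
        (Subgroup.mem_normalizer_fintype fun v hv => by
          rw [SetLike.mem_coe, ← (hzd v hv).eq, mul_inv_cancel_right]; exact hv)) D.d_cube huW
      have hd0 : d ∈ zpowers (ψ (0, 1, -1)) := by
        rw [zpowers_eq_of_prime (by rw [Nat.card_zpowers, orderOf_eq_prime D.d_cube D.d_ne]) C.dline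
          (C.ne_one v_ne.2)]
        exact mem_zpowers d
      by_cases hv : d ^ (i : ℕ) = 1
      · exact absurd (by rw [hv, mul_one]; exact hw) huZ
      obtain ⟨k, hk⟩ : ∃ k : ZMod 3, w = ψ (k • ((1, 1, 1) : V3)) := by
        rcases zp_cases h.Z_card C.p0 (C.ne_one v_ne.1) hw with e | e | e
        · exact ⟨0, by rw [zero_smul, C.zero, e]⟩
        · exact ⟨1, by rw [one_smul, e]⟩
        · exact ⟨-1, by rw [neg_one_smul, C.neg, e]⟩
      obtain ⟨l, hl⟩ : ∃ l : ZMod 3, d ^ (i : ℕ) = ψ (l • ((0, 1, -1) : V3)) := by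
        rcases zp_cases (Z := zpowers (ψ (0, 1, -1)))
          (by rw [Nat.card_zpowers, orderOf_eq_prime (C.cube _) (C.ne_one v_ne.2)]) (mem_zpowers _)
          (C.ne_one v_ne.2) (pow_mem hd0 (i : ℕ)) with e | e | e
        · exact absurd e hv
        · exact ⟨1, by rw [one_smul, e]⟩
        · exact ⟨-1, by rw [neg_one_smul, C.neg, e]⟩
      refine ⟨k, l, fun e => hv (by rw [hl, e, zero_smul, C.zero]), ?_⟩
      rw [hk, hl, C.add]
    obtain ⟨j, e, hje⟩ := dline_cases k l hl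
    set c := ![1, b, b * b] j with hc
    have hdj : c * ψ (0, 1, -1) * c⁻¹ ∈ zpowers u := by
      rw [show c * ψ (0, 1, -1) * c⁻¹ =
        ψ (![((0, 1, -1) : V3), wact cycW (0, 1, -1), wact cycW (wact cycW (0, 1, -1))] j) by
          rw [hc]; fin_cases j
          · simp
          · exact C.b_act _
          · show b * b * ψ _ * (b * b)⁻¹ = _
            rw [show b * b * ψ (0, 1, -1) * (b * b)⁻¹ = b * (b * ψ (0, 1, -1) * b⁻¹) * b⁻¹ by group, C.b_act,
              C.b_act]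
            rfl, hje, hu]
      exact C.smul_mem e _
    have hbR := b_norm D U C
    have hcR : c ∈ normalizer (Rd L2 b n : Set G) := by
      rw [hc]; fin_cases j
      exacts [one_mem _, hbR, mul_mem hbR hbR]
    have hct : c * t2 = t2 * c := by
      have hb' : Commute b t2 := b_cent D U C
      rw [hc]; fin_cases j
      exacts [(Commute.one_left t2).eq, hb'.eq, (hb'.mul_left hb').eq]
    have hcz : c * z * c⁻¹ = z := by
      refine h.conj_Z ?_ D.z_mem
      have hbZ := h.Q_le (F.pair.le1 C.b_mem)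
      rw [hc]; fin_cases j
      exacts [one_mem _, hbZ, mul_mem hbZ hbZ]
    have hle' : cj c⁻¹ Ku ≤ centralizer ({d} : Set G) ⊓ centralizer ({t2} : Set G) := by
      intro x hx
      rw [mem_cj, inv_inv] at hx
      obtain ⟨hxK, hxu⟩ := mem_inf.1 hx
      refine mem_inf.2 ⟨mem_centralizer_singleton_iff.2 ?_, mem_centralizer_singleton_iff.2 ?_⟩
      · obtain ⟨m, hm⟩ := mem_zpowers_iff.1 hdj
        have h1 : Commute (c * x * c⁻¹) (u ^ m) :=
          (show Commute (c * x * c⁻¹) u from mem_centralizer_singleton_iff.1 hxu).zpow_right m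
        rw [hm] at h1
        have h2 : Commute x (ψ (0, 1, -1)) := by
          have := h1.map (MulAut.conj c⁻¹).toMonoidHom
          simpa [mul_assoc] using this
        obtain ⟨q, hq⟩ := mem_zpowers_iff.1 (show d ∈ zpowers (ψ (0, 1, -1)) by
          rw [zpowers_eq_of_prime (by rw [Nat.card_zpowers, orderOf_eq_prime D.d_cube D.d_ne]) C.dline
            (C.ne_one v_ne.2)]
          exact mem_zpowers d)
        exact hq ▸ (h2.zpow_right q).eq
      · have h1 : Commute (c * x * c⁻¹) t2 := mem_centralizer_singleton_iff.1 (hle hxK)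
        have h2 : Commute c t2 := hct
        have := (h2.inv_left.mul_left h1).mul_left h2
        rw [show c⁻¹ * (c * x * c⁻¹) * c = x by group] at this
        exact this.eq
    have h1 := sig_d D U C (by rw [card_cj]; exact hKuc) hle' (Subgroup.mem_normalizer_fintype fun x hx => by
      rw [SetLike.mem_coe, mem_cj, inv_inv] at hx ⊢
      rw [show c * (z * x * z⁻¹) * c⁻¹ = (c * z * c⁻¹) * (c * x * c⁻¹) * (c * z * c⁻¹)⁻¹ by group, hcz]
      exact (mem_normalizer_iff.1 (hWKu z hzW) _).1 hx)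
    intro x hx
    have h2 := h1 (conj_mem_cj (g := c⁻¹).2 hx)
    have h3 := (mem_normalizer_iff.1 hcR _).1 h2
    rwa [show c * (c⁻¹ * x * c⁻¹⁻¹) * c⁻¹ = x by group] at h3

/-- An element of `C(r)` pulling `z` and `d` into `N(R)` normalises `R`. -/
theorem norm_Rd {g : G} (hg : g * t2 = t2 * g) (hz : g⁻¹ * z * g ∈ normalizer (Rd L2 b n : Set G))
    (hd : g⁻¹ * d * g ∈ normalizer (Rd L2 b n : Set G)) : g ∈ normalizer (Rd L2 b n : Set G) := by
  have hN : ∀ w : G, g⁻¹ * w * g ∈ normalizer (Rd L2 b n : Set G) →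
      w ∈ normalizer ((cj g (Rd L2 b n) : Subgroup G) : Set G) := fun w hw =>
    Subgroup.mem_normalizer_fintype fun x hx => by
      rw [SetLike.mem_coe, mem_cj] at hx ⊢
      have h1 := (mem_normalizer_iff.1 hw _).1 hx
      rwa [show g⁻¹ * w * g * (g⁻¹ * x * g) * (g⁻¹ * w * g)⁻¹ = g⁻¹ * (w * x * w⁻¹) * g by group] at h1
  have hle : cj g (Rd L2 b n) ≤ centralizer ({t2} : Set G) := by
    intro x hx
    rw [mem_cj] at hx
    have h1 : Commute (g⁻¹ * x * g) t2 := mem_centralizer_singleton_iff.1 (Rd_le D U C hx)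
    have h2 : Commute g t2 := hg
    have := (h2.mul_left h1).mul_left h2.inv_left
    rw [show g * (g⁻¹ * x * g) * g⁻¹ = x by group] at this
    exact mem_centralizer_singleton_iff.2 this.eq
  have h3 := sig_strong D U C (by rw [card_cj]; exact Rd_three D U C) hle (hN z hz) (hN d hd)
  exact mem_normalizer_of_cj (Subgroup.eq_of_le_of_card_ge h3 (by rw [card_cj]))

theorem zd_A : z ∈ E ⊓ centralizer ({t2} : Set G) ∧ d ∈ E ⊓ centralizer ({t2} : Set G) :=
  ⟨mem_inf.2 ⟨D.z_E, mem_centralizer_singleton_iff.2 (D.z_cent D.t2_cent).symm⟩,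
    mem_inf.2 ⟨D.d_E, mem_centralizer_singleton_iff.2 (D.t2_fix D.flag1.mem).symm⟩⟩

theorem norm_A_Rd : normalizer ((E ⊓ centralizer ({t2} : Set G) : Subgroup G) : Set G) ⊓
    centralizer ({t2} : Set G) ≤ normalizer (Rd L2 b n : Set G) := fun g hg => by
  obtain ⟨hgA, hgt⟩ := mem_inf.1 hg
  have hconj : ∀ w ∈ E ⊓ centralizer ({t2} : Set G), g⁻¹ * w * g ∈ normalizer (Rd L2 b n : Set G) := fun w hw => by
    have h1 := (mem_normalizer_iff.1 (inv_mem hgA) w).1 hw
    rw [inv_inv] at h1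
    exact A_norm D U C h1
  exact norm_Rd D U C (mem_centralizer_singleton_iff.1 hgt) (hconj z (zd_A D U C).1) (hconj d (zd_A D U C).2)

theorem Q1_Rd : Q1 ≤ normalizer (Rd L2 b n : Set G) := fun q hq => by
  have hqQ := D.frame.pair.le1 hq
  have hdQ := D.frame.pair.le1 D.flag1.mem
  refine norm_Rd D U C (D.t2_fix hq).symm ?_ ?_
  · have h1 := D.set.conj_Z (D.set.Q_le (inv_mem hqQ)) D.z_mem
    rw [inv_inv] at h1
    rw [h1]; exact A_norm D U C (zd_A D U C).1
  · have hm : ⁅q⁻¹, d⁆ ∈ Z := D.set.comm_mem (inv_mem hqQ) hdQ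
    rw [show q⁻¹ * d * q = ⁅q⁻¹, d⁆ * d by rw [commutatorElement_def]; group]
    exact A_norm D U C (mul_mem (mem_inf.2 ⟨D.side.W_le (D.side.Z_le_W hm),
      mem_centralizer_singleton_iff.2 (mem_centralizer_iff.1 D.t2_cent _ hm)⟩) (zd_A D U C).2)

theorem norm_Z_Rd : normalizer (Z : Set G) ⊓ centralizer ({t2} : Set G) ≤ normalizer (Rd L2 b n : Set G) :=
  fun g hg => by
  obtain ⟨hgZ, hgt⟩ := mem_inf.1 hg
  have hgt' : g * t2 = t2 * g := mem_centralizer_singleton_iff.1 hgt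
  have h1 := (mem_normalizer_iff.1 (inv_mem hgZ) z).1 D.z_mem
  have h2 := (mem_normalizer_iff.1 (inv_mem (D.norm_Q1 hgZ hgt')) d).1 D.flag1.mem
  rw [inv_inv] at h1 h2
  exact norm_Rd D U C hgt' (Q1_Rd D U C (D.frame.pair.Z1 h1)) (Q1_Rd D U C h2)

theorem cent_d_Rd : centralizer ({d} : Set G) ⊓ centralizer ({t2} : Set G) ≤ normalizer (Rd L2 b n : Set G) :=
  fun g hg => by
  obtain ⟨s, hs, hsg⟩ := U.frat g hg
  have hle : L2 ⊔ cj n⁻¹ L2 ≤ Rd L2 b n := sup_le (by
    have := Lv_le_Rd L2 b n 0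
    rwa [Lv, show gv b n 0 = 1 from rfl, cj_one] at this) (Lv_le_Rd L2 b n 1)
  have hsR := hle hs
  rw [← mul_inv_cancel_left s g]
  exact mul_mem (le_normalizer hsR) (norm_A_Rd D U C (mem_inf.2 ⟨hsg,
    mul_mem (inv_mem (Rd_le D U C hsR)) (mem_inf.1 hg).2⟩))

theorem gv_norm (i : Fin 4) : gv b n i ∈ normalizer (Rd L2 b n : Set G) := by
  have hb := b_norm D U C
  have hn : n⁻¹ ∈ normalizer (Rd L2 b n : Set G) :=
    inv_mem (norm_A_Rd D U C (mem_inf.2 ⟨U.nA, mem_centralizer_singleton_iff.2 U.nt⟩))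
  fin_cases i
  exacts [one_mem _, hn, mul_mem hb hn, mul_mem (inv_mem hb) hn]

/-- The centralizer of a point in `R` is its quaternion group. -/
theorem cent_pv (i : Fin 4) : Rd L2 b n ⊓ centralizer ({ψ (pv i)} : Set G) = Lv L2 b n i := by
  classical
  have base : Rd L2 b n ⊓ centralizer (Z : Set G) = L2 := by
    have hL2R : L2 ≤ Rd L2 b n := by
      have := Lv_le_Rd L2 b n 0
      rwa [Lv, show gv b n 0 = 1 from rfl, cj_one] at this
    refine le_antisymm (fun x hx => ?_) (le_inf hL2R D.frame.L2_le)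
    set K := Rd L2 b n ⊓ centralizer (Z : Set G) with hK
    have hKc : (Nat.card ↥K).Coprime 3 := (Rd_three D U C).coprime_dvd_left (card_dvd_of_le inf_le_left)
    have hdn : d ∈ normalizer (K : Set G) := Subgroup.mem_normalizer_fintype fun k hk => mem_inf.2
      ⟨(mem_normalizer_iff.1 (A_norm D U C (zd_A D U C).2) k).1 (mem_inf.1 hk).1,
        mul_mem (mul_mem (D.set.Q_le (D.frame.pair.le1 D.flag1.mem)) (mem_inf.1 hk).2)
          (inv_mem (D.set.Q_le (D.frame.pair.le1 D.flag1.mem)))⟩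
    have hxd := mem_centralizer_singleton_iff.1 (cent_of_norm D U C hKc inf_le_right hdn hx)
    obtain ⟨l, hl, q, hq, j, e⟩ := D.cent_d (mem_inf.1 hx).2 hxd
    have htT : q * y ^ (j : ℕ) ∈ D.T := D.mem_T.2 ⟨q, hq, j, rfl⟩
    have htK : q * y ^ (j : ℕ) ∈ K := by
      rw [show q * y ^ (j : ℕ) = l⁻¹ * x by rw [e]; group]
      exact mul_mem (inv_mem (mem_inf.2 ⟨hL2R hl, D.frame.L2_le hl⟩)) hx
    have h1 : (q * y ^ (j : ℕ)) ^ Nat.card ↥K = 1 :=
      congrArg Subtype.val (pow_card_eq_one' (x := (⟨_, htK⟩ : ↥K)))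
    have h2 : (q * y ^ (j : ℕ)) ^ Nat.card ↥D.T = 1 :=
      congrArg Subtype.val (pow_card_eq_one' (x := (⟨_, htT⟩ : ↥D.T)))
    rw [D.card_T] at h2
    have h3 := pow_gcd_eq_one.2 ⟨h1, h2⟩
    rw [show (243 : ℕ) = 3 ^ 5 by norm_num, (Nat.Coprime.pow_right 5 hKc).gcd_eq_one, pow_one] at h3
    rw [e, h3, mul_one]; exact hl
  have hZc : centralizer (((cj (gv b n i) Z : Subgroup G)) : Set G) = centralizer ({ψ (pv i)} : Set G) := by
    rw [C.gv_map D.set.Z_card i]
    ext x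
    rw [mem_centralizer_singleton_iff, mem_centralizer_iff]
    refine ⟨fun hx => (hx _ (mem_zpowers _)).symm, fun hx w hw => ?_⟩
    obtain ⟨m, rfl⟩ := mem_zpowers_iff.1 hw
    exact ((show Commute (ψ (pv i)) x from hx.symm).zpow_left m).eq
  rw [← hZc, cj_centralizer]
  have hR : cj (gv b n i) (Rd L2 b n) = Rd L2 b n := cj_of_mem_normalizer (gv_norm D U C i)
  nth_rw 1 [← hR]
  show _ = cj (gv b n i) L2
  conv_rhs => rw [← base]
  exact (Subgroup.map_inf _ _ (MulAut.conj (gv b n i)).toMonoidHom (MulAut.conj (gv b n i)).injective).symm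

/-- `R ∩ C(A) = ⟨r⟩`. -/
theorem Rd_cent_A : Rd L2 b n ⊓ centralizer ((E ⊓ centralizer ({t2} : Set G) : Subgroup G) : Set G) ≤
    zpowers t2 := by
  intro x hx
  have hmem : ∀ i, x ∈ Lv L2 b n i := fun i => by
    rw [← cent_pv D U C i]
    exact mem_inf.2 ⟨(mem_inf.1 hx).1,
      mem_centralizer_singleton_iff.2 (mem_centralizer_iff.1 (mem_inf.1 hx).2 _ (C.mem' _)).symm⟩
  have hG := (D.L2_facts).1.conj (gv_t2 D U C 0)
  rcases hG.center x (hmem 0) (fun w hw => Lv_comm D U C (by decide : (0 : Fin 4) ≠ 1) w hw x (hmem 1)) with e | e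
  · rw [e]; exact one_mem _
  · rw [e]; exact mem_zpowers _

end Cfsg.Agent.UThreeLocal.Cand
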